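/- The root-system facts for the table of type E6, checked by the kernel. -/
import Cfsg.Agent.H63.RSSound

set_option autoImplicit false

namespace H63

open Cfsg.Lie

def e6hT : ℕ := 0x60520040e9007984005f390034f800392a001edf00748b00577a002d390012ee003811000dd0007372002c20006bb3004d640033190008d8006bb4004173002728002b5a0001190066bb001f69004c4b00220a0007bf00405a000bf100619d00475200448c001a4b002a410055ac0065a2003b6100389b001e500073fc003f9300782e005de30033a2006084001932007ed40054930058c5003e7a001439007715004cd400328900143a0053cd000c7b00721d0047dc006cff0052b4002873000b6200610e0046c3004af50020b4000669003f04001f9b
def e6mask : ℕ := mkMask 72 e6hT 32749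
def e6T : ℕ := mkT chevE6
/-- The certificate for type E6. -/
def certE6 : Cert where
  tab := 0x808090a0b0a0a090808090a0b0a09090808090a0a0a0909080809090a0a0909080808090a0a09090808090a0a090909080809090a090909080808090a090909080809090909090908080809090909090808080809090909080809090909080908080809090908090808080809090809080808080809080908080808080808090808090a0a090908080809090a090908080808090a09090808080909090909080808080909090908080808080909090808080909090809080808080909080908080808080908090808080808080809080808090909090808080808090909080808080808090908080808080808090808080809090908080808080809090808080808080809080808080809090808080808080809080808080808090808080808080807080808080808080807080808080808070708080808080808080708080808080807070808080808070707080808080808080807080808080808070708080808080707070808080807070707080808080808080807080808080807080708080808070708070808080707070807080808080807070708080808070707070808080707070707080808080706070708080807070607070808080706060707080808080808080807080808080807080708080808070708070808080707070807080807070707080708080808070707070808080707070707080807070707070708080807060707070808070706070707080807060607070708080807060607070808070706060707080807060606070708080706050607070808070605060607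
  lenT := 0x555555555555555555555555555555555555
  wT := 0x2a41001a4b00475200405a001f69006bb3
  hT := e6hT
  P := 32749
  mask := e6mask
  T := e6T
  L := [[2, 0, -1, 0, 0, 0], [0, 2, 0, -1, 0, 0], [0, 0, 3, -2, 0, 0], [0, 0, 0, 5, -6, 0], [0, 0, 0, 0, 4, -5], [0, 0, 0, 0, 0, 1]]
  dd := [30, 30, 10, 2, 3, 45]
  c := 60
  par := [0, 3, 0, 2, 3, 4]
  dep := [0, 3, 1, 2, 3, 4]
theorem smallE6 : certE6.small chevE6 = true := by decide +kernel
theorem carRowE6 : allLt chevE6.rank (certE6.cartanRow chevE6) = true := by decide +kernel
theorem rootE6 : allLt chevE6.nroots (certE6.root chevE6) = true := by decide +kernel
theorem rowE6 : allLt chevE6.nroots (certE6.row chevE6) = true := by decide +kernel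

noncomputable instance rsE6 : RS chevE6 := Cert.toRS certE6 chevE6 smallE6 carRowE6 rootE6 rowE6

theorem rt_E6 (r : Rt chevE6) (i : Fin chevE6.rank) : rt r i = certE6.rtc r i := rfl
theorem len_E6 (r : Rt chevE6) : len r = certE6.lenc r := rfl

end H63
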