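/- The root-system facts for the table of type F4, checked by the kernel. -/
import Cfsg.Agent.H63.RSSound

set_option autoImplicit false

namespace H63

open Cfsg.Lie

def f4hT : ℕ := 0x2278001e5c001a540000d200274d002345001f29002cc2001340000f38000b1c0035b3003197002d8f00140d003f30003b2800370c0021a6001d8a00198200082400040800041c003be1003bf50037d900267b002273001e570008f10004d50000cd002bf000126e000e66000a4a0034e10030c5002cbd00133b0020d4001cb80018b0003f2b0025a90021a1001d85
def f4mask : ℕ := mkMask 48 f4hT 16381
def f4T : ℕ := mkT chevF4
/-- The certificate for type F4. -/
def certF4 : Cert where
  tab := 0x80808080a0b0c0a08080808090b0c0a08080808090a0c0a08080808090a0b0a08080808090a0a0a0808080809090a0a0808080808090a0a08080808090a0b0908080808090a0a090808080809090a090808080808090a09080808080909090908080808080909090808080808080909080808080808080908080808090a0a080808080809090a080808080808090a08080808080909090808080808080909080808080808080908080808080909080808080808080908080808080809080808080808080708080808080808080708080808080807070808080808080808070808080808080707080808080807070708080808080807060808080808070706080808080807060608080808080808080708080808080807070808080808070707080808080707070708080808080706070808080807070607080808080706060708080808070605070808080808070606080808080707060608080808070606060808080807060506080808080706040608080808070504060808080806050406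
  lenT := 0xa9a95556a56aa95a95556a6a
  wT := 0x41c00040800198200140d
  hT := f4hT
  P := 16381
  mask := f4mask
  T := f4T
  L := [[2, -1, 0, 0], [0, 3, -4, 0], [0, 0, 2, -3], [0, 0, 0, 1]]
  dd := [3, 1, 2, 6]
  c := 6
  par := [0, 0, 1, 2]
  dep := [0, 1, 2, 3]
theorem smallF4 : certF4.small chevF4 = true := by decide +kernel
theorem carRowF4 : allLt chevF4.rank (certF4.cartanRow chevF4) = true := by decide +kernel
theorem rootF4 : allLt chevF4.nroots (certF4.root chevF4) = true := by decide +kernel
theorem rowF4 : allLt chevF4.nroots (certF4.row chevF4) = true := by decide +kernel

noncomputable instance rsF4 : RS chevF4 := Cert.toRS certF4 chevF4 smallF4 carRowF4 rootF4 rowF4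

theorem rt_F4 (r : Rt chevF4) (i : Fin chevF4.rank) : rt r i = certF4.rtc r i := rfl
theorem len_F4 (r : Rt chevF4) : len r = certF4.lenc r := rfl

end H63
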