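/- The Poincaré polynomial of the Weyl group of type E6. -/
import Cfsg.Agent.H63.Poin
import Cfsg.Agent.H63.RSE6

set_option autoImplicit false

namespace H63

open Cfsg.Lie

def levE6_0 : List (List (List ℤ)) :=
  [[[-1, 0, 1, 0, 0, 0]]]
theorem stepE6_0 : stepOK chevE6 0 [] levE6_0 = true := by decide +kernel
theorem lenE6_0 : levE6_0.map List.length = [1] := by decide +kernel

def levE6_1 : List (List (List ℤ)) :=
  [[[1, 0, -1, 1, 0, 0]], [[-1, 0, 0, 1, 0, 0]]]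
theorem stepE6_1 : stepOK chevE6 2 [0] levE6_1 = true := by decide +kernel
theorem lenE6_1 : levE6_1.map List.length = [1, 1] := by decide +kernel

def levE6_2 : List (List (List ℤ)) :=
  [[[0, 1, 1, -1, 1, 0]], [[1, 1, -1, 0, 1, 0]], [[-1, 1, 0, 0, 1, 0]]]
theorem stepE6_2 : stepOK chevE6 3 [2, 0] levE6_2 = true := by decide +kernel
theorem lenE6_2 : levE6_2.map List.length = [1, 1, 1] := by decide +kernel

def levE6_3 : List (List (List ℤ)) :=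
  [[[0, 0, 0, 1, -1, 1]], [[0, 1, 1, -1, 0, 1]], [[1, 1, -1, 0, 0, 1]], [[-1, 1, 0, 0, 0, 1]]]
theorem stepE6_3 : stepOK chevE6 4 [3, 2, 0] levE6_3 = true := by decide +kernel
theorem lenE6_3 : levE6_3.map List.length = [1, 1, 1, 1] := by decide +kernel

def levE6_4 : List (List (List ℤ)) :=
  [[[0, -1, 0, 1, 0, 0]], [[0, 0, 1, -1, 1, 0]], [[0, 0, 1, 0, -1, 1], [1, 0, -1, 0, 1, 0]], [[1, 0, -1, 1, -1, 1], [-1, 0, 0, 0, 1, 0]], [[1, 1, 0, -1, 0, 1], [-1, 0, 0, 1, -1, 1]], [[1, -1, 0, 0, 0, 1], [-1, 1, 1, -1, 0, 1]], [[-1, -1, 1, 0, 0, 1], [0, 1, -1, 0, 0, 1]], [[0, -1, -1, 1, 0, 1]], [[0, 0, 0, -1, 1, 1]], [[0, 0, 0, 0, -1, 2]]]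
theorem stepE6_4 : stepOK chevE6 1 [4, 3, 2, 0] levE6_4 = true := by decide +kernel
theorem lenE6_4 : levE6_4.map List.length = [1, 1, 2, 2, 2, 2, 2, 1, 1, 1] := by decide +kernel

def levE6_5 : List (List (List ℤ)) :=
  [[[0, 0, 0, 0, 1, -1]], [[0, 0, 0, 1, -1, 0]], [[0, 1, 1, -1, 0, 0]], [[0, -1, 1, 0, 0, 0], [1, 1, -1, 0, 0, 0]], [[1, -1, -1, 1, 0, 0], [-1, 1, 0, 0, 0, 0]], [[1, 0, 0, -1, 1, 0], [-1, -1, 0, 1, 0, 0]], [[1, 0, 0, 0, -1, 1], [-1, 0, 1, -1, 1, 0]], [[1, 0, 0, 0, 0, -1], [-1, 0, 1, 0, -1, 1], [0, 0, -1, 0, 1, 0]], [[-1, 0, 1, 0, 0, -1], [0, 0, -1, 1, -1, 1]], [[0, 0, -1, 1, 0, -1], [0, 1, 0, -1, 0, 1]], [[0, 1, 0, -1, 1, -1], [0, -1, 0, 0, 0, 1]], [[0, -1, 0, 0, 1, -1], [0, 1, 0, 0, -1, 0]], [[0, -1, 0, 1, -1, 0]], [[0, 0, 1, -1, 0, 0]], [[1, 0, -1, 0, 0, 0]], [[-1, 0, 0, 0, 0, 0]]]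
theorem stepE6_5 : stepOK chevE6 5 [1, 4, 3, 2, 0] levE6_5 = true := by decide +kernel
theorem lenE6_5 : levE6_5.map List.length = [1, 1, 1, 2, 2, 2, 2, 3, 2, 2, 2, 2, 1, 1, 1, 1] := by decide +kernel

theorem poinE6_prod {A : Type*} [CommSemiring A] [Fintype (wdata chevE6).W] (t : A) :
    ∑ w : (wdata chevE6).W, t ^ (wdata chevE6).len w =
      horner t [1, 1, 1, 1, 2, 2, 2, 2, 3, 2, 2, 2, 2, 1, 1, 1, 1] * (horner t [1, 1, 1, 2, 2, 2, 2, 2, 1, 1, 1] * (horner t [1, 1, 1, 1, 1] * (horner t [1, 1, 1, 1] * (horner t [1, 1, 1] * (horner t [1, 1] * 1))))) := by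
  rw [poinJ_univ t (J := [5, 1, 4, 3, 2, 0]) (by decide), poinJ_cons t stepE6_5, lenE6_5, poinJ_cons t stepE6_4, lenE6_4, poinJ_cons t stepE6_3, lenE6_3, poinJ_cons t stepE6_2, lenE6_2, poinJ_cons t stepE6_1, lenE6_1, poinJ_cons t stepE6_0, lenE6_0, poinJ_nil]

/-- The Poincaré polynomial of the Weyl group of type E6. -/
theorem poinE6 {A : Type*} [CommRing A] [Fintype (wdata chevE6).W] (t : A) :
    (∑ w : (wdata chevE6).W, t ^ (wdata chevE6).len w) * (t - 1) ^ 6 =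
      (t ^ 2 - 1) * (t ^ 5 - 1) * (t ^ 6 - 1) * (t ^ 8 - 1) * (t ^ 9 - 1) * (t ^ 12 - 1) := by
  rw [poinE6_prod]
  simp only [horner]
  push_cast
  ring

theorem card_W_E6 : Nat.card (wdata chevE6).W = 51840 := by
  classical
  have := Fintype.ofFinite (wdata chevE6).W
  have h := poinE6_prod (1 : ℕ)
  simp only [one_pow, Finset.sum_const, smul_eq_mul, mul_one, Finset.card_univ] at h
  rw [Nat.card_eq_fintype_card, h]
  simp [horner]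

end H63
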