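/- The Poincaré polynomial of the Weyl group of type E7. -/
import Cfsg.Agent.H63.Poin
import Cfsg.Agent.H63.RSE7

set_option autoImplicit false

namespace H63

open Cfsg.Lie

def levE7_0 : List (List (List ℤ)) :=
  [[[-1, 0, 1, 0, 0, 0, 0]]]
theorem stepE7_0 : stepOK chevE7 0 [] levE7_0 = true := by decide +kernel
theorem lenE7_0 : levE7_0.map List.length = [1] := by decide +kernel

def levE7_1 : List (List (List ℤ)) :=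
  [[[1, 0, -1, 1, 0, 0, 0]], [[-1, 0, 0, 1, 0, 0, 0]]]
theorem stepE7_1 : stepOK chevE7 2 [0] levE7_1 = true := by decide +kernel
theorem lenE7_1 : levE7_1.map List.length = [1, 1] := by decide +kernel

def levE7_2 : List (List (List ℤ)) :=
  [[[0, 1, 1, -1, 1, 0, 0]], [[1, 1, -1, 0, 1, 0, 0]], [[-1, 1, 0, 0, 1, 0, 0]]]
theorem stepE7_2 : stepOK chevE7 3 [2, 0] levE7_2 = true := by decide +kernel
theorem lenE7_2 : levE7_2.map List.length = [1, 1, 1] := by decide +kernel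

def levE7_3 : List (List (List ℤ)) :=
  [[[0, 0, 0, 1, -1, 1, 0]], [[0, 1, 1, -1, 0, 1, 0]], [[1, 1, -1, 0, 0, 1, 0]], [[-1, 1, 0, 0, 0, 1, 0]]]
theorem stepE7_3 : stepOK chevE7 4 [3, 2, 0] levE7_3 = true := by decide +kernel
theorem lenE7_3 : levE7_3.map List.length = [1, 1, 1, 1] := by decide +kernel

def levE7_4 : List (List (List ℤ)) :=
  [[[0, -1, 0, 1, 0, 0, 0]], [[0, 0, 1, -1, 1, 0, 0]], [[0, 0, 1, 0, -1, 1, 0], [1, 0, -1, 0, 1, 0, 0]], [[1, 0, -1, 1, -1, 1, 0], [-1, 0, 0, 0, 1, 0, 0]], [[1, 1, 0, -1, 0, 1, 0], [-1, 0, 0, 1, -1, 1, 0]], [[1, -1, 0, 0, 0, 1, 0], [-1, 1, 1, -1, 0, 1, 0]], [[-1, -1, 1, 0, 0, 1, 0], [0, 1, -1, 0, 0, 1, 0]], [[0, -1, -1, 1, 0, 1, 0]], [[0, 0, 0, -1, 1, 1, 0]], [[0, 0, 0, 0, -1, 2, 0]]]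
theorem stepE7_4 : stepOK chevE7 1 [4, 3, 2, 0] levE7_4 = true := by decide +kernel
theorem lenE7_4 : levE7_4.map List.length = [1, 1, 2, 2, 2, 2, 2, 1, 1, 1] := by decide +kernel

def levE7_5 : List (List (List ℤ)) :=
  [[[0, 0, 0, 0, 1, -1, 1]], [[0, 0, 0, 1, -1, 0, 1]], [[0, 1, 1, -1, 0, 0, 1]], [[0, -1, 1, 0, 0, 0, 1], [1, 1, -1, 0, 0, 0, 1]], [[1, -1, -1, 1, 0, 0, 1], [-1, 1, 0, 0, 0, 0, 1]], [[1, 0, 0, -1, 1, 0, 1], [-1, -1, 0, 1, 0, 0, 1]], [[1, 0, 0, 0, -1, 1, 1], [-1, 0, 1, -1, 1, 0, 1]], [[1, 0, 0, 0, 0, -1, 2], [-1, 0, 1, 0, -1, 1, 1], [0, 0, -1, 0, 1, 0, 1]], [[-1, 0, 1, 0, 0, -1, 2], [0, 0, -1, 1, -1, 1, 1]], [[0, 0, -1, 1, 0, -1, 2], [0, 1, 0, -1, 0, 1, 1]], [[0, 1, 0, -1, 1, -1, 2], [0, -1, 0, 0, 0, 1, 1]], [[0, -1, 0, 0, 1, -1, 2], [0, 1, 0, 0, -1, 0, 2]], [[0, -1, 0, 1, -1, 0, 2]],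 [[0, 0, 1, -1, 0, 0, 2]], [[1, 0, -1, 0, 0, 0, 2]], [[-1, 0, 0, 0, 0, 0, 2]]]
theorem stepE7_5 : stepOK chevE7 5 [1, 4, 3, 2, 0] levE7_5 = true := by decide +kernel
theorem lenE7_5 : levE7_5.map List.length = [1, 1, 1, 2, 2, 2, 2, 3, 2, 2, 2, 2, 1, 1, 1, 1] := by decide +kernel

def levE7_6 : List (List (List ℤ)) :=
  [[[0, 0, 0, 0, 0, 1, -1]], [[0, 0, 0, 0, 1, -1, 0]], [[0, 0, 0, 1, -1, 0, 0]], [[0, 1, 1, -1, 0, 0, 0]], [[0, -1, 1, 0, 0, 0, 0], [1, 1, -1, 0, 0, 0, 0]], [[1, -1, -1, 1, 0, 0, 0], [-1, 1, 0, 0, 0, 0, 0]], [[1, 0, 0, -1, 1, 0, 0], [-1, -1, 0, 1, 0, 0, 0]], [[1, 0, 0, 0, -1, 1, 0], [-1, 0, 1, -1, 1, 0, 0]], [[1, 0, 0, 0, 0, -1, 1], [-1, 0, 1, 0, -1, 1, 0], [0, 0, -1, 0, 1, 0, 0]], [[1, 0, 0, 0, 0, 0, -1], [-1, 0, 1, 0, 0, -1, 1], [0, 0, -1, 1, -1, 1, 0]], [[-1, 0, 1, 0, 0, 0, -1], [0,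 0, -1, 1, 0, -1, 1], [0, 1, 0, -1, 0, 1, 0]], [[0, 0, -1, 1, 0, 0, -1], [0, 1, 0, -1, 1, -1, 1], [0, -1, 0, 0, 0, 1, 0]], [[0, 1, 0, -1, 1, 0, -1], [0, -1, 0, 0, 1, -1, 1], [0, 1, 0, 0, -1, 0, 1]], [[0, -1, 0, 0, 1, 0, -1], [0, 1, 0, 0, -1, 1, -1], [0, -1, 0, 1, -1, 0, 1]], [[0, -1, 0, 1, -1, 1, -1], [0, 1, 0, 0, 0, -1, 0], [0, 0, 1, -1, 0, 0, 1]], [[0, -1, 0, 1, 0, -1, 0], [0, 0, 1, -1, 0, 1, -1], [1, 0, -1, 0, 0, 0, 1]], [[0, 0, 1, -1, 1, -1, 0], [1, 0, -1, 0, 0, 1, -1], [-1, 0, 0, 0, 0, 0, 1]], [[0, 0, 1, 0, -1, 0, 0], [1, 0, -1, 0, 1, -1, 0], [-1, 0, 0, 0, 0, 1, -1]], [[1, 0, -1, 1, -1, 0, 0], [-1, 0, 0, 0, 1, -1, 0]], [[1, 1, 0, -1, 0, 0, 0], [-1, 0, 0, 1, -1, 0, 0]], [[1, -1, 0, 0, 0, 0, 0], [-1, 1, 1, -1, 0, 0, 0]], [[-1, -1, 1, 0, 0, 0, 0], [0, 1, -1, 0, 0, 0, 0]], [[0, -1, -1, 1, 0, 0,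 0]], [[0, 0, 0, -1, 1, 0, 0]], [[0, 0, 0, 0, -1, 1, 0]], [[0, 0, 0, 0, 0, -1, 1]], [[0, 0, 0, 0, 0, 0, -1]]]
theorem stepE7_6 : stepOK chevE7 6 [5, 1, 4, 3, 2, 0] levE7_6 = true := by decide +kernel
theorem lenE7_6 : levE7_6.map List.length = [1, 1, 1, 1, 2, 2, 2, 2, 3, 3, 3, 3, 3, 3, 3, 3, 3, 3, 2, 2, 2, 2, 1, 1, 1, 1, 1] := by decide +kernel

theorem poinE7_prod {A : Type*} [CommSemiring A] [Fintype (wdata chevE7).W] (t : A) :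
    ∑ w : (wdata chevE7).W, t ^ (wdata chevE7).len w =
      horner t [1, 1, 1, 1, 1, 2, 2, 2, 2, 3, 3, 3, 3, 3, 3, 3, 3, 3, 3, 2, 2, 2, 2, 1, 1, 1, 1, 1] * (horner t [1, 1, 1, 1, 2, 2, 2, 2, 3, 2, 2, 2, 2, 1, 1, 1, 1] * (horner t [1, 1, 1, 2, 2, 2, 2, 2, 1, 1, 1] * (horner t [1, 1, 1, 1, 1] * (horner t [1, 1, 1, 1] * (horner t [1, 1, 1] * (horner t [1, 1] * 1)))))) := by
  rw [poinJ_univ t (J := [6, 5, 1, 4, 3, 2, 0]) (by decide), poinJ_cons t stepE7_6, lenE7_6, poinJ_cons t stepE7_5, lenE7_5, poinJ_cons t stepE7_4, lenE7_4, poinJ_cons t stepE7_3, lenE7_3, poinJ_cons t stepE7_2, lenE7_2, poinJ_cons t stepE7_1, lenE7_1, poinJ_cons t stepE7_0, lenE7_0, poinJ_nil]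

/-- The Poincaré polynomial of the Weyl group of type E7. -/
theorem poinE7 {A : Type*} [CommRing A] [Fintype (wdata chevE7).W] (t : A) :
    (∑ w : (wdata chevE7).W, t ^ (wdata chevE7).len w) * (t - 1) ^ 7 =
      (t ^ 2 - 1) * (t ^ 6 - 1) * (t ^ 8 - 1) * (t ^ 10 - 1) * (t ^ 12 - 1) * (t ^ 14 - 1) * (t ^ 18 - 1) := by
  rw [poinE7_prod]
  simp only [horner]
  push_cast
  ring

theorem card_W_E7 : Nat.card (wdata chevE7).W = 2903040 := by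
  classical
  have := Fintype.ofFinite (wdata chevE7).W
  have h := poinE7_prod (1 : ℕ)
  simp only [one_pow, Finset.sum_const, smul_eq_mul, mul_one, Finset.card_univ] at h
  rw [Nat.card_eq_fintype_card, h]
  simp [horner]

end H63
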