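/- The Poincaré polynomial of the Weyl group of type E8. -/
import Cfsg.Agent.H63.Poin
import Cfsg.Agent.H63.RSE8

set_option autoImplicit false

namespace H63

open Cfsg.Lie

def levE8_0 : List (List (List ℤ)) :=
  [[[-1, 0, 1, 0, 0, 0, 0, 0]]]
theorem stepE8_0 : stepOK chevE8 0 [] levE8_0 = true := by decide +kernel
theorem lenE8_0 : levE8_0.map List.length = [1] := by decide +kernel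

def levE8_1 : List (List (List ℤ)) :=
  [[[1, 0, -1, 1, 0, 0, 0, 0]], [[-1, 0, 0, 1, 0, 0, 0, 0]]]
theorem stepE8_1 : stepOK chevE8 2 [0] levE8_1 = true := by decide +kernel
theorem lenE8_1 : levE8_1.map List.length = [1, 1] := by decide +kernel

def levE8_2 : List (List (List ℤ)) :=
  [[[0, 1, 1, -1, 1, 0, 0, 0]], [[1, 1, -1, 0, 1, 0, 0, 0]], [[-1, 1, 0, 0, 1, 0, 0, 0]]]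
theorem stepE8_2 : stepOK chevE8 3 [2, 0] levE8_2 = true := by decide +kernel
theorem lenE8_2 : levE8_2.map List.length = [1, 1, 1] := by decide +kernel

def levE8_3 : List (List (List ℤ)) :=
  [[[0, 0, 0, 1, -1, 1, 0, 0]], [[0, 1, 1, -1, 0, 1, 0, 0]], [[1, 1, -1, 0, 0, 1, 0, 0]], [[-1, 1, 0, 0, 0, 1, 0, 0]]]
theorem stepE8_3 : stepOK chevE8 4 [3, 2, 0] levE8_3 = true := by decide +kernel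
theorem lenE8_3 : levE8_3.map List.length = [1, 1, 1, 1] := by decide +kernel

def levE8_4 : List (List (List ℤ)) :=
  [[[0, -1, 0, 1, 0, 0, 0, 0]], [[0, 0, 1, -1, 1, 0, 0, 0]], [[0, 0, 1, 0, -1, 1, 0, 0], [1, 0, -1, 0, 1, 0, 0, 0]], [[1, 0, -1, 1, -1, 1, 0, 0], [-1, 0, 0, 0, 1, 0, 0, 0]], [[1, 1, 0, -1, 0, 1, 0, 0], [-1, 0, 0, 1, -1, 1, 0, 0]], [[1, -1, 0, 0, 0, 1, 0, 0], [-1, 1, 1, -1, 0, 1, 0, 0]], [[-1, -1, 1, 0, 0, 1, 0, 0], [0, 1, -1, 0, 0, 1, 0, 0]], [[0, -1, -1, 1, 0, 1, 0, 0]], [[0, 0, 0, -1, 1, 1, 0, 0]], [[0, 0, 0, 0, -1, 2, 0, 0]]]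
theorem stepE8_4 : stepOK chevE8 1 [4, 3, 2, 0] levE8_4 = true := by decide +kernel
theorem lenE8_4 : levE8_4.map List.length = [1, 1, 2, 2, 2, 2, 2, 1, 1, 1] := by decide +kernel

def levE8_5 : List (List (List ℤ)) :=
  [[[0, 0, 0, 0, 1, -1, 1, 0]], [[0, 0, 0, 1, -1, 0, 1, 0]], [[0, 1, 1, -1, 0, 0, 1, 0]], [[0, -1, 1, 0, 0, 0, 1, 0], [1, 1, -1, 0, 0, 0, 1, 0]], [[1, -1, -1, 1, 0, 0, 1, 0], [-1, 1, 0, 0, 0, 0, 1, 0]], [[1, 0, 0, -1, 1, 0, 1, 0], [-1, -1, 0, 1, 0, 0, 1, 0]], [[1, 0, 0, 0, -1, 1, 1, 0], [-1, 0, 1, -1, 1, 0, 1, 0]], [[1, 0, 0, 0, 0, -1, 2, 0], [-1, 0, 1, 0, -1, 1, 1, 0], [0, 0, -1, 0, 1, 0, 1, 0]], [[-1, 0, 1, 0, 0, -1, 2, 0], [0, 0, -1, 1, -1, 1, 1, 0]], [[0, 0, -1, 1, 0, -1, 2, 0], [0, 1, 0, -1, 0, 1, 1, 0]],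 [[0, 1, 0, -1, 1, -1, 2, 0], [0, -1, 0, 0, 0, 1, 1, 0]], [[0, -1, 0, 0, 1, -1, 2, 0], [0, 1, 0, 0, -1, 0, 2, 0]], [[0, -1, 0, 1, -1, 0, 2, 0]], [[0, 0, 1, -1, 0, 0, 2, 0]], [[1, 0, -1, 0, 0, 0, 2, 0]], [[-1, 0, 0, 0, 0, 0, 2, 0]]]
theorem stepE8_5 : stepOK chevE8 5 [1, 4, 3, 2, 0] levE8_5 = true := by decide +kernel
theorem lenE8_5 : levE8_5.map List.length = [1, 1, 1, 2, 2, 2, 2, 3, 2, 2, 2, 2, 1, 1, 1, 1] := by decide +kernel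

def levE8_6 : List (List (List ℤ)) :=
  [[[0, 0, 0, 0, 0, 1, -1, 1]], [[0, 0, 0, 0, 1, -1, 0, 1]], [[0, 0, 0, 1, -1, 0, 0, 1]], [[0, 1, 1, -1, 0, 0, 0, 1]], [[0, -1, 1, 0, 0, 0, 0, 1], [1, 1, -1, 0, 0, 0, 0, 1]], [[1, -1, -1, 1, 0, 0, 0, 1], [-1, 1, 0, 0, 0, 0, 0, 1]], [[1, 0, 0, -1, 1, 0, 0, 1], [-1, -1, 0, 1, 0, 0, 0, 1]], [[1, 0, 0, 0, -1, 1, 0, 1], [-1, 0, 1, -1, 1, 0, 0, 1]], [[1, 0, 0, 0, 0, -1, 1, 1], [-1, 0, 1, 0, -1, 1, 0, 1], [0, 0, -1, 0, 1, 0, 0, 1]], [[1, 0, 0, 0, 0, 0, -1, 2], [-1, 0, 1, 0, 0, -1, 1, 1], [0, 0, -1, 1, -1, 1, 0, 1]], [[-1, 0, 1, 0, 0, 0, -1, 2], [0, 0, -1, 1, 0, -1, 1, 1], [0, 1, 0, -1, 0, 1, 0, 1]], [[0, 0, -1, 1, 0, 0, -1, 2], [0, 1, 0, -1, 1, -1, 1, 1], [0, -1, 0, 0, 0, 1, 0, 1]], [[0, 1, 0,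 -1, 1, 0, -1, 2], [0, -1, 0, 0, 1, -1, 1, 1], [0, 1, 0, 0, -1, 0, 1, 1]], [[0, -1, 0, 0, 1, 0, -1, 2], [0, 1, 0, 0, -1, 1, -1, 2], [0, -1, 0, 1, -1, 0, 1, 1]], [[0, -1, 0, 1, -1, 1, -1, 2], [0, 1, 0, 0, 0, -1, 0, 2], [0, 0, 1, -1, 0, 0, 1, 1]], [[0, -1, 0, 1, 0, -1, 0, 2], [0, 0, 1, -1, 0, 1, -1, 2], [1, 0, -1, 0, 0, 0, 1, 1]], [[0, 0, 1, -1, 1, -1, 0, 2], [1, 0, -1, 0, 0, 1, -1, 2], [-1, 0, 0, 0, 0, 0, 1, 1]], [[0, 0, 1, 0, -1, 0, 0, 2], [1, 0, -1, 0, 1, -1, 0, 2], [-1, 0, 0, 0, 0, 1, -1, 2]], [[1, 0, -1, 1, -1, 0, 0, 2], [-1, 0, 0, 0, 1, -1, 0, 2]], [[1, 1, 0, -1, 0, 0, 0, 2], [-1, 0, 0, 1, -1, 0, 0, 2]], [[1, -1, 0, 0, 0, 0, 0, 2], [-1, 1, 1, -1, 0, 0, 0, 2]], [[-1, -1, 1, 0, 0, 0, 0, 2], [0, 1, -1, 0, 0, 0, 0, 2]], [[0,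 -1, -1, 1, 0, 0, 0, 2]], [[0, 0, 0, -1, 1, 0, 0, 2]], [[0, 0, 0, 0, -1, 1, 0, 2]], [[0, 0, 0, 0, 0, -1, 1, 2]], [[0, 0, 0, 0, 0, 0, -1, 3]]]
theorem stepE8_6 : stepOK chevE8 6 [5, 1, 4, 3, 2, 0] levE8_6 = true := by decide +kernel
theorem lenE8_6 : levE8_6.map List.length = [1, 1, 1, 1, 2, 2, 2, 2, 3, 3, 3, 3, 3, 3, 3, 3, 3, 3, 2, 2, 2, 2, 1, 1, 1, 1, 1] := by decide +kernel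

def levE8_7 : List (List (List ℤ)) :=
  [[[0, 0, 0, 0, 0, 0, 1, -1]], [[0, 0, 0, 0, 0, 1, -1, 0]], [[0, 0, 0, 0, 1, -1, 0, 0]], [[0, 0, 0, 1, -1, 0, 0, 0]], [[0, 1, 1, -1, 0, 0, 0, 0]], [[0, -1, 1, 0, 0, 0, 0, 0], [1, 1, -1, 0, 0, 0, 0, 0]], [[1, -1, -1, 1, 0, 0, 0, 0], [-1, 1, 0, 0, 0, 0, 0, 0]], [[1, 0, 0, -1, 1, 0, 0, 0], [-1, -1, 0, 1, 0, 0, 0, 0]], [[1, 0, 0, 0, -1, 1, 0, 0], [-1, 0, 1, -1, 1, 0, 0, 0]], [[1, 0, 0, 0, 0, -1, 1, 0], [-1, 0, 1, 0, -1, 1, 0, 0], [0, 0, -1, 0, 1, 0, 0, 0]], [[1, 0, 0, 0, 0, 0, -1, 1], [-1, 0, 1, 0, 0, -1, 1, 0], [0, 0, -1, 1, -1, 1, 0, 0]], [[1, 0, 0, 0, 0, 0, 0, -1], [-1, 0, 1, 0, 0, 0, -1, 1], [0, 0, -1, 1, 0, -1, 1, 0], [0, 1, 0, -1, 0, 1, 0, 0]], [[-1, 0, 1, 0, 0, 0, 0, -1], [0, 0, -1,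 1, 0, 0, -1, 1], [0, 1, 0, -1, 1, -1, 1, 0], [0, -1, 0, 0, 0, 1, 0, 0]], [[0, 0, -1, 1, 0, 0, 0, -1], [0, 1, 0, -1, 1, 0, -1, 1], [0, -1, 0, 0, 1, -1, 1, 0], [0, 1, 0, 0, -1, 0, 1, 0]], [[0, 1, 0, -1, 1, 0, 0, -1], [0, -1, 0, 0, 1, 0, -1, 1], [0, 1, 0, 0, -1, 1, -1, 1], [0, -1, 0, 1, -1, 0, 1, 0]], [[0, -1, 0, 0, 1, 0, 0, -1], [0, 1, 0, 0, -1, 1, 0, -1], [0, -1, 0, 1, -1, 1, -1, 1], [0, 1, 0, 0, 0, -1, 0, 1], [0, 0, 1, -1, 0, 0, 1, 0]], [[0, -1, 0, 1, -1, 1, 0, -1], [0, 1, 0, 0, 0, -1, 1, -1], [0, -1, 0, 1, 0, -1, 0, 1], [0, 0, 1, -1, 0, 1, -1, 1], [1, 0, -1, 0, 0, 0, 1, 0]], [[0, -1, 0, 1, 0, -1, 1, -1], [0, 0, 1, -1, 0, 1, 0, -1], [0, 1, 0, 0, 0, 0, -1, 0], [0, 0, 1, -1, 1, -1, 0, 1], [1, 0, -1, 0, 0, 1, -1, 1], [-1, 0, 0,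 0, 0, 0, 1, 0]], [[0, -1, 0, 1, 0, 0, -1, 0], [0, 0, 1, -1, 1, -1, 1, -1], [1, 0, -1, 0, 0, 1, 0, -1], [0, 0, 1, 0, -1, 0, 0, 1], [1, 0, -1, 0, 1, -1, 0, 1], [-1, 0, 0, 0, 0, 1, -1, 1]], [[0, 0, 1, -1, 1, 0, -1, 0], [0, 0, 1, 0, -1, 0, 1, -1], [1, 0, -1, 0, 1, -1, 1, -1], [-1, 0, 0, 0, 0, 1, 0, -1], [1, 0, -1, 1, -1, 0, 0, 1], [-1, 0, 0, 0, 1, -1, 0, 1]], [[0, 0, 1, 0, -1, 1, -1, 0], [1, 0, -1, 0, 1, 0, -1, 0], [1, 0, -1, 1, -1, 0, 1, -1], [-1, 0, 0, 0, 1, -1, 1, -1], [1, 1, 0, -1, 0, 0, 0, 1], [-1, 0, 0, 1, -1, 0, 0, 1]], [[0, 0, 1, 0, 0, -1, 0, 0], [1, 0, -1, 1, -1, 1, -1, 0], [-1, 0, 0, 0, 1, 0, -1, 0], [1, 1, 0, -1, 0, 0, 1, -1], [-1, 0, 0, 1, -1, 0, 1, -1], [1, -1, 0, 0, 0, 0, 0, 1], [-1, 1, 1, -1, 0, 0, 0, 1]], [[1, 0,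 -1, 1, 0, -1, 0, 0], [1, 1, 0, -1, 0, 1, -1, 0], [-1, 0, 0, 1, -1, 1, -1, 0], [1, -1, 0, 0, 0, 0, 1, -1], [-1, 1, 1, -1, 0, 0, 1, -1], [-1, -1, 1, 0, 0, 0, 0, 1], [0, 1, -1, 0, 0, 0, 0, 1]], [[1, 1, 0, -1, 1, -1, 0, 0], [-1, 0, 0, 1, 0, -1, 0, 0], [1, -1, 0, 0, 0, 1, -1, 0], [-1, 1, 1, -1, 0, 1, -1, 0], [-1, -1, 1, 0, 0, 0, 1, -1], [0, 1, -1, 0, 0, 0, 1, -1], [0, -1, -1, 1, 0, 0, 0, 1]], [[1, -1, 0, 0, 1, -1, 0, 0], [1, 1, 0, 0, -1, 0, 0, 0], [-1, 1, 1, -1, 1, -1, 0, 0], [-1, -1, 1, 0, 0, 1, -1, 0], [0, 1, -1, 0, 0, 1, -1, 0], [0, -1, -1, 1, 0, 0, 1, -1], [0, 0, 0, -1, 1, 0, 0, 1]], [[1, -1, 0, 1, -1, 0, 0, 0], [-1, -1, 1, 0, 1, -1, 0, 0], [-1, 1, 1, 0, -1, 0, 0, 0], [0, 1, -1, 0, 1, -1, 0, 0], [0, -1, -1, 1, 0, 1, -1, 0], [0,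 0, 0, -1, 1, 0, 1, -1], [0, 0, 0, 0, -1, 1, 0, 1]], [[1, 0, 1, -1, 0, 0, 0, 0], [-1, -1, 1, 1, -1, 0, 0, 0], [0, -1, -1, 1, 1, -1, 0, 0], [0, 1, -1, 1, -1, 0, 0, 0], [0, 0, 0, -1, 1, 1, -1, 0], [0, 0, 0, 0, -1, 1, 1, -1], [0, 0, 0, 0, 0, -1, 1, 1]], [[2, 0, -1, 0, 0, 0, 0, 0], [-1, 0, 2, -1, 0, 0, 0, 0], [0, -1, -1, 2, -1, 0, 0, 0], [0, 0, 0, -1, 2, -1, 0, 0], [0, 2, 0, -1, 0, 0, 0, 0], [0, 0, 0, 0, -1, 2, -1, 0], [0, 0, 0, 0, 0, -1, 2, -1], [0, 0, 0, 0, 0, 0, -1, 2]], [[-2, 0, 1, 0, 0, 0, 0, 0], [1, 0, -2, 1, 0, 0, 0, 0], [0, 1, 1, -2, 1, 0, 0, 0], [0, 0, 0, 1, -2, 1, 0, 0], [0, -2, 0, 1, 0, 0, 0, 0], [0, 0, 0, 0, 1, -2, 1, 0], [0, 0, 0, 0, 0, 1, -2, 1], [0, 0, 0, 0, 0, 0, 1, -2]], [[-1, 0, -1, 1, 0, 0, 0, 0], [1, 1, -1, -1,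 1, 0, 0, 0], [0, -1, 1, -1, 1, 0, 0, 0], [0, 1, 1, -1, -1, 1, 0, 0], [0, 0, 0, 1, -1, -1, 1, 0], [0, 0, 0, 0, 1, -1, -1, 1], [0, 0, 0, 0, 0, 1, -1, -1]], [[-1, 1, 0, -1, 1, 0, 0, 0], [1, -1, -1, 0, 1, 0, 0, 0], [1, 1, -1, 0, -1, 1, 0, 0], [0, -1, 1, 0, -1, 1, 0, 0], [0, 1, 1, -1, 0, -1, 1, 0], [0, 0, 0, 1, -1, 0, -1, 1], [0, 0, 0, 0, 1, -1, 0, -1]], [[-1, -1, 0, 0, 1, 0, 0, 0], [-1, 1, 0, 0, -1, 1, 0, 0], [1, -1, -1, 1, -1, 1, 0, 0], [1, 1, -1, 0, 0, -1, 1, 0], [0, -1, 1, 0, 0, -1, 1, 0], [0, 1, 1, -1, 0, 0, -1, 1], [0, 0, 0, 1, -1, 0, 0, -1]], [[-1, -1, 0, 1, -1, 1, 0, 0], [-1, 1, 0, 0, 0, -1, 1, 0], [1, -1, -1, 1, 0, -1, 1, 0], [1, 0, 0, -1, 0, 1, 0, 0], [1, 1, -1, 0, 0, 0, -1, 1], [0, -1, 1, 0, 0, 0, -1, 1], [0, 1, 1, -1,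 0, 0, 0, -1]], [[-1, -1, 0, 1, 0, -1, 1, 0], [-1, 0, 1, -1, 0, 1, 0, 0], [-1, 1, 0, 0, 0, 0, -1, 1], [1, -1, -1, 1, 0, 0, -1, 1], [1, 0, 0, -1, 1, -1, 1, 0], [1, 1, -1, 0, 0, 0, 0, -1], [0, -1, 1, 0, 0, 0, 0, -1]], [[-1, -1, 0, 1, 0, 0, -1, 1], [-1, 0, 1, -1, 1, -1, 1, 0], [0, 0, -1, 0, 0, 1, 0, 0], [-1, 1, 0, 0, 0, 0, 0, -1], [1, -1, -1, 1, 0, 0, 0, -1], [1, 0, 0, -1, 1, 0, -1, 1], [1, 0, 0, 0, -1, 0, 1, 0]], [[-1, -1, 0, 1, 0, 0, 0, -1], [-1, 0, 1, -1, 1, 0, -1, 1], [-1, 0, 1, 0, -1, 0, 1, 0], [0, 0, -1, 0, 1, -1, 1, 0], [1, 0, 0, -1, 1, 0, 0, -1], [1, 0, 0, 0, -1, 1, -1, 1]], [[-1, 0, 1, -1, 1, 0, 0, -1], [-1, 0, 1, 0, -1, 1, -1, 1], [0, 0, -1, 0, 1, 0, -1, 1], [0, 0, -1, 1, -1, 0, 1, 0], [1, 0, 0, 0, -1, 1, 0, -1], [1, 0,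 0, 0, 0, -1, 0, 1]], [[-1, 0, 1, 0, -1, 1, 0, -1], [0, 0, -1, 0, 1, 0, 0, -1], [-1, 0, 1, 0, 0, -1, 0, 1], [0, 0, -1, 1, -1, 1, -1, 1], [0, 1, 0, -1, 0, 0, 1, 0], [1, 0, 0, 0, 0, -1, 1, -1]], [[-1, 0, 1, 0, 0, -1, 1, -1], [0, 0, -1, 1, -1, 1, 0, -1], [0, 0, -1, 1, 0, -1, 0, 1], [0, 1, 0, -1, 0, 1, -1, 1], [0, -1, 0, 0, 0, 0, 1, 0], [1, 0, 0, 0, 0, 0, -1, 0]], [[-1, 0, 1, 0, 0, 0, -1, 0], [0, 0, -1, 1, 0, -1, 1, -1], [0, 1, 0, -1, 0, 1, 0, -1], [0, 1, 0, -1, 1, -1, 0, 1], [0, -1, 0, 0, 0, 1, -1, 1]], [[0, 0, -1, 1, 0, 0, -1, 0], [0, 1, 0, -1, 1, -1, 1, -1], [0, -1, 0, 0, 0, 1, 0, -1], [0, -1, 0, 0, 1, -1, 0, 1], [0, 1, 0, 0, -1, 0, 0, 1]], [[0, 1, 0, -1, 1, 0, -1, 0], [0, -1, 0, 0, 1, -1, 1, -1], [0, 1, 0, 0, -1, 0, 1, -1], [0,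 -1, 0, 1, -1, 0, 0, 1]], [[0, -1, 0, 0, 1, 0, -1, 0], [0, 1, 0, 0, -1, 1, -1, 0], [0, -1, 0, 1, -1, 0, 1, -1], [0, 0, 1, -1, 0, 0, 0, 1]], [[0, -1, 0, 1, -1, 1, -1, 0], [0, 1, 0, 0, 0, -1, 0, 0], [0, 0, 1, -1, 0, 0, 1, -1], [1, 0, -1, 0, 0, 0, 0, 1]], [[0, -1, 0, 1, 0, -1, 0, 0], [0, 0, 1, -1, 0, 1, -1, 0], [1, 0, -1, 0, 0, 0, 1, -1], [-1, 0, 0, 0, 0, 0, 0, 1]], [[0, 0, 1, -1, 1, -1, 0, 0], [1, 0, -1, 0, 0, 1, -1, 0], [-1, 0, 0, 0, 0, 0, 1, -1]], [[0, 0, 1, 0, -1, 0, 0, 0], [1, 0, -1, 0, 1, -1, 0, 0], [-1, 0, 0, 0, 0, 1, -1, 0]], [[1, 0, -1, 1, -1, 0, 0, 0], [-1, 0, 0, 0, 1, -1, 0, 0]], [[1, 1, 0, -1, 0, 0, 0, 0], [-1, 0, 0, 1, -1, 0, 0, 0]], [[1, -1, 0, 0, 0, 0, 0, 0], [-1, 1, 1, -1, 0, 0, 0, 0]], [[-1, -1, 1, 0, 0, 0, 0, 0],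 [0, 1, -1, 0, 0, 0, 0, 0]], [[0, -1, -1, 1, 0, 0, 0, 0]], [[0, 0, 0, -1, 1, 0, 0, 0]], [[0, 0, 0, 0, -1, 1, 0, 0]], [[0, 0, 0, 0, 0, -1, 1, 0]], [[0, 0, 0, 0, 0, 0, -1, 1]], [[0, 0, 0, 0, 0, 0, 0, -1]]]
theorem stepE8_7 : stepOK chevE8 7 [6, 5, 1, 4, 3, 2, 0] levE8_7 = true := by decide +kernel
theorem lenE8_7 : levE8_7.map List.length = [1, 1, 1, 1, 1, 2, 2, 2, 2, 3, 3, 4, 4, 4, 4, 5, 5, 6, 6, 6, 6, 7, 7, 7, 7, 7, 7, 8, 8, 7, 7, 7, 7, 7, 7, 6, 6, 6, 6, 5, 5, 4, 4, 4, 4, 3, 3, 2, 2, 2, 2, 1, 1, 1, 1, 1, 1] := by decide +kernel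

theorem poinE8_prod {A : Type*} [CommSemiring A] [Fintype (wdata chevE8).W] (t : A) :
    ∑ w : (wdata chevE8).W, t ^ (wdata chevE8).len w =
      horner t [1, 1, 1, 1, 1, 1, 2, 2, 2, 2, 3, 3, 4, 4, 4, 4, 5, 5, 6, 6, 6, 6, 7, 7, 7, 7, 7, 7, 8, 8, 7, 7, 7, 7, 7, 7, 6, 6, 6, 6, 5, 5, 4, 4, 4, 4, 3, 3, 2, 2, 2, 2, 1, 1, 1, 1, 1, 1] * (horner t [1, 1, 1, 1, 1, 2, 2, 2, 2, 3, 3, 3, 3, 3, 3, 3, 3, 3, 3, 2, 2, 2, 2, 1, 1, 1, 1, 1] * (horner t [1, 1, 1, 1, 2, 2, 2, 2, 3, 2, 2, 2, 2, 1, 1, 1, 1] * (horner t [1, 1, 1, 2, 2, 2, 2, 2, 1, 1, 1] * (horner t [1, 1, 1, 1, 1] * (horner t [1, 1, 1, 1] * (horner t [1, 1, 1] * (horner t [1, 1] * 1))))))) := by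
  rw [poinJ_univ t (J := [7, 6, 5, 1, 4, 3, 2, 0]) (by decide), poinJ_cons t stepE8_7, lenE8_7, poinJ_cons t stepE8_6, lenE8_6, poinJ_cons t stepE8_5, lenE8_5, poinJ_cons t stepE8_4, lenE8_4, poinJ_cons t stepE8_3, lenE8_3, poinJ_cons t stepE8_2, lenE8_2, poinJ_cons t stepE8_1, lenE8_1, poinJ_cons t stepE8_0, lenE8_0, poinJ_nil]

/-- The Poincaré polynomial of the Weyl group of type E8. -/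
theorem poinE8 {A : Type*} [CommRing A] [Fintype (wdata chevE8).W] (t : A) :
    (∑ w : (wdata chevE8).W, t ^ (wdata chevE8).len w) * (t - 1) ^ 8 =
      (t ^ 2 - 1) * (t ^ 8 - 1) * (t ^ 12 - 1) * (t ^ 14 - 1) * (t ^ 18 - 1) * (t ^ 20 - 1) * (t ^ 24 - 1) * (t ^ 30 - 1) := by
  rw [poinE8_prod]
  simp only [horner]
  push_cast
  ring

theorem card_W_E8 : Nat.card (wdata chevE8).W = 696729600 := by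
  classical
  have := Fintype.ofFinite (wdata chevE8).W
  have h := poinE8_prod (1 : ℕ)
  simp only [one_pow, Finset.sum_const, smul_eq_mul, mul_one, Finset.card_univ] at h
  rw [Nat.card_eq_fintype_card, h]
  simp [horner]

end H63
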