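import Cfsg.Agent.H64.SFBasic
import Cfsg.Agent.H26.SGFR

/-! STD-F4, slot FR: root elements of `F₄(2ⁿ)` and their centralisers. -/

set_option autoImplicit false
set_option linter.unusedSectionVars false
set_option synthInstance.maxSize 4000

namespace H63.SFR

open Subgroup H98 Cfsg Cfsg.Lie H63 H64 H65 H86.WR
open H86.F4 hiding x_mem stB ns
open H64.SF hiding x Rt
open H64.SG (Cz Cs Ns cjs IsO2 UU mem_Cz cj_Cz cj_Cs x_mem_gen syl_UU)
open H46.SF (sh)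
open scoped commutatorElement

/-- `x_c` is a commutator `[x_a, x_b]`, `a ∈ A`, `b ∈ B`, modulo the root subgroups in `T`. -/
def Dr (A B T : List ℕ) (c : ℕ) : Prop := ∃ a ∈ A, ∃ b ∈ B, ∃ k ∈ chevF4.commTerms b a,
  k.1 = c ∧ k.2.1 % 2 = 1 ∧ (k.2.2.1 = 1 ∨ k.2.2.2 = 1) ∧ a < 48 ∧ b < 48 ∧ a ≠ b ∧
    a ≠ chevF4.neg b ∧ (chevF4.commTerms b a).Nodup ∧
    ∀ k' ∈ chevF4.commTerms b a, k' ≠ k → k'.2.1 % 2 = 0 ∨ k'.1 ∈ T

instance (A B T : List ℕ) (c : ℕ) : Decidable (Dr A B T c) := by unfold Dr; infer_instance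

section Grp

variable {F : Type*} [Field F] [CharP F 2] {G : Type*} [Group G] {x : ℕ → F → G}
  {A B T : List ℕ} {K : Subgroup G}

theorem Dr.mem (h : St chevF4 x) {c : ℕ} (hd : Dr A B T c)
    (h1 : ∀ a ∈ A, ∀ b ∈ B, a < 48 → b < 48 → ∀ t u, ⁅x a t, x b u⁆ ∈ K)
    (h2 : ∀ r ∈ T, r < 48 → ∀ t, x r t ∈ K) (t : F) : x c t ∈ K := by
  obtain ⟨a, ha, b, hb, k, k1, rfl, k2, k3, a1, b1, e, e', nd, k4⟩ := hd
  have key : ∀ s u : F, x k.1 ((k.2.1 : F) * (-s) ^ k.2.2.1 * u ^ k.2.2.2) ∈ K := fun s u => by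
    have h3 := h1 a ha b hb a1 b1 (-u) (-s)
    rw [h.commutator_eq (r := R b b1) (s := R a a1) (fun e' => e (congrArg Fin.val e'))
      (fun e => e' (congrArg Fin.val e)), wd, ChevalleyDatum.commWord, List.map_map] at h3
    refine mem_of_prod nd k1 (fun j j1 j2 => ?_) h3
    obtain ⟨h6, -⟩ := commTerms_spec (r := R b b1) (s := R a a1) j1
    rcases k4 j j1 j2 with h7 | h7
    · simp only [Function.comp, cast_even (F := F) h7, zero_mul, h.x_zero ⟨_, h6⟩, one_mem]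
    · exact h2 _ h7 h6 _
  have c0 := cast_odd (F := F) k2
  rcases k3 with k3 | k3
  · have := key (-(t / k.2.1)) 1
    rwa [k3, neg_neg, pow_one, one_pow, mul_one, mul_div_cancel₀ _ c0] at this
  · have := key (-1) (t / k.2.1)
    rwa [k3, neg_neg, pow_one, one_pow, mul_one, mul_div_cancel₀ _ c0] at this

theorem dr_le (h : St chevF4 x) {S : List ℕ}
    (h1 : ∀ a ∈ A, ∀ b ∈ B, a < 48 → b < 48 → ∀ t u, ⁅x a t, x b u⁆ ∈ K)
    (h2 : ∀ r ∈ T, r < 48 → ∀ t, x r t ∈ K) (h3 : ∀ c ∈ S, Dr A B [] c ∨ c ∈ T ∨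
      Dr A B (T ++ S.filter (Dr A B [] ·)) c) : GS x S ≤ K :=
  H64.SG.gen_le_iff.2 fun c hc t => by
    have k : ∀ c, Dr A B [] c → ∀ t, x c t ∈ K := fun c e => e.mem h h1 (by simp)
    rcases h3 c hc with e | e | e
    exacts [k c e t, h2 c e c.2 t, e.mem h h1 (fun r hr h4 => (List.mem_append.1 hr).elim
      (h2 r · h4) fun e => k r (of_decide_eq_true (List.mem_filter.1 e).2)) t]

theorem eq_zero_of_cm (h : StB chevF4 x) (hT : Cm T T T) {c : ℕ} (h1 : c ∈ PP) (h2 : c ∉ T) {a : F}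
    (ha : x c a ∈ GS x T) : a = 0 := by
  classical
  have := eq_one_of_prod_mem h.rgd (S := {r | (r : ℕ) ∈ T}) (f := Fin.val)
    (fun a ha b hb _ y hy z hz => by
      obtain ⟨t, rfl⟩ := h.toSt.mem_XR.1 hy
      obtain ⟨u, rfl⟩ := h.toSt.mem_XR.1 hz
      refine comm_mem h.toSt (hT a ha).1 (hT b hb).1 (fun c hc h1 t => ?_) t u
      have := (OT_lt a (hT a ha).1 b (hT b hb).1).1 c hc
      exact x_mem_gen (r := R c h1) (by exact ⟨((hT a ha).2 b hb).2 c hc, this.1, this.2.1⟩) t)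
    (fun r hr => (pos_iff r).2 (hT r hr).1)
    (L := [R c (mem_PP.1 h1).2]) (by simp) (by simpa using (pos_iff (R c (mem_PP.1 h1).2)).2 h1)
    (y := fun s => if s = R c (mem_PP.1 h1).2 then x c a else 1)
    (fun s => by split_ifs with e; exacts [e ▸ x_mem_XR chevF4 x (R c _) a, one_mem _]) (by simpa)
    (List.mem_singleton_self _) h2
  exact h.eq_zero_of_x_eq_one (R c (mem_PP.1 h1).2) (by simpa using this)

end Grp

/-- The data for a dominant root. -/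
def Dom (r : ℕ) (α : Fin chevF4.rank) : Prop := r ∈ PP ∧
  (∀ i : Fin chevF4.rank, chevF4.cartan i r = if i = α then 1 else 0) ∧
  (∀ s < 48, r ≤ s → chevF4.isLong s = chevF4.isLong r → s = r) ∧
  True ∧ (∀ s ∈ PP, s ∈ lP r) ∧
  (∀ s : Rt chevF4, ((s : ℕ) ∈ lQ r ↔ (s : ℕ) ∈ PP ∧ certF4.rtc s α ≠ 0) ∧
    ((s : ℕ) ∈ lP r ↔ (s : ℕ) ∈ PP ∨ certF4.rtc s α = 0)) ∧
  (∀ j : Fin chevF4.rank, j ≠ α → chevF4.simple j ∈ lP r ∧ chevF4.neg (chevF4.simple j) ∈ lP r) ∧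
  Nm (lQ r) ∧ (lQ r).Nodup ∧ (lQ r).length = 15 ∧ H86.F4.Cert PP (lQ r) [] (lV r) ∧
  Cm (lQ r) (lQ r) [r] ∧ Nm [r] ∧ Dr (lQ r) (lQ r) [] r ∧
  ∀ c ∈ lP r, Dr (lP r) (lP r) [] c ∨ c ∈ [] ∨
    Dr (lP r) (lP r) ([] ++ (lP r).filter (Dr (lP r) (lP r) [] ·)) c

theorem dom44 : Dom 44 ⟨0, by decide⟩ := by unfold Dom; decide +kernel
theorem dom47 : Dom 47 ⟨3, by decide⟩ := by unfold Dom; decide +kernel

variable {F : Type} [Field F] [CharP F 2] [Finite F] {r : ℕ} {α : Fin chevF4.rank}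

local notation "X" => H64.SF.x F

theorem bruhat (g : XF F) : ∃ w b m u, b ∈ (stB (F := F)).rgd.B ∧ (stB (F := F)).rgd.Act m w ∧
    u ∈ (stB (F := F)).rgd.U ∧ g = b * m * u := by
  obtain ⟨w, hc⟩ := (stB (F := F)).rgd.exists_cell ((adF F).Gp_eq ▸ mem_top g)
  obtain ⟨m, hm, hmw⟩ := (stB (F := F)).rgd.exists_mem_N_act w
  obtain ⟨b, hb, u, hu, e⟩ := hc.normal_form hm hmw
  exact ⟨w, b, m, u, hb, hmw, RGD.gen_Inv_le_U _ w hu, e⟩

theorem Dom.U_le (d : Dom r α) : UF4 F ≤ P F r :=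
  (GS_PP (xG chevF4 F)).ge.trans (GS_mono d.2.2.2.2.1)

theorem Dom.cz (d : Dom r α) {c : F} (hc : c ≠ 0) : Cz (X r c) = P F r := by
  have hU := d.U_le (F := F)
  obtain ⟨d0, e1, d2, -, -, -, d6, -⟩ := d
  have hr := (mem_PP.1 d0).2
  have h := adF F
  have hτ := H67.torOK_xG (D := chevF4) (k := F)
  have le : P F r ≤ Cz (X r c) := US_le fun s hs h1 a =>
    mem_Cz.2 (x_c0 hr h1 (mem_lP.1 hs).2 c a)
  have hJ : ∀ j ∈ {i | i ≠ α}, ∀ t, X (chevF4.simple j) t ∈ P F r ∧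
      X (chevF4.neg (chevF4.simple j)) t ∈ P F r := fun j hj t =>
    ⟨x_mem (d6 j hj).1 (simpleR j).2 t, x_mem (d6 j hj).2 (negR (simpleR j)).2 t⟩
  refine le_antisymm (H26.SG.le_of_bruhat h le hJ (fun b hb m w hw u hu e => ?_) fun b hb e => ?_) le
  · have h1 := H26.SG.le_act_of_comm h.toStB (r := R r hr) ((pos_iff _).2 d0) hc hb hw hu (mem_Cz.1 e)
    refine mem_WJ_of_fix [(R r hr, 1)] (fun a ha => ?_) (fun i => ?_) fun i hi => ?_
    · rw [List.mem_singleton.1 ha]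
      exact Fin.ext (d2 _ (w.1 _).2 h1 (isLong_apply w (R r hr)))
    · simp only [List.map_cons, List.map_nil, List.sum_cons, List.sum_nil, e1]
      split_ifs <;> simp
    · simp only [List.map_cons, List.map_nil, List.sum_cons, List.sum_nil, e1, if_pos (not_not.1 hi)]
      simp
  · obtain ⟨u, hu, k, hk, rfl⟩ := h.toStB.rgd.mem_B.1 hb
    obtain ⟨d, rfl⟩ := hτ.exists h.toStN hk
    refine mul_mem (hU hu) (H26.SG.tor_mem' hτ hJ fun i hi => ?_)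
    have h1 := mem_Cz.1 ((mul_mem_cancel_left (le (hU hu))).1 e)
    rw [not_not.1 hi, ← H26.SG.chi_hi (r := R r hr) e1 d]
    exact (hτ.eq_zero_or h.toStB (r := R r hr) h1.symm).resolve_left hc

theorem Dom.Q_eq (d : Dom r α) : Q F r = (stB (F := F)).rgd.UJ {i | i ≠ α} ∧
    (stB (F := F)).rgd.PJ {i | i ≠ α} = P F r ⊔ (stB (F := F)).rgd.H := by
  have k : ∀ s : Rt chevF4, s ∈ (H64.wdata chevF4).PhiJ {i | i ≠ α} ↔ certF4.rtc s α = 0 := fun s => by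
    simp [H64.mem_PhiJ_iff, rt_F4]
  refine ⟨congrArg (H64.gen _) (Set.ext fun s => ?_), ?_⟩
  · rw [Set.mem_ofPred_eq, Set.mem_ofPred_eq, (d.2.2.2.2.2.1 s).1, k, H64.wdata_pos, pos_iff]
  · rw [RGD.PJ_eq_gen, sup_comm]
    refine congrArg (H64.gen _ · ⊔ _) (Set.ext fun s => ?_)
    rw [Set.mem_ofPred_eq, Set.mem_ofPred_eq, (d.2.2.2.2.2.1 s).2, k, H64.wdata_pos, pos_iff]

theorem Dom.o2 (d : Dom r α) : IsO2 (Q F r) (P F r) := by
  obtain ⟨e1, e2⟩ := d.Q_eq (F := F)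
  set T := (stB (F := F)).rgd
  refine ⟨US_mono fun s hs => mem_lP.2 ⟨(mem_lQ.1 hs).1, (mem_lQ.1 hs).2.le⟩, ?_, ?_,
    fun R h1 h2 h3 g hg => ?_⟩ <;> rw [e1]
  · exact (le_sup_left.trans e2.ge).trans (T.PJ_le_normalizer_UJ _)
  · exact (syl_UU chevF4 F).isPGroup.to_le (T.UJ_le_U _)
  · have h4 : R ≤ T.U := (syl_UU chevF4 F).le_of_le_normalizer h3 le_top (d.U_le.trans h2)
    refine mem_UJ_of_conj T fun y hy => ?_
    obtain ⟨u, hu, k, hk, e⟩ := T.mem_gen_sup_H.1 (e2 ▸ inv_mem hy)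
    rw [← inv_inv y, e]
    have := T.h_conj_gen (inv_mem hk) (h4 (conj_mem_of_mem_normalizer' (h2 hu) hg))
    rw [show (u * k)⁻¹ * g * (u * k)⁻¹⁻¹ = k⁻¹ * (u⁻¹ * g * u) * k⁻¹⁻¹ by group]
    exact this

theorem Dom.rest (d : Dom r α) : P F r ≤ ⁅P F r, P F r⁆ ∧ ⁅Q F r, Q F r⁆ = Z F r ∧
    Cs (Q F r) = V F r ∧ Nat.card (Q F r) = Nat.card F ^ 15 := by
  have e1 := (d.Q_eq (F := F)).1
  obtain ⟨-, -, -, -, -, -, -, k1, k2, k3, k4, k5, k6, k7, k8⟩ := d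
  refine ⟨dr_le st (fun a ha b hb h1 h2 t u => commutator_mem_commutator (x_mem ha h1 t) (x_mem hb h2 u))
    (by simp) k8, le_antisymm (commutator_le.2 fun u hu v hv => k5.comm st k6 hu hv)
      (US_le fun s hs _ t => ?_), ?_, k3 ▸ k1.card stB k2⟩
  · rw [List.mem_singleton.1 hs]
    exact k7.mem st (fun a ha b hb h1 h2 t u =>
      commutator_mem_commutator (x_mem ha h1 t) (x_mem hb h2 u)) (by simp) t
  · refine (inf_eq_right.2 fun g hg => ?_).symm.trans (k4.cen stB)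
    exact (stB (F := F)).rgd.UJ_le_U _ (mem_UJ_of_comm stB (adF F).faithful (J := {i | i ≠ α})
      (fun e => e.ge (Set.mem_univ α) rfl) ((adF F).Gp_eq ▸ mem_top g)
      fun u hu => (hg u (e1.ge hu)).symm)

theorem six (hr : r < 48) : (∀ c : F, c ≠ 0 → Cz (X r c) = P F r) ∧ IsO2 (Q F r) (P F r) ∧
    P F r ≤ ⁅P F r, P F r⁆ ∧ ⁅Q F r, Q F r⁆ = Z F r ∧ Cs (Q F r) = V F r ∧
    Nat.card (Q F r) = Nat.card F ^ 15 := by
  obtain ⟨-, hw, e⟩ := wd0_spec r hr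
  obtain ⟨α, d⟩ : ∃ α, Dom (if sh r then 44 else 47) α := by
    split_ifs
    exacts [⟨_, dom44⟩, ⟨_, dom47⟩]
  generalize (if sh r then 44 else 47) = s at *
  have hs := (mem_PP.1 d.1).2
  obtain ⟨k1, k2, k3, k4⟩ := d.rest (F := F)
  rw [← e, ← cjs_P hw hs, ← cjs_Q hw hs, ← cjs_Z hw hs, ← cjs_V hw hs, ← k2, ← k3]
  exact ⟨fun c hc => by rw [← nW_conj hw hs, ← cj_Cz, d.cz hc], H26.SG.isO2_cj d.o2 _,
    (map_mono k1).trans (map_commutator ..).le, (map_commutator ..).symm, (cj_Cs ..).symm,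
    (card_cj ..).trans k4⟩

theorem bor {g : XF F} (hg : ∀ r ∈ [40, 44, 46, 47], g ∈ Cz (X r 1)) :
    g ∈ UF4 F ⊔ HH chevF4 (xG chevF4 F) := by
  refine (H26.SG.le_of_bruhat (adF F) (C := ⨅ r ∈ [40, 44, 46, 47], Cz (X r 1)) (J := ∅)
    (K := _ ⊓ (stB (F := F)).rgd.B) inf_le_left (by simp) (fun b hb m w hw u hu e => ?_)
    (fun b hb e => ⟨e, hb⟩) (mem_iInf.2 fun r => mem_iInf.2 (hg r))).2
  replace hg := fun r => mem_iInf.1 (mem_iInf.1 e r)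
  have k : ∀ r (h1 : r < 48), r ∈ [40, 44, 46, 47] → r ≤ w.1 (R r h1) ∧ (w.1 (R r h1) : ℕ) < 48 ∧
      chevF4.isLong (w.1 (R r h1)) = chevF4.isLong r := fun r h1 hr =>
    ⟨H26.SG.le_act_of_comm stB (r := R r h1) ((pos_iff _).2 (by revert r; decide)) one_ne_zero hb hw hu
      (mem_Cz.1 (hg r hr)), (w.1 _).2, isLong_apply w _⟩
  have k1 : ∀ a ∈ [(47, 47), (46, 47), (44, 44), (40, 44)], ∀ s < 48, a.1 ≤ s →
    chevF4.isLong s = chevF4.isLong a.1 → s = a.1 ∨ s = a.2 := by decide +kernel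
  have k2 : ∀ r (h1 : r < 48) r' (h2 : r' < 48), (r, r') ∈ [(47, 47), (46, 47), (44, 44), (40, 44)] →
      r ∈ [40, 44, 46, 47] → (r = r' ∨ w.1 (R r' h2) = R r' h2) → w.1 (R r h1) = R r h1 :=
    fun r h1 r' h2 a b c => by
      rcases k1 _ a _ (k r h1 b).2.1 (k r h1 b).1 (k r h1 b).2.2 with e | e
      · exact Fin.ext e
      rcases c with rfl | c
      · exact Fin.ext e
      · have := w.1.injective ((Fin.ext e).trans c.symm)
        rwa [this]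
  have a1 := k2 47 (by decide) 47 (by decide) (by simp) (by simp) (.inl rfl)
  have a2 := k2 44 (by decide) 44 (by decide) (by simp) (by simp) (.inl rfl)
  have a3 := k2 46 (by decide) 47 (by decide) (by simp) (by simp) (.inr a1)
  have a4 := k2 40 (by decide) 44 (by decide) (by simp) (by simp) (.inr a2)
  exact mem_WJ_of_fix [(R 47, 2), (R 46, 1), (R 44, 2), (R 40, 1)]
    (by simp [a1, a2, a3, a4]) (by decide +kernel) fun i _ => by clear * -; revert i; decide +kernel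

theorem shU {u : XF F} (hu : u ∈ UF4 F) (h : Sh u) :
    ∃ g ∈ UF4 F, ∃ s c, S s ∧ 24 ≤ s ∧ c ≠ 0 ∧ u = g * X s c * g⁻¹ := by
  obtain ⟨g, c, hc, rfl⟩ := h
  obtain ⟨w, b, m, v, hb, hw, hv, rfl⟩ := bruhat g
  obtain ⟨a, ha, k, hk, rfl⟩ := (stB (F := F)).rgd.mem_B.1 hb
  obtain ⟨d, hd⟩ := st.mem_XR.1 ((stB (F := F)).rgd.h_conj k hk _ _
    (hw.conj_mem (x_mem_XR chevF4 (xG chevF4 F) (R 44) c)))
  have e : a * k * m * v * X 44 c * (a * k * m * v)⁻¹ = a * X (w.1 (R 44)) d * a⁻¹ := by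
    rw [show X (w.1 (R 44)) d = _ from hd.symm, mul_assoc _ v,
      ← mem_Cz.1 ((dom44.cz hc).ge (dom44.U_le hv))]
    group
  have d0 : d ≠ 0 := by
    rintro rfl
    rw [x_zero (w.1 _).2, mul_one, mul_inv_cancel, conj_eq_one_iff, x_eq_one (by decide)] at e
    exact hc e
  have k : ∀ s < 48, chevF4.isLong s = chevF4.isLong 44 → sh s = true := by decide +kernel
  refine ⟨a, ha, _, d, ⟨(w.1 _).2, k _ (w.1 _).2 (isLong_apply w (R 44))⟩, by_contra fun h1 => d0 ?_,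
    d0, e⟩
  exact (x_eq_one (w.1 _).2).1 ((stB (F := F)).rgd.eq_one_of_mem_U_V
    ((mul_mem_cancel_left ha).1 ((mul_mem_cancel_right (inv_mem ha)).1 (e ▸ hu)))
    (x_mem_gen (S := {r | ¬ Pos r}) (fun e => h1 (mem_PP.1 ((pos_iff _).1 e)).1) d))

/-- The subgroup generated by the short root elements of a normal subgroup. -/
theorem le_sh {A B : List ℕ} (h1 : US F B ≤ Ns (US F A)) (h2 : ∀ c ∈ A,
    Dr (A.filter sh) B [] c ∨ c ∈ A.filter sh ∨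
      Dr (A.filter sh) B (A.filter sh ++ A.filter (Dr (A.filter sh) B [] ·)) c) :
    US F A ≤ closure {u | u ∈ US F A ∧ Sh u} := by
  have k : ∀ a ∈ A.filter sh, a < 48 → ∀ g ∈ US F B, ∀ t,
      g * X a t * g⁻¹ ∈ closure {u | u ∈ US F A ∧ Sh u} := fun a ha h3 g hg t => by
    rw [List.mem_filter] at ha
    by_cases e : t = 0
    · simp [e, x_zero h3]
    · exact subset_closure ⟨conj_mem_of_mem_normalizer (h1 hg) (x_mem ha.1 h3 t),
        (sh_x ⟨h3, ha.2⟩ e).conj (isConj_iff.2 ⟨g, rfl⟩)⟩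
  have k' := fun a ha h3 t => by simpa using k a ha h3 1 (one_mem _) t
  refine dr_le st (fun a ha b hb h3 h4 t u => ?_) k' h2
  simpa [commutatorElement_def, mul_assoc] using
    mul_mem (k' a ha h3 t) (inv_mem (k a ha h3 _ (x_mem hb h4 u) t))

theorem jobFR : JobFR := fun F _ _ _ => by
  refine ⟨fun r hr => (six hr).1, fun r hr => (six hr).2.1, fun r hr => (six hr).2.2.1,
    fun r hr => (six hr).2.2.2.1, fun r hr => (six hr).2.2.2.2.1, fun r hr => (six hr).2.2.2.2.2,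
    fun _ => bor, le_sh dom44.o2.2.1 (by decide +kernel), ?_, eq_top_iff.2 fun g _ => ?_,
    fun _ => shU, fun u hu h => ?_, fun u hu h => ?_⟩
  · rintro _ (rfl | rfl) <;> exact le_sh le_normalizer (by decide +kernel)
  · have k : ∀ s ∈ [24, 25, 27, 33], ∃ r ∈ [44, 47], s ∈ lP r ∧ 47 - s ∈ lP r := by decide +kernel
    have k' : ∀ r ∈ [44, 47], P F r ≤ P F 44 ⊔ P F 47 := by simp
    refine mem_top' (fun r hr a => ?_) g
    obtain ⟨h1, hw, e⟩ := wd0_spec r hr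
    have : nW F (wd0 r) ∈ P F 44 ⊔ P F 47 := list_prod_mem fun y hy => by
      obtain ⟨s, hs, rfl⟩ := List.mem_map.1 hy
      obtain ⟨v, hv, h2, h3⟩ := k s (h1 s hs)
      rw [n_eq (hw s hs)]
      exact k' v hv (mul_mem (mul_mem (x_mem h2 (hw s hs) 1) (x_mem h3 (by omega) 1))
        (x_mem h2 (hw s hs) 1))
    rw [← e, ← nW_conj hw (by split_ifs <;> decide)]
    refine mul_mem (mul_mem this (mem_sup_left (x_mem ?_ ?_ a))) (inv_mem this) <;> split_ifs <;>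
      decide +kernel
  · have n : Nm (lV 44) := by decide +kernel
    obtain ⟨g, hg, s, c, s1, s2, c0, rfl⟩ := shU (n.le hu) h
    have k : ∀ s < 48, sh s = true → s ∈ lV 44 → s = 44 := by decide +kernel
    obtain rfl := k s s1.1 s1.2 (by_contra fun e => c0 (n.eq_zero stB (mem_PP.2 ⟨s2, s1.1⟩) e
      (by simpa [mul_assoc] using n.conj st (inv_mem hg) hu)))
    rw [← mem_Cz.1 ((dom44.cz c0).ge (dom44.U_le hg)), mul_inv_cancel_right]
    exact x_mem (by simp) s1.1 c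
  · obtain ⟨g, hg, s, c, s1, s2, c0, rfl⟩ := shU (GS_le_UU (by decide) hu) h
    obtain ⟨v, hv, e⟩ := U_conj_x st (r := R s s1.1) ((pos_iff _).2 (mem_PP.2 ⟨s2, s1.1⟩)) c hg
    have k : ∀ s ∈ PP, sh s = true → ∀ T ∈ [[24, 25, 26, 30, 31, 32, 41, 42, 43, 45, 46, 47] ++
      PP.filter (s < ·)], Cm T T T ∧ s ∉ T := by decide +kernel
    obtain ⟨k1, k2⟩ := k s (mem_PP.2 ⟨s2, s1.1⟩) s1.2 _ List.mem_cons_self
    exact c0 (eq_zero_of_cm stB k1 (mem_PP.2 ⟨s2, s1.1⟩) k2 ((mul_mem_cancel_right (H86.F4.Uge_le _ s hv)).1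
      (GS_mono (fun _ => List.mem_append_left _) (e ▸ hu))))

end H63.SFR
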