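/- The Sylow 2-subgroup of the large Ree groups in coordinates (blueprints/PARROTT.md).
Computation: `ext <;> simp [x1, y8, T.sq] <;> grind`; never expand products of more than three general
factors at once (state the intermediate results as explicit tuples). -/
import Cfsg.Agent.Base

set_option autoImplicit false
set_option linter.unusedSectionVars false
set_option linter.unusedVariables false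
set_option linter.unusedSimpArgs false

namespace H63.Oc

/-- A field with a square root `σ` of the squaring map. -/
structure TF (K : Type*) [Field K] where
  σ : K →+* K
  sq : ∀ x, σ (σ x) = x ^ 2

/-- Coordinates of `x₁(a1) y₂(b2) x₂(a2) x₃(a3) y₄(b4) x₄(a4) x₅(a5) y₆(b6) x₆(a6) x₇(a7) y₈(b8) x₈(a8)`. -/
@[ext] structure Co {K : Type*} [Field K] (T : TF K) where
  (a1 b2 a2 a3 b4 a4 a5 b6 a6 a7 b8 a8 : K)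

variable {K : Type*} [Field K] {T : TF K}

namespace Co

instance instMulCo : Mul (Co T) := ⟨fun c d => {
  a1 := c.a1 + d.a1
  b2 := c.b2 + d.b2 + c.b8 * d.a1
  a2 := c.a2 + d.a2 + c.b2 * T.σ d.b2 + c.b4 * d.a1 + c.b6 * T.σ d.a1 + c.a8 * d.a1 * T.σ d.a1 +
      c.b2 * T.σ c.b8 * T.σ d.a1 + c.b8 * d.a1 * T.σ d.b2
  a3 := c.a3 + d.a3 + c.a7 * T.σ d.a1 + c.b4 * d.b2 + T.σ c.b6 * d.a1 + c.b8 * d.a2 +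
      T.σ c.a8 * d.a1 * T.σ d.a1 + c.a8 * T.σ d.a1 * d.b2 + c.b4 * c.b8 * d.a1 +
      c.b8 * d.b2 * T.σ d.b2 + c.a8 * c.b8 * d.a1 * T.σ d.a1 +
      c.b8 ^ 2 * T.σ c.b8 * d.a1 * T.σ d.a1
  b4 := c.b4 + d.b4 + c.a8 * T.σ d.a1 + c.b8 * T.σ d.b2
  a4 := c.a4 + d.a4 + c.a5 * d.b2 + c.a6 * d.a1 + c.a7 * d.a2 + c.a8 * T.σ d.a2 + c.b4 * T.σ d.b4 +
      c.b6 * d.a3 + c.b8 * T.σ d.a3 + c.a5 * c.b8 * d.a1 + T.σ c.a7 * d.a1 * d.b2 +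
      c.a7 * c.b6 * T.σ d.a1 + c.a7 * d.b2 * T.σ d.b2 + T.σ c.a8 * d.a1 * d.a2 +
      c.a8 * T.σ d.a1 * T.σ d.b4 + c.a8 * d.a1 * d.a3 + c.a8 * d.a2 * d.b2 + c.b6 * c.b8 * d.a2 +
      T.σ c.b8 * d.a3 * d.b2 + c.b8 * T.σ d.b2 * T.σ d.b4 + T.σ c.a7 * c.b8 * d.a1 ^ 2 +
      c.a7 * c.a8 * d.a1 * T.σ d.a1 + c.a7 * T.σ c.b8 * T.σ d.a1 * d.b2 +
      T.σ c.a8 * c.b4 * d.a1 ^ 2 + T.σ c.a8 * c.b6 * d.a1 * T.σ d.a1 +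
      T.σ c.a8 * d.a1 * d.b2 * T.σ d.b2 + c.a8 * c.b6 * T.σ d.a1 * d.b2 +
      c.a8 * d.b2 ^ 2 * T.σ d.b2 + c.b4 * T.σ c.b8 * d.b2 ^ 2 + c.b6 * c.b8 * d.b2 * T.σ d.b2 +
      c.b8 * T.σ c.b8 * d.a1 * d.a3 + c.b8 * T.σ c.b8 * d.a2 * d.b2 +
      c.a7 * c.b8 * T.σ c.b8 * d.a1 * T.σ d.a1 + T.σ c.a8 * T.σ c.b8 * d.a1 * T.σ d.a1 * d.b2 +
      c.a8 * c.b6 * c.b8 * d.a1 * T.σ d.a1 + c.a8 * T.σ c.b8 * T.σ d.a1 * d.b2 ^ 2 +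
      c.a8 * T.σ c.a8 * d.a1 ^ 2 * T.σ d.a1 + c.a8 ^ 2 * d.a1 * T.σ d.a1 * d.b2 +
      c.b8 * T.σ c.b8 * d.b2 ^ 2 * T.σ d.b2 + T.σ c.a8 * c.b8 * T.σ c.b8 * d.a1 ^ 2 * T.σ d.a1 +
      c.a8 ^ 2 * c.b8 * d.a1 ^ 2 * T.σ d.a1 + c.b6 * c.b8 ^ 2 * T.σ c.b8 * d.a1 * T.σ d.a1 +
      c.b8 ^ 2 * T.σ c.b8 ^ 2 * d.a1 * T.σ d.a1 * d.b2 +
      c.b8 ^ 3 * T.σ c.b8 ^ 2 * d.a1 ^ 2 * T.σ d.a1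
  a5 := c.a5 + d.a5 + T.σ c.a7 * d.a1 + c.a7 * T.σ d.b2 + c.a8 * d.a2 + c.b6 * d.b4 + T.σ c.b8 * d.a3 +
      c.a7 * T.σ c.b8 * T.σ d.a1 + T.σ c.a8 * d.a1 * T.σ d.b2 + c.a8 * c.b6 * T.σ d.a1 +
      c.a8 * d.a1 * d.b4 + c.b6 * c.b8 * T.σ d.b2 + T.σ c.b8 * d.b2 * d.b4 +
      c.b8 * T.σ c.b8 * d.a2 + T.σ c.a8 * T.σ c.b8 * d.a1 * T.σ d.a1 +
      c.a8 ^ 2 * d.a1 * T.σ d.a1 + c.b8 * T.σ c.b8 * d.a1 * d.b4 +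
      c.b8 ^ 2 * T.σ c.b8 ^ 2 * d.a1 * T.σ d.a1
  b6 := c.b6 + d.b6 + c.a8 * d.a1 + T.σ c.b8 * d.b2 + c.b8 * T.σ c.b8 * d.a1
  a6 := c.a6 + d.a6 + T.σ c.a7 * d.b2 + c.a7 * d.b4 + T.σ c.a8 * d.a2 + c.a8 * d.a3 + c.b6 * T.σ d.b6 +
      c.b8 * d.a5 + T.σ c.a7 * c.b8 * d.a1 + c.a7 * c.a8 * T.σ d.a1 + c.a7 * c.b8 * T.σ d.b2 +
      T.σ c.a8 * c.b6 * T.σ d.a1 + T.σ c.a8 * d.a1 * d.b4 + T.σ c.a8 * d.b2 * T.σ d.b2 +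
      c.a8 * c.b8 * d.a2 + c.a8 * d.a1 * T.σ d.b6 + c.a8 * d.b2 * d.b4 +
      T.σ c.b8 * d.b2 * T.σ d.b6 + T.σ c.a8 * T.σ c.b8 * T.σ d.a1 * d.b2 +
      T.σ c.a8 * c.b8 * d.a1 * T.σ d.b2 + c.a8 * c.b8 * d.a1 * d.b4 +
      c.a8 ^ 2 * T.σ d.a1 * d.b2 + c.b6 * c.b8 ^ 2 * T.σ d.b2 +
      c.b8 * T.σ c.b8 * d.a1 * T.σ d.b6 + c.b8 ^ 2 * T.σ c.b8 * d.a2 +
      T.σ c.a8 * c.b8 * T.σ c.b8 * d.a1 * T.σ d.a1 + c.a8 ^ 2 * c.b8 * d.a1 * T.σ d.a1 +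
      c.b6 * c.b8 ^ 2 * T.σ c.b8 * T.σ d.a1 + c.b8 ^ 2 * T.σ c.b8 * d.a1 * d.b4 +
      c.b8 ^ 2 * T.σ c.b8 ^ 2 * T.σ d.a1 * d.b2 + c.b8 ^ 3 * T.σ c.b8 ^ 2 * d.a1 * T.σ d.a1
  a7 := c.a7 + d.a7 + T.σ c.a8 * d.a1 + c.a8 * d.b2 + c.b8 * d.b6 + c.a8 * c.b8 * d.a1 +
      c.b8 ^ 2 * T.σ c.b8 * d.a1
  b8 := c.b8 + d.b8
  a8 := c.a8 + d.a8 + c.b8 * T.σ d.b8 }⟩

instance instInvCo : Inv (Co T) := ⟨fun c => {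
  a1 := c.a1
  b2 := c.b2 + c.a1 * c.b8
  a2 := c.a2 + T.σ c.a1 * c.b6 + c.a1 * c.b4 + c.b2 * T.σ c.b2 + c.a1 * T.σ c.b2 * c.b8 +
      c.a1 * T.σ c.a1 * c.a8 + c.a1 * T.σ c.a1 * c.b8 * T.σ c.b8
  a3 := c.a3 + T.σ c.a1 * c.a7 + c.a1 * T.σ c.b6 + c.a2 * c.b8 + c.b2 * c.b4 + T.σ c.a1 * c.a8 * c.b2 +
      T.σ c.a1 * c.b6 * c.b8 + c.a1 * c.b4 * c.b8 + c.a1 * T.σ c.a1 * T.σ c.a8 +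
      T.σ c.a1 * c.b2 * c.b8 * T.σ c.b8 + c.a1 * T.σ c.a1 * c.a8 * c.b8 +
      c.a1 * T.σ c.a1 * c.b8 ^ 2 * T.σ c.b8
  b4 := c.b4 + T.σ c.a1 * c.a8 + T.σ c.b2 * c.b8 + T.σ c.a1 * c.b8 * T.σ c.b8
  a4 := c.a4 + c.a1 * c.a6 + T.σ c.a2 * c.a8 + c.a2 * c.a7 + T.σ c.a3 * c.b8 + c.a3 * c.b6 +
      c.a5 * c.b2 + c.b4 * T.σ c.b4 + T.σ c.a1 * c.a7 * c.b6 + c.a1 * c.a2 * T.σ c.a8 +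
      c.a1 * c.a3 * c.a8 + c.a1 * T.σ c.a7 * c.b2 + c.a1 * c.a7 * c.b4 + c.a1 * c.b6 * T.σ c.b6 +
      T.σ c.a2 * c.b8 * T.σ c.b8 + c.a2 * c.a8 * c.b2 + c.a3 * c.b2 * T.σ c.b8 +
      c.b2 * c.b4 * c.b6 + T.σ c.a1 * c.a7 * c.b2 * T.σ c.b8 + T.σ c.a1 * c.a8 * c.b2 * c.b6 +
      T.σ c.a1 * c.b6 ^ 2 * c.b8 + c.a1 * c.b2 * T.σ c.b6 * T.σ c.b8 +
      c.a1 * T.σ c.a1 * c.a7 * c.a8 + c.a1 * T.σ c.a1 * T.σ c.a8 * c.b6 +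
      c.a1 ^ 2 * T.σ c.a7 * c.b8 + c.a1 ^ 2 * T.σ c.a8 * c.b4 + c.a8 * c.b2 ^ 2 * T.σ c.b2 +
      c.b2 ^ 2 * c.b4 * T.σ c.b8 + T.σ c.a1 * c.a8 * c.b2 ^ 2 * T.σ c.b8 +
      c.a1 * c.a2 * c.b8 ^ 2 * T.σ c.b8 + c.a1 * T.σ c.a1 * T.σ c.a8 * c.b2 * T.σ c.b8 +
      c.a1 * T.σ c.a1 * c.a8 ^ 2 * c.b2 + c.a1 ^ 2 * T.σ c.b6 * c.b8 * T.σ c.b8 +
      c.a1 ^ 2 * T.σ c.a1 * c.a8 * T.σ c.a8 + c.b2 ^ 2 * T.σ c.b2 * c.b8 * T.σ c.b8 +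
      T.σ c.a1 * c.b2 ^ 2 * c.b8 * T.σ c.b8 ^ 2 + c.a1 * T.σ c.a1 * c.b6 * c.b8 ^ 2 * T.σ c.b8 +
      c.a1 ^ 2 * c.b4 * c.b8 ^ 2 * T.σ c.b8 + c.a1 ^ 2 * T.σ c.a1 * c.a8 ^ 2 * c.b8 +
      c.a1 * T.σ c.a1 * c.b2 * c.b8 ^ 2 * T.σ c.b8 ^ 2 +
      c.a1 ^ 2 * T.σ c.a1 * c.a8 * c.b8 ^ 2 * T.σ c.b8
  a5 := c.a5 + c.a1 * T.σ c.a7 + c.a2 * c.a8 + c.a3 * T.σ c.b8 + c.a7 * T.σ c.b2 + c.b4 * c.b6 +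
      T.σ c.a1 * c.a7 * T.σ c.b8 + T.σ c.a1 * c.a8 * c.b6 + c.a1 * T.σ c.a8 * T.σ c.b2 +
      c.a1 * T.σ c.b6 * T.σ c.b8 + c.a8 * c.b2 * T.σ c.b2 +
      c.a1 * T.σ c.a1 * T.σ c.a8 * T.σ c.b8 + c.a1 * T.σ c.a1 * c.a8 ^ 2 +
      c.a1 * T.σ c.b2 * c.b8 ^ 2 * T.σ c.b8 + c.a1 * T.σ c.a1 * c.b8 ^ 2 * T.σ c.b8 ^ 2
  b6 := c.b6 + c.a1 * c.a8 + c.b2 * T.σ c.b8
  a6 := c.a6 + c.a2 * T.σ c.a8 + c.a3 * c.a8 + c.a5 * c.b8 + T.σ c.a7 * c.b2 + c.a7 * c.b4 +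
      c.b6 * T.σ c.b6 + T.σ c.a1 * c.a7 * c.a8 + T.σ c.a1 * T.σ c.a8 * c.b6 +
      c.a1 * T.σ c.a7 * c.b8 + c.a2 * c.a8 * c.b8 + c.a3 * c.b8 * T.σ c.b8 +
      c.a7 * T.σ c.b2 * c.b8 + c.b2 * T.σ c.b6 * T.σ c.b8 + c.b4 * c.b6 * c.b8 +
      T.σ c.a1 * c.a7 * c.b8 * T.σ c.b8 + T.σ c.a1 * T.σ c.a8 * c.b2 * T.σ c.b8 +
      T.σ c.a1 * c.a8 * c.b6 * c.b8 + T.σ c.a1 * c.a8 ^ 2 * c.b2 +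
      c.a1 * T.σ c.a8 * T.σ c.b2 * c.b8 + c.a1 * T.σ c.b6 * c.b8 * T.σ c.b8 +
      c.a2 * c.b8 ^ 2 * T.σ c.b8 + c.a8 * c.b2 * T.σ c.b2 * c.b8 +
      T.σ c.a1 * c.b6 * c.b8 ^ 2 * T.σ c.b8 + c.a1 * T.σ c.a1 * T.σ c.a8 * c.b8 * T.σ c.b8 +
      c.a1 * T.σ c.a1 * c.a8 ^ 2 * c.b8 + T.σ c.a1 * c.b2 * c.b8 ^ 2 * T.σ c.b8 ^ 2 +
      c.a1 * T.σ c.b2 * c.b8 ^ 3 * T.σ c.b8 + c.a1 * T.σ c.a1 * c.b8 ^ 3 * T.σ c.b8 ^ 2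
  a7 := c.a7 + c.a1 * T.σ c.a8 + c.a8 * c.b2 + c.b6 * c.b8 + c.a1 * c.a8 * c.b8 +
      c.b2 * c.b8 * T.σ c.b8 + c.a1 * c.b8 ^ 2 * T.σ c.b8
  b8 := c.b8
  a8 := c.a8 + c.b8 * T.σ c.b8 }⟩

instance instOneCo : One (Co T) := ⟨⟨0, 0, 0, 0, 0, 0, 0, 0, 0, 0, 0, 0⟩⟩

/-- conjugation by `n₈` on `Q = {b8 = a8 = 0}`: `x_i ↦ x_{8-i}`, `y_i ↦ y_{8-i}` -/
def nu8 (c : Co T) : Co T where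
  a1 := c.a7
  b2 := c.b6
  a2 := c.a6 + T.σ c.a7 * c.b2 + c.a7 * c.b4
  a3 := c.a5 + c.a1 * T.σ c.a7 + c.a7 * T.σ c.b2 + c.b4 * c.b6
  b4 := c.b4
  a4 := c.a4 + c.a1 * c.a6 + c.a2 * c.a7 + c.a3 * c.b6 + c.a5 * c.b2 + T.σ c.a1 * c.a7 * c.b6 +
      c.a1 * T.σ c.a7 * c.b2 + c.a1 * c.a7 * c.b4 + c.a1 * c.b6 * T.σ c.b6 + c.b2 * c.b4 * c.b6
  a5 := c.a3 + T.σ c.a1 * c.a7 + c.a1 * T.σ c.b6 + c.b2 * c.b4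
  b6 := c.b2
  a6 := c.a2 + T.σ c.a1 * c.b6 + c.a1 * c.b4
  a7 := c.a1
  b8 := 0
  a8 := 0

/-- conjugation by `n₁` on `Q₁ = {a1 = 0}`: `x_i ↦ x_{10-i}`, `y_i ↦ y_{10-i}` -/
def nu1 (c : Co T) : Co T where
  a1 := 0
  b2 := c.b8
  a2 := c.a8
  a3 := c.a7 + c.a8 * c.b2 + c.b6 * c.b8 + c.b2 * c.b8 * T.σ c.b8
  b4 := c.b6 + c.b2 * T.σ c.b8
  a4 := c.a6 + c.a2 * T.σ c.a8 + c.a3 * c.a8 + c.a5 * c.b8 + T.σ c.a7 * c.b2 + c.a7 * c.b4 +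
      c.a2 * c.a8 * c.b8 + c.a3 * c.b8 * T.σ c.b8 + c.a7 * T.σ c.b2 * c.b8 + c.b4 * c.b6 * c.b8 +
      c.a2 * c.b8 ^ 2 * T.σ c.b8 + c.a8 * c.b2 * T.σ c.b2 * c.b8 + T.σ c.b2 * c.b6 * c.b8 ^ 2 +
      c.b2 * T.σ c.b2 * c.b8 ^ 2 * T.σ c.b8
  a5 := c.a5 + c.a2 * c.a8 + c.a3 * T.σ c.b8 + c.a7 * T.σ c.b2 + c.b4 * c.b6 + c.a8 * c.b2 * T.σ c.b2
  b6 := c.b4 + T.σ c.b2 * c.b8
  a6 := c.a4 + T.σ c.a2 * c.a8 + c.a2 * c.a7 + T.σ c.a3 * c.b8 + c.a3 * c.b6 + c.a5 * c.b2 +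
      T.σ c.a2 * c.b8 * T.σ c.b8 + c.a2 * c.a8 * c.b2 + c.a3 * c.b2 * T.σ c.b8 +
      T.σ c.b2 * T.σ c.b4 * c.b8 + c.b2 * c.b4 * c.b6 + c.a8 * c.b2 ^ 2 * T.σ c.b2
  a7 := c.a3 + c.a2 * c.b8 + c.b2 * c.b4
  b8 := c.b2
  a8 := c.a2

@[simp] theorem mul_a1 (c d : Co T) : (c * d).a1 =
      c.a1 + d.a1 := rfl
@[simp] theorem mul_b2 (c d : Co T) : (c * d).b2 =
      c.b2 + d.b2 + c.b8 * d.a1 := rfl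
@[simp] theorem mul_a2 (c d : Co T) : (c * d).a2 =
      c.a2 + d.a2 + c.b2 * T.σ d.b2 + c.b4 * d.a1 + c.b6 * T.σ d.a1 + c.a8 * d.a1 * T.σ d.a1 +
      c.b2 * T.σ c.b8 * T.σ d.a1 + c.b8 * d.a1 * T.σ d.b2 := rfl
@[simp] theorem mul_a3 (c d : Co T) : (c * d).a3 =
      c.a3 + d.a3 + c.a7 * T.σ d.a1 + c.b4 * d.b2 + T.σ c.b6 * d.a1 + c.b8 * d.a2 +
      T.σ c.a8 * d.a1 * T.σ d.a1 + c.a8 * T.σ d.a1 * d.b2 + c.b4 * c.b8 * d.a1 +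
      c.b8 * d.b2 * T.σ d.b2 + c.a8 * c.b8 * d.a1 * T.σ d.a1 +
      c.b8 ^ 2 * T.σ c.b8 * d.a1 * T.σ d.a1 := rfl
@[simp] theorem mul_b4 (c d : Co T) : (c * d).b4 =
      c.b4 + d.b4 + c.a8 * T.σ d.a1 + c.b8 * T.σ d.b2 := rfl
@[simp] theorem mul_a4 (c d : Co T) : (c * d).a4 =
      c.a4 + d.a4 + c.a5 * d.b2 + c.a6 * d.a1 + c.a7 * d.a2 + c.a8 * T.σ d.a2 + c.b4 * T.σ d.b4 +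
      c.b6 * d.a3 + c.b8 * T.σ d.a3 + c.a5 * c.b8 * d.a1 + T.σ c.a7 * d.a1 * d.b2 +
      c.a7 * c.b6 * T.σ d.a1 + c.a7 * d.b2 * T.σ d.b2 + T.σ c.a8 * d.a1 * d.a2 +
      c.a8 * T.σ d.a1 * T.σ d.b4 + c.a8 * d.a1 * d.a3 + c.a8 * d.a2 * d.b2 + c.b6 * c.b8 * d.a2 +
      T.σ c.b8 * d.a3 * d.b2 + c.b8 * T.σ d.b2 * T.σ d.b4 + T.σ c.a7 * c.b8 * d.a1 ^ 2 +
      c.a7 * c.a8 * d.a1 * T.σ d.a1 + c.a7 * T.σ c.b8 * T.σ d.a1 * d.b2 +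
      T.σ c.a8 * c.b4 * d.a1 ^ 2 + T.σ c.a8 * c.b6 * d.a1 * T.σ d.a1 +
      T.σ c.a8 * d.a1 * d.b2 * T.σ d.b2 + c.a8 * c.b6 * T.σ d.a1 * d.b2 +
      c.a8 * d.b2 ^ 2 * T.σ d.b2 + c.b4 * T.σ c.b8 * d.b2 ^ 2 + c.b6 * c.b8 * d.b2 * T.σ d.b2 +
      c.b8 * T.σ c.b8 * d.a1 * d.a3 + c.b8 * T.σ c.b8 * d.a2 * d.b2 +
      c.a7 * c.b8 * T.σ c.b8 * d.a1 * T.σ d.a1 + T.σ c.a8 * T.σ c.b8 * d.a1 * T.σ d.a1 * d.b2 +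
      c.a8 * c.b6 * c.b8 * d.a1 * T.σ d.a1 + c.a8 * T.σ c.b8 * T.σ d.a1 * d.b2 ^ 2 +
      c.a8 * T.σ c.a8 * d.a1 ^ 2 * T.σ d.a1 + c.a8 ^ 2 * d.a1 * T.σ d.a1 * d.b2 +
      c.b8 * T.σ c.b8 * d.b2 ^ 2 * T.σ d.b2 + T.σ c.a8 * c.b8 * T.σ c.b8 * d.a1 ^ 2 * T.σ d.a1 +
      c.a8 ^ 2 * c.b8 * d.a1 ^ 2 * T.σ d.a1 + c.b6 * c.b8 ^ 2 * T.σ c.b8 * d.a1 * T.σ d.a1 +
      c.b8 ^ 2 * T.σ c.b8 ^ 2 * d.a1 * T.σ d.a1 * d.b2 +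
      c.b8 ^ 3 * T.σ c.b8 ^ 2 * d.a1 ^ 2 * T.σ d.a1 := rfl
@[simp] theorem mul_a5 (c d : Co T) : (c * d).a5 =
      c.a5 + d.a5 + T.σ c.a7 * d.a1 + c.a7 * T.σ d.b2 + c.a8 * d.a2 + c.b6 * d.b4 + T.σ c.b8 * d.a3 +
      c.a7 * T.σ c.b8 * T.σ d.a1 + T.σ c.a8 * d.a1 * T.σ d.b2 + c.a8 * c.b6 * T.σ d.a1 +
      c.a8 * d.a1 * d.b4 + c.b6 * c.b8 * T.σ d.b2 + T.σ c.b8 * d.b2 * d.b4 +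
      c.b8 * T.σ c.b8 * d.a2 + T.σ c.a8 * T.σ c.b8 * d.a1 * T.σ d.a1 +
      c.a8 ^ 2 * d.a1 * T.σ d.a1 + c.b8 * T.σ c.b8 * d.a1 * d.b4 +
      c.b8 ^ 2 * T.σ c.b8 ^ 2 * d.a1 * T.σ d.a1 := rfl
@[simp] theorem mul_b6 (c d : Co T) : (c * d).b6 =
      c.b6 + d.b6 + c.a8 * d.a1 + T.σ c.b8 * d.b2 + c.b8 * T.σ c.b8 * d.a1 := rfl
@[simp] theorem mul_a6 (c d : Co T) : (c * d).a6 =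
      c.a6 + d.a6 + T.σ c.a7 * d.b2 + c.a7 * d.b4 + T.σ c.a8 * d.a2 + c.a8 * d.a3 + c.b6 * T.σ d.b6 +
      c.b8 * d.a5 + T.σ c.a7 * c.b8 * d.a1 + c.a7 * c.a8 * T.σ d.a1 + c.a7 * c.b8 * T.σ d.b2 +
      T.σ c.a8 * c.b6 * T.σ d.a1 + T.σ c.a8 * d.a1 * d.b4 + T.σ c.a8 * d.b2 * T.σ d.b2 +
      c.a8 * c.b8 * d.a2 + c.a8 * d.a1 * T.σ d.b6 + c.a8 * d.b2 * d.b4 +
      T.σ c.b8 * d.b2 * T.σ d.b6 + T.σ c.a8 * T.σ c.b8 * T.σ d.a1 * d.b2 +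
      T.σ c.a8 * c.b8 * d.a1 * T.σ d.b2 + c.a8 * c.b8 * d.a1 * d.b4 +
      c.a8 ^ 2 * T.σ d.a1 * d.b2 + c.b6 * c.b8 ^ 2 * T.σ d.b2 +
      c.b8 * T.σ c.b8 * d.a1 * T.σ d.b6 + c.b8 ^ 2 * T.σ c.b8 * d.a2 +
      T.σ c.a8 * c.b8 * T.σ c.b8 * d.a1 * T.σ d.a1 + c.a8 ^ 2 * c.b8 * d.a1 * T.σ d.a1 +
      c.b6 * c.b8 ^ 2 * T.σ c.b8 * T.σ d.a1 + c.b8 ^ 2 * T.σ c.b8 * d.a1 * d.b4 +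
      c.b8 ^ 2 * T.σ c.b8 ^ 2 * T.σ d.a1 * d.b2 + c.b8 ^ 3 * T.σ c.b8 ^ 2 * d.a1 * T.σ d.a1 := rfl
@[simp] theorem mul_a7 (c d : Co T) : (c * d).a7 =
      c.a7 + d.a7 + T.σ c.a8 * d.a1 + c.a8 * d.b2 + c.b8 * d.b6 + c.a8 * c.b8 * d.a1 +
      c.b8 ^ 2 * T.σ c.b8 * d.a1 := rfl
@[simp] theorem mul_b8 (c d : Co T) : (c * d).b8 =
      c.b8 + d.b8 := rfl
@[simp] theorem mul_a8 (c d : Co T) : (c * d).a8 =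
      c.a8 + d.a8 + c.b8 * T.σ d.b8 := rfl
@[simp] theorem inv_a1 (c : Co T) : (c⁻¹).a1 =
      c.a1 := rfl
@[simp] theorem inv_b2 (c : Co T) : (c⁻¹).b2 =
      c.b2 + c.a1 * c.b8 := rfl
@[simp] theorem inv_a2 (c : Co T) : (c⁻¹).a2 =
      c.a2 + T.σ c.a1 * c.b6 + c.a1 * c.b4 + c.b2 * T.σ c.b2 + c.a1 * T.σ c.b2 * c.b8 +
      c.a1 * T.σ c.a1 * c.a8 + c.a1 * T.σ c.a1 * c.b8 * T.σ c.b8 := rfl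
@[simp] theorem inv_a3 (c : Co T) : (c⁻¹).a3 =
      c.a3 + T.σ c.a1 * c.a7 + c.a1 * T.σ c.b6 + c.a2 * c.b8 + c.b2 * c.b4 + T.σ c.a1 * c.a8 * c.b2 +
      T.σ c.a1 * c.b6 * c.b8 + c.a1 * c.b4 * c.b8 + c.a1 * T.σ c.a1 * T.σ c.a8 +
      T.σ c.a1 * c.b2 * c.b8 * T.σ c.b8 + c.a1 * T.σ c.a1 * c.a8 * c.b8 +
      c.a1 * T.σ c.a1 * c.b8 ^ 2 * T.σ c.b8 := rfl
@[simp] theorem inv_b4 (c : Co T) : (c⁻¹).b4 =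
      c.b4 + T.σ c.a1 * c.a8 + T.σ c.b2 * c.b8 + T.σ c.a1 * c.b8 * T.σ c.b8 := rfl
@[simp] theorem inv_a4 (c : Co T) : (c⁻¹).a4 =
      c.a4 + c.a1 * c.a6 + T.σ c.a2 * c.a8 + c.a2 * c.a7 + T.σ c.a3 * c.b8 + c.a3 * c.b6 +
      c.a5 * c.b2 + c.b4 * T.σ c.b4 + T.σ c.a1 * c.a7 * c.b6 + c.a1 * c.a2 * T.σ c.a8 +
      c.a1 * c.a3 * c.a8 + c.a1 * T.σ c.a7 * c.b2 + c.a1 * c.a7 * c.b4 + c.a1 * c.b6 * T.σ c.b6 +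
      T.σ c.a2 * c.b8 * T.σ c.b8 + c.a2 * c.a8 * c.b2 + c.a3 * c.b2 * T.σ c.b8 +
      c.b2 * c.b4 * c.b6 + T.σ c.a1 * c.a7 * c.b2 * T.σ c.b8 + T.σ c.a1 * c.a8 * c.b2 * c.b6 +
      T.σ c.a1 * c.b6 ^ 2 * c.b8 + c.a1 * c.b2 * T.σ c.b6 * T.σ c.b8 +
      c.a1 * T.σ c.a1 * c.a7 * c.a8 + c.a1 * T.σ c.a1 * T.σ c.a8 * c.b6 +
      c.a1 ^ 2 * T.σ c.a7 * c.b8 + c.a1 ^ 2 * T.σ c.a8 * c.b4 + c.a8 * c.b2 ^ 2 * T.σ c.b2 +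
      c.b2 ^ 2 * c.b4 * T.σ c.b8 + T.σ c.a1 * c.a8 * c.b2 ^ 2 * T.σ c.b8 +
      c.a1 * c.a2 * c.b8 ^ 2 * T.σ c.b8 + c.a1 * T.σ c.a1 * T.σ c.a8 * c.b2 * T.σ c.b8 +
      c.a1 * T.σ c.a1 * c.a8 ^ 2 * c.b2 + c.a1 ^ 2 * T.σ c.b6 * c.b8 * T.σ c.b8 +
      c.a1 ^ 2 * T.σ c.a1 * c.a8 * T.σ c.a8 + c.b2 ^ 2 * T.σ c.b2 * c.b8 * T.σ c.b8 +
      T.σ c.a1 * c.b2 ^ 2 * c.b8 * T.σ c.b8 ^ 2 + c.a1 * T.σ c.a1 * c.b6 * c.b8 ^ 2 * T.σ c.b8 +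
      c.a1 ^ 2 * c.b4 * c.b8 ^ 2 * T.σ c.b8 + c.a1 ^ 2 * T.σ c.a1 * c.a8 ^ 2 * c.b8 +
      c.a1 * T.σ c.a1 * c.b2 * c.b8 ^ 2 * T.σ c.b8 ^ 2 +
      c.a1 ^ 2 * T.σ c.a1 * c.a8 * c.b8 ^ 2 * T.σ c.b8 := rfl
@[simp] theorem inv_a5 (c : Co T) : (c⁻¹).a5 =
      c.a5 + c.a1 * T.σ c.a7 + c.a2 * c.a8 + c.a3 * T.σ c.b8 + c.a7 * T.σ c.b2 + c.b4 * c.b6 +
      T.σ c.a1 * c.a7 * T.σ c.b8 + T.σ c.a1 * c.a8 * c.b6 + c.a1 * T.σ c.a8 * T.σ c.b2 +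
      c.a1 * T.σ c.b6 * T.σ c.b8 + c.a8 * c.b2 * T.σ c.b2 +
      c.a1 * T.σ c.a1 * T.σ c.a8 * T.σ c.b8 + c.a1 * T.σ c.a1 * c.a8 ^ 2 +
      c.a1 * T.σ c.b2 * c.b8 ^ 2 * T.σ c.b8 + c.a1 * T.σ c.a1 * c.b8 ^ 2 * T.σ c.b8 ^ 2 := rfl
@[simp] theorem inv_b6 (c : Co T) : (c⁻¹).b6 =
      c.b6 + c.a1 * c.a8 + c.b2 * T.σ c.b8 := rfl
@[simp] theorem inv_a6 (c : Co T) : (c⁻¹).a6 =
      c.a6 + c.a2 * T.σ c.a8 + c.a3 * c.a8 + c.a5 * c.b8 + T.σ c.a7 * c.b2 + c.a7 * c.b4 +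
      c.b6 * T.σ c.b6 + T.σ c.a1 * c.a7 * c.a8 + T.σ c.a1 * T.σ c.a8 * c.b6 +
      c.a1 * T.σ c.a7 * c.b8 + c.a2 * c.a8 * c.b8 + c.a3 * c.b8 * T.σ c.b8 +
      c.a7 * T.σ c.b2 * c.b8 + c.b2 * T.σ c.b6 * T.σ c.b8 + c.b4 * c.b6 * c.b8 +
      T.σ c.a1 * c.a7 * c.b8 * T.σ c.b8 + T.σ c.a1 * T.σ c.a8 * c.b2 * T.σ c.b8 +
      T.σ c.a1 * c.a8 * c.b6 * c.b8 + T.σ c.a1 * c.a8 ^ 2 * c.b2 +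
      c.a1 * T.σ c.a8 * T.σ c.b2 * c.b8 + c.a1 * T.σ c.b6 * c.b8 * T.σ c.b8 +
      c.a2 * c.b8 ^ 2 * T.σ c.b8 + c.a8 * c.b2 * T.σ c.b2 * c.b8 +
      T.σ c.a1 * c.b6 * c.b8 ^ 2 * T.σ c.b8 + c.a1 * T.σ c.a1 * T.σ c.a8 * c.b8 * T.σ c.b8 +
      c.a1 * T.σ c.a1 * c.a8 ^ 2 * c.b8 + T.σ c.a1 * c.b2 * c.b8 ^ 2 * T.σ c.b8 ^ 2 +
      c.a1 * T.σ c.b2 * c.b8 ^ 3 * T.σ c.b8 + c.a1 * T.σ c.a1 * c.b8 ^ 3 * T.σ c.b8 ^ 2 := rfl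
@[simp] theorem inv_a7 (c : Co T) : (c⁻¹).a7 =
      c.a7 + c.a1 * T.σ c.a8 + c.a8 * c.b2 + c.b6 * c.b8 + c.a1 * c.a8 * c.b8 +
      c.b2 * c.b8 * T.σ c.b8 + c.a1 * c.b8 ^ 2 * T.σ c.b8 := rfl
@[simp] theorem inv_b8 (c : Co T) : (c⁻¹).b8 =
      c.b8 := rfl
@[simp] theorem inv_a8 (c : Co T) : (c⁻¹).a8 =
      c.a8 + c.b8 * T.σ c.b8 := rfl
@[simp] theorem one_a1 : (1 : Co T).a1 = 0 := rfl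
@[simp] theorem one_b2 : (1 : Co T).b2 = 0 := rfl
@[simp] theorem one_a2 : (1 : Co T).a2 = 0 := rfl
@[simp] theorem one_a3 : (1 : Co T).a3 = 0 := rfl
@[simp] theorem one_b4 : (1 : Co T).b4 = 0 := rfl
@[simp] theorem one_a4 : (1 : Co T).a4 = 0 := rfl
@[simp] theorem one_a5 : (1 : Co T).a5 = 0 := rfl
@[simp] theorem one_b6 : (1 : Co T).b6 = 0 := rfl
@[simp] theorem one_a6 : (1 : Co T).a6 = 0 := rfl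
@[simp] theorem one_a7 : (1 : Co T).a7 = 0 := rfl
@[simp] theorem one_b8 : (1 : Co T).b8 = 0 := rfl
@[simp] theorem one_a8 : (1 : Co T).a8 = 0 := rfl

variable [CharP K 2]

instance instGroupCo : Group (Co T) := Group.ofLeftAxioms
  (fun c d e => by
    ext <;> simp only [mul_a1, mul_b2, mul_a2, mul_a3, mul_b4, mul_a4, mul_a5, mul_b6, mul_a6, mul_a7, mul_b8, mul_a8,
      map_add, map_mul, map_pow, T.sq] <;> grind)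
  (fun c => by ext <;> simp)
  (fun c => by
    ext <;> simp only [mul_a1, mul_b2, mul_a2, mul_a3, mul_b4, mul_a4, mul_a5, mul_b6, mul_a6, mul_a7, mul_b8, mul_a8,
      inv_a1, inv_b2, inv_a2, inv_a3, inv_b4, inv_a4, inv_a5, inv_b6, inv_a6, inv_a7, inv_b8, inv_a8,
      one_a1, one_b2, one_a2, one_a3, one_b4, one_a4, one_a5, one_b6, one_a6, one_a7, one_b8, one_a8,
      map_add, map_mul, map_pow, T.sq] <;> grind)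

instance instFiniteCo [Finite K] : Finite (Co T) :=
  Finite.of_injective (fun c : Co T => (c.a1, c.b2, c.a2, c.a3, c.b4, c.a4, c.a5, c.b6, c.a6, c.a7, c.b8, c.a8))
    fun c d h => by ext <;> simp_all

end Co

variable (T)

/-- root element -/
def x1 (t : K) : Co T := ⟨t, 0, 0, 0, 0, 0, 0, 0, 0, 0, 0, 0⟩
/-- root element -/
def y2 (t : K) : Co T := ⟨0, t, 0, 0, 0, 0, 0, 0, 0, 0, 0, 0⟩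
/-- root element -/
def x2 (t : K) : Co T := ⟨0, 0, t, 0, 0, 0, 0, 0, 0, 0, 0, 0⟩
/-- root element -/
def x3 (t : K) : Co T := ⟨0, 0, 0, t, 0, 0, 0, 0, 0, 0, 0, 0⟩
/-- root element -/
def y4 (t : K) : Co T := ⟨0, 0, 0, 0, t, 0, 0, 0, 0, 0, 0, 0⟩
/-- root element -/
def x4 (t : K) : Co T := ⟨0, 0, 0, 0, 0, t, 0, 0, 0, 0, 0, 0⟩
/-- root element -/
def x5 (t : K) : Co T := ⟨0, 0, 0, 0, 0, 0, t, 0, 0, 0, 0, 0⟩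
/-- root element -/
def y6 (t : K) : Co T := ⟨0, 0, 0, 0, 0, 0, 0, t, 0, 0, 0, 0⟩
/-- root element -/
def x6 (t : K) : Co T := ⟨0, 0, 0, 0, 0, 0, 0, 0, t, 0, 0, 0⟩
/-- root element -/
def x7 (t : K) : Co T := ⟨0, 0, 0, 0, 0, 0, 0, 0, 0, t, 0, 0⟩
/-- root element -/
def y8 (t : K) : Co T := ⟨0, 0, 0, 0, 0, 0, 0, 0, 0, 0, t, 0⟩
/-- root element -/
def x8 (t : K) : Co T := ⟨0, 0, 0, 0, 0, 0, 0, 0, 0, 0, 0, t⟩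
/-- the element `x₆(s) x₄(r)` of `W` -/
def ww (s r : K) : Co T := ⟨0, 0, 0, 0, 0, r, 0, 0, s, 0, 0, 0⟩
/-- the element `y₈(b) x₈(a)` of `U₈` -/
def uu (b a : K) : Co T := ⟨0, 0, 0, 0, 0, 0, 0, 0, 0, 0, b, a⟩

/-- the character of `x₄` -/
def chi4 (a b : K) : K := a ^ 2 * T.σ a * (b ^ 3 * T.σ b ^ 2)
/-- the character of `x₆` -/
def chi6 (a b : K) : K := a * T.σ a * (b ^ 3 * T.σ b ^ 2)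

/-- the diagonal action; `a` is the character of `x₁`, `b` the character of `y₈` -/
def dg (a b : K) (c : Co T) : Co T where
  a1 := a * c.a1
  b2 := a * b * c.b2
  a2 := a * T.σ a * (b * T.σ b) * c.a2
  a3 := a * T.σ a * (b ^ 2 * T.σ b) * c.a3
  b4 := T.σ a * (b * T.σ b) * c.b4
  a4 := a ^ 2 * T.σ a * (b ^ 3 * T.σ b ^ 2) * c.a4
  a5 := a * T.σ a * (b ^ 2 * T.σ b ^ 2) * c.a5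
  b6 := a * (b * T.σ b) * c.b6
  a6 := a * T.σ a * (b ^ 3 * T.σ b ^ 2) * c.a6
  a7 := a * (b ^ 2 * T.σ b) * c.a7
  b8 := b * c.b8
  a8 := b * T.σ b * c.a8

variable [CharP K 2]

/-- `Z = V₄` -/
def sZ : Subgroup (Co T) where
  carrier := {c | c.a1 = 0 ∧ c.b2 = 0 ∧ c.a2 = 0 ∧ c.a3 = 0 ∧ c.b4 = 0 ∧ c.a5 = 0 ∧ c.b6 = 0 ∧ c.a6 = 0 ∧ c.a7 = 0 ∧ c.b8 = 0 ∧ c.a8 = 0}
  one_mem' := by simp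
  mul_mem' := fun {c d} hc hd => by simp_all
  inv_mem' := fun {c} hc => by simp_all
theorem mem_sZ {c : Co T} : c ∈ sZ T ↔ c.a1 = 0 ∧ c.b2 = 0 ∧ c.a2 = 0 ∧ c.a3 = 0 ∧ c.b4 = 0 ∧ c.a5 = 0 ∧ c.b6 = 0 ∧ c.a6 = 0 ∧ c.a7 = 0 ∧ c.b8 = 0 ∧ c.a8 = 0 := Iff.rfl

/-- `W = V₄V₆` -/
def sW : Subgroup (Co T) where
  carrier := {c | c.a1 = 0 ∧ c.b2 = 0 ∧ c.a2 = 0 ∧ c.a3 = 0 ∧ c.b4 = 0 ∧ c.a5 = 0 ∧ c.b6 = 0 ∧ c.a7 = 0 ∧ c.b8 = 0 ∧ c.a8 = 0}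
  one_mem' := by simp
  mul_mem' := fun {c d} hc hd => by simp_all
  inv_mem' := fun {c} hc => by simp_all
theorem mem_sW {c : Co T} : c ∈ sW T ↔ c.a1 = 0 ∧ c.b2 = 0 ∧ c.a2 = 0 ∧ c.a3 = 0 ∧ c.b4 = 0 ∧ c.a5 = 0 ∧ c.b6 = 0 ∧ c.a7 = 0 ∧ c.b8 = 0 ∧ c.a8 = 0 := Iff.rfl

/-- `A = V₄U₅V₆` -/
def sA : Subgroup (Co T) where
  carrier := {c | c.a1 = 0 ∧ c.b2 = 0 ∧ c.a2 = 0 ∧ c.a3 = 0 ∧ c.b4 = 0 ∧ c.b6 = 0 ∧ c.a7 = 0 ∧ c.b8 = 0 ∧ c.a8 = 0}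
  one_mem' := by simp
  mul_mem' := fun {c d} hc hd => by simp_all
  inv_mem' := fun {c} hc => by simp_all
theorem mem_sA {c : Co T} : c ∈ sA T ↔ c.a1 = 0 ∧ c.b2 = 0 ∧ c.a2 = 0 ∧ c.a3 = 0 ∧ c.b4 = 0 ∧ c.b6 = 0 ∧ c.a7 = 0 ∧ c.b8 = 0 ∧ c.a8 = 0 := Iff.rfl

/-- `U₃V₄U₅V₆` -/
def sV0 : Subgroup (Co T) where
  carrier := {c | c.a1 = 0 ∧ c.b2 = 0 ∧ c.a2 = 0 ∧ c.b4 = 0 ∧ c.b6 = 0 ∧ c.a7 = 0 ∧ c.b8 = 0 ∧ c.a8 = 0}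
  one_mem' := by simp
  mul_mem' := fun {c d} hc hd => by simp_all
  inv_mem' := fun {c} hc => by simp_all
theorem mem_sV0 {c : Co T} : c ∈ sV0 T ↔ c.a1 = 0 ∧ c.b2 = 0 ∧ c.a2 = 0 ∧ c.b4 = 0 ∧ c.b6 = 0 ∧ c.a7 = 0 ∧ c.b8 = 0 ∧ c.a8 = 0 := Iff.rfl

/-- `V = V₂U₃V₄U₅V₆` -/
def sV : Subgroup (Co T) where
  carrier := {c | c.a1 = 0 ∧ c.b2 = 0 ∧ c.b4 = 0 ∧ c.b6 = 0 ∧ c.a7 = 0 ∧ c.b8 = 0 ∧ c.a8 = 0}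
  one_mem' := by simp
  mul_mem' := fun {c d} hc hd => by simp_all
  inv_mem' := fun {c} hc => by simp_all
theorem mem_sV {c : Co T} : c ∈ sV T ↔ c.a1 = 0 ∧ c.b2 = 0 ∧ c.b4 = 0 ∧ c.b6 = 0 ∧ c.a7 = 0 ∧ c.b8 = 0 ∧ c.a8 = 0 := Iff.rfl

/-- `R = V U₄` -/
def sR : Subgroup (Co T) where
  carrier := {c | c.a1 = 0 ∧ c.b2 = 0 ∧ c.b6 = 0 ∧ c.a7 = 0 ∧ c.b8 = 0 ∧ c.a8 = 0}
  one_mem' := by simp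
  mul_mem' := fun {c d} hc hd => by simp_all
  inv_mem' := fun {c} hc => by simp_all
theorem mem_sR {c : Co T} : c ∈ sR T ↔ c.a1 = 0 ∧ c.b2 = 0 ∧ c.b6 = 0 ∧ c.a7 = 0 ∧ c.b8 = 0 ∧ c.a8 = 0 := Iff.rfl

/-- `U₃V₄U₅V₆U₇` -/
def sA7 : Subgroup (Co T) where
  carrier := {c | c.a1 = 0 ∧ c.b2 = 0 ∧ c.a2 = 0 ∧ c.b4 = 0 ∧ c.b6 = 0 ∧ c.b8 = 0 ∧ c.a8 = 0}
  one_mem' := by simp
  mul_mem' := fun {c d} hc hd => by simp_all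
  inv_mem' := fun {c} hc => by simp_all
theorem mem_sA7 {c : Co T} : c ∈ sA7 T ↔ c.a1 = 0 ∧ c.b2 = 0 ∧ c.a2 = 0 ∧ c.b4 = 0 ∧ c.b6 = 0 ∧ c.b8 = 0 ∧ c.a8 = 0 := Iff.rfl

/-- `Q = U₁⋯U₇` -/
def sQ : Subgroup (Co T) where
  carrier := {c | c.b8 = 0 ∧ c.a8 = 0}
  one_mem' := by simp
  mul_mem' := fun {c d} hc hd => by simp_all
  inv_mem' := fun {c} hc => by simp_all
theorem mem_sQ {c : Co T} : c ∈ sQ T ↔ c.b8 = 0 ∧ c.a8 = 0 := Iff.rfl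

/-- `Q₁ = U₂⋯U₈` -/
def sQ1 : Subgroup (Co T) where
  carrier := {c | c.a1 = 0}
  one_mem' := by simp
  mul_mem' := fun {c d} hc hd => by simp_all
  inv_mem' := fun {c} hc => by simp_all
theorem mem_sQ1 {c : Co T} : c ∈ sQ1 T ↔ c.a1 = 0 := Iff.rfl

/-- `U₈` -/
def sU8 : Subgroup (Co T) where
  carrier := {c | c.a1 = 0 ∧ c.b2 = 0 ∧ c.a2 = 0 ∧ c.a3 = 0 ∧ c.b4 = 0 ∧ c.a4 = 0 ∧ c.a5 = 0 ∧ c.b6 = 0 ∧ c.a6 = 0 ∧ c.a7 = 0}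
  one_mem' := by simp
  mul_mem' := fun {c d} hc hd => by simp_all
  inv_mem' := fun {c} hc => by simp_all
theorem mem_sU8 {c : Co T} : c ∈ sU8 T ↔ c.a1 = 0 ∧ c.b2 = 0 ∧ c.a2 = 0 ∧ c.a3 = 0 ∧ c.b4 = 0 ∧ c.a4 = 0 ∧ c.a5 = 0 ∧ c.b6 = 0 ∧ c.a6 = 0 ∧ c.a7 = 0 := Iff.rfl

/-- the centralizer of `x₅(a)` -/
def sT5 : Subgroup (Co T) where
  carrier := {c | c.b2 = 0 ∧ c.b8 = 0}
  one_mem' := by simp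
  mul_mem' := fun {c d} hc hd => by simp_all
  inv_mem' := fun {c} hc => by simp_all
theorem mem_sT5 {c : Co T} : c ∈ sT5 T ↔ c.b2 = 0 ∧ c.b8 = 0 := Iff.rfl

/-- the centralizer of `x₇(a)` -/
def sT7 : Subgroup (Co T) where
  carrier := {c | c.a1 = 0 ∧ c.b2 = 0 ∧ c.a2 = 0 ∧ c.b4 = 0}
  one_mem' := by simp
  mul_mem' := fun {c d} hc hd => by simp_all
  inv_mem' := fun {c} hc => by simp_all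
theorem mem_sT7 {c : Co T} : c ∈ sT7 T ↔ c.a1 = 0 ∧ c.b2 = 0 ∧ c.a2 = 0 ∧ c.b4 = 0 := Iff.rfl

/-- the centralizer of `x₈(a) x₄(v)` -/
def sT8 : Subgroup (Co T) where
  carrier := {c | c.a1 = 0 ∧ c.b2 = 0 ∧ c.a2 = 0 ∧ c.a3 = 0}
  one_mem' := by simp
  mul_mem' := fun {c d} hc hd => by simp_all
  inv_mem' := fun {c} hc => by simp_all
theorem mem_sT8 {c : Co T} : c ∈ sT8 T ↔ c.a1 = 0 ∧ c.b2 = 0 ∧ c.a2 = 0 ∧ c.a3 = 0 := Iff.rfl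

/-- `V₄U₅V₆U₇V₈`, the image of `V` under `n₁` -/
def sV6 : Subgroup (Co T) where
  carrier := {c | c.a1 = 0 ∧ c.b2 = 0 ∧ c.a2 = 0 ∧ c.a3 = 0 ∧ c.b4 = 0 ∧ c.b6 = 0 ∧ c.b8 = 0}
  one_mem' := by simp
  mul_mem' := fun {c d} hc hd => by simp_all
  inv_mem' := fun {c} hc => by simp_all
theorem mem_sV6 {c : Co T} : c ∈ sV6 T ↔ c.a1 = 0 ∧ c.b2 = 0 ∧ c.a2 = 0 ∧ c.a3 = 0 ∧ c.b4 = 0 ∧ c.b6 = 0 ∧ c.b8 = 0 := Iff.rfl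

variable {T}

theorem dg_mul (a b : K) (c d : Co T) : dg T a b (c * d) = dg T a b c * dg T a b d := by
  ext <;> simp [dg, T.sq] <;> grind

theorem dg_dg (a b a' b' : K) (c : Co T) : dg T a b (dg T a' b' c) = dg T (a * a') (b * b') c := by
  ext <;> simp [dg] <;> grind

theorem dg_one (c : Co T) : dg T 1 1 c = c := by
  ext <;> simp [dg]

theorem nu8_mul {c d : Co T} (hc : c ∈ sQ T) (hd : d ∈ sQ T) : (c * d).nu8 = c.nu8 * d.nu8 := by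
  ext <;> simp [Co.nu8, T.sq, hc.1, hc.2, hd.1, hd.2] <;> grind

theorem nu8_nu8 {c : Co T} (hc : c ∈ sQ T) : c.nu8.nu8 = c := by
  ext <;> simp [Co.nu8, T.sq, hc.1, hc.2] <;> grind

theorem nu1_mul {c d : Co T} (hc : c ∈ sQ1 T) (hd : d ∈ sQ1 T) : (c * d).nu1 = c.nu1 * d.nu1 := by
  have h1 : c.a1 = 0 := hc
  have h2 : d.a1 = 0 := hd
  ext <;> simp [Co.nu1, T.sq, h1, h2] <;> grind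

theorem nu1_nu1 {c : Co T} (hc : c ∈ sQ1 T) : c.nu1.nu1 = c := by
  have h1 : c.a1 = 0 := hc
  ext <;> simp [Co.nu1, T.sq, h1] <;> grind

/-- the normal form -/
theorem nf (c : Co T) : c = x1 T c.a1 * y2 T c.b2 * x2 T c.a2 * x3 T c.a3 * y4 T c.b4 * x4 T c.a4 *
    x5 T c.a5 * y6 T c.b6 * x6 T c.a6 * x7 T c.a7 * y8 T c.b8 * x8 T c.a8 := by
  have e1 : (⟨c.a1, 0, 0, 0, 0, 0, 0, 0, 0, 0, 0, 0⟩ : Co T) * y2 T c.b2 =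
      (⟨c.a1, c.b2, 0, 0, 0, 0, 0, 0, 0, 0, 0, 0⟩ : Co T) := by ext <;> simp [y2]
  have e2 : (⟨c.a1, c.b2, 0, 0, 0, 0, 0, 0, 0, 0, 0, 0⟩ : Co T) * x2 T c.a2 =
      (⟨c.a1, c.b2, c.a2, 0, 0, 0, 0, 0, 0, 0, 0, 0⟩ : Co T) := by ext <;> simp [x2]
  have e3 : (⟨c.a1, c.b2, c.a2, 0, 0, 0, 0, 0, 0, 0, 0, 0⟩ : Co T) * x3 T c.a3 =
      (⟨c.a1, c.b2, c.a2, c.a3, 0, 0, 0, 0, 0, 0, 0, 0⟩ : Co T) := by ext <;> simp [x3]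
  have e4 : (⟨c.a1, c.b2, c.a2, c.a3, 0, 0, 0, 0, 0, 0, 0, 0⟩ : Co T) * y4 T c.b4 =
      (⟨c.a1, c.b2, c.a2, c.a3, c.b4, 0, 0, 0, 0, 0, 0, 0⟩ : Co T) := by ext <;> simp [y4]
  have e5 : (⟨c.a1, c.b2, c.a2, c.a3, c.b4, 0, 0, 0, 0, 0, 0, 0⟩ : Co T) * x4 T c.a4 =
      (⟨c.a1, c.b2, c.a2, c.a3, c.b4, c.a4, 0, 0, 0, 0, 0, 0⟩ : Co T) := by ext <;> simp [x4]
  have e6 : (⟨c.a1, c.b2, c.a2, c.a3, c.b4, c.a4, 0, 0, 0, 0, 0, 0⟩ : Co T) * x5 T c.a5 =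
      (⟨c.a1, c.b2, c.a2, c.a3, c.b4, c.a4, c.a5, 0, 0, 0, 0, 0⟩ : Co T) := by ext <;> simp [x5]
  have e7 : (⟨c.a1, c.b2, c.a2, c.a3, c.b4, c.a4, c.a5, 0, 0, 0, 0, 0⟩ : Co T) * y6 T c.b6 =
      (⟨c.a1, c.b2, c.a2, c.a3, c.b4, c.a4, c.a5, c.b6, 0, 0, 0, 0⟩ : Co T) := by ext <;> simp [y6]
  have e8 : (⟨c.a1, c.b2, c.a2, c.a3, c.b4, c.a4, c.a5, c.b6, 0, 0, 0, 0⟩ : Co T) * x6 T c.a6 =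
      (⟨c.a1, c.b2, c.a2, c.a3, c.b4, c.a4, c.a5, c.b6, c.a6, 0, 0, 0⟩ : Co T) := by ext <;> simp [x6]
  have e9 : (⟨c.a1, c.b2, c.a2, c.a3, c.b4, c.a4, c.a5, c.b6, c.a6, 0, 0, 0⟩ : Co T) * x7 T c.a7 =
      (⟨c.a1, c.b2, c.a2, c.a3, c.b4, c.a4, c.a5, c.b6, c.a6, c.a7, 0, 0⟩ : Co T) := by ext <;> simp [x7]
  have e10 : (⟨c.a1, c.b2, c.a2, c.a3, c.b4, c.a4, c.a5, c.b6, c.a6, c.a7, 0, 0⟩ : Co T) * y8 T c.b8 =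
      (⟨c.a1, c.b2, c.a2, c.a3, c.b4, c.a4, c.a5, c.b6, c.a6, c.a7, c.b8, 0⟩ : Co T) := by ext <;> simp [y8]
  have e11 : (⟨c.a1, c.b2, c.a2, c.a3, c.b4, c.a4, c.a5, c.b6, c.a6, c.a7, c.b8, 0⟩ : Co T) * x8 T c.a8 =
      (⟨c.a1, c.b2, c.a2, c.a3, c.b4, c.a4, c.a5, c.b6, c.a6, c.a7, c.b8, c.a8⟩ : Co T) := by ext <;> simp [x8]
  rw [x1, e1, e2, e3, e4, e5, e6, e7, e8, e9, e10, e11]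

/-- `x ^ i * σ x ^ j = 1` forces `x = 1` when the norm `i² - 2 j²` is `± 2 ^ k` -/
theorem eq_one_of_pw {x : K} (hx : x ≠ 0) {i j : ℤ} (k : ℕ) (hk : (i ^ 2 - 2 * j ^ 2).natAbs = 2 ^ k)
    (h : x ^ i * T.σ x ^ j = 1) : x = 1 := by
  have hs : T.σ x ≠ 0 := (map_ne_zero _).2 hx
  have h2 : T.σ x ^ i * x ^ (2 * j) = 1 := by
    have := congrArg T.σ h
    rwa [map_mul, map_zpow₀, map_zpow₀, T.sq, map_one, ← zpow_natCast, ← zpow_mul] at this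
  have h3 : x ^ (i ^ 2 - 2 * j ^ 2) = 1 := by
    have e1 : (x ^ i * T.σ x ^ j) ^ i = 1 := by rw [h, one_zpow]
    have e2 : (T.σ x ^ i * x ^ (2 * j)) ^ j = 1 := by rw [h2, one_zpow]
    rw [mul_zpow, ← zpow_mul, ← zpow_mul] at e1 e2
    rw [zpow_sub₀ hx, div_eq_one_iff_eq (zpow_ne_zero _ hx)]
    refine mul_right_cancel₀ (zpow_ne_zero (j * i) hs) ?_
    rw [sq, e1, mul_comm j i, mul_comm, sq, ← mul_assoc, e2]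
  have h4 : x ^ 2 ^ k = 1 := by
    rw [← hk]
    rcases Int.natAbs_eq (i ^ 2 - 2 * j ^ 2) with e | e
    · rw [← zpow_natCast, ← e, h3]
    · rw [e, zpow_neg, inv_eq_one, zpow_natCast] at h3; exact h3
  have h5 : (x - 1) ^ 2 ^ k = 0 := by rw [sub_pow_char_pow, h4, one_pow, sub_self]
  exact sub_eq_zero.1 (pow_eq_zero_iff (by positivity) |>.1 h5)

end H63.Oc
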