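/- Interfaces for Parrott's characterisation of the large Ree groups (blueprints/PARROTT.md). -/
import Cfsg.Agent.H63.OcCo
import Cfsg.Prelude.Def_LieTwisted
import Cfsg.Prelude.Def_CaseTheorems

set_option autoImplicit false
set_option linter.unusedSectionVars false

open Subgroup

universe u v w

namespace H63.Oc

section Defs
variable {K : Type*} [Field K] [CharP K 2] (T : TF K)

/-- the torus of the Suzuki group -/
def T0 : Subgroup (Kˣ × Kˣ) where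
  carrier := {p | chi4 T p.1 p.2 = 1}
  one_mem' := by simp [chi4]
  mul_mem' := fun {p p'} h h' => by
    simp only [chi4, Set.mem_ofPred_eq, Prod.fst_mul, Prod.snd_mul, Units.val_mul, map_mul] at *
    linear_combination (p'.1 ^ 2 * T.σ p'.1 * (p'.2 ^ 3 * T.σ p'.2 ^ 2)) * h + h'
  inv_mem' := fun {p} h => by
    simp only [chi4, Set.mem_ofPred_eq, Prod.fst_inv, Prod.snd_inv, Units.val_inv_eq_inv_val, map_inv₀,
      inv_pow, ← mul_inv] at *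
    rw [h, inv_one]

theorem mem_T0 {p : Kˣ × Kˣ} : p ∈ T0 T ↔ chi4 T p.1 p.2 = 1 := Iff.rfl

/-- the action of `n₁` on the torus -/
def w1 (p : Kˣ × Kˣ) : Kˣ × Kˣ := (p.1⁻¹, p.1 * p.2)

/-- the action of `n₈` on the torus -/
def w8 (p : Kˣ × Kˣ) : Kˣ × Kˣ := (p.1 * (p.2 ^ 2 * Units.map (T.σ : K →* K) p.2), p.2⁻¹)

/-- Coordinates on a group isomorphic to the centralizer `C_q = Q : Sz(q)`. -/
structure CS (G : Type*) [Group G] where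
  ι : Co T →* G
  inj : Function.Injective ι
  n8 : G
  h0 : T0 T →* G
  h0_conj : ∀ (p : T0 T) (c : Co T), h0 p * ι c * (h0 p)⁻¹ = ι (dg T p.1.1 p.1.2 c)
  n8_sq : n8 * n8 = 1
  n8_conj : ∀ c ∈ sQ T, n8 * ι c * n8 = ι c.nu8
  n8_h0 : ∀ p, n8 * h0 p * n8 = (h0 p)⁻¹
  rank8 : ∀ u ∈ sU8 T, u ≠ 1 → ∃ u' ∈ sU8 T, ∃ u'' ∈ sU8 T, ∃ p,
    n8 * ι u * n8 = ι u' * h0 p * n8 * ι u''

variable {T} {G : Type*} [Group G]

/-- `C = C_q` -/
def CS.C (D : CS T G) : Subgroup G := closure (Set.range D.ι ∪ Set.range D.h0 ∪ {D.n8})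
/-- the image of a subgroup of the coordinate group -/
abbrev CS.im (D : CS T G) (X : Subgroup (Co T)) : Subgroup G := X.map D.ι
/-- the Sylow 2-subgroup -/
abbrev CS.S (D : CS T G) : Subgroup G := D.ι.range
/-- the involution -/
def CS.τ (D : CS T G) : G := D.ι (x4 T 1)

theorem CS.ι_mem (D : CS T G) (c : Co T) : D.ι c ∈ D.C := subset_closure (Or.inl (Or.inl ⟨c, rfl⟩))
theorem CS.h0_mem (D : CS T G) (p : T0 T) : D.h0 p ∈ D.C := subset_closure (Or.inl (Or.inr ⟨p, rfl⟩))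
theorem CS.n8_mem (D : CS T G) : D.n8 ∈ D.C := subset_closure (Or.inr rfl)

/-- `ι` as a map into `C` -/
def CS.ιC (D : CS T G) : Co T →* D.C := D.ι.codRestrict D.C D.ι_mem

/-- transport of the coordinates along an injective homomorphism defined on `C` -/
def CS.map (D : CS T G) {G' : Type*} [Group G'] (φ : D.C →* G') (hφ : Function.Injective φ) :
    CS T G' where
  ι := φ.comp D.ιC
  inj := fun a b h => D.inj (congrArg Subtype.val (hφ h))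
  n8 := φ ⟨D.n8, D.n8_mem⟩
  h0 := φ.comp (D.h0.codRestrict D.C D.h0_mem)
  h0_conj := fun p c => by
    simp only [MonoidHom.comp_apply, ← map_inv φ, ← map_mul φ]
    exact congrArg φ (Subtype.ext (D.h0_conj p c))
  n8_sq := by rw [← map_mul, ← map_one φ]; exact congrArg φ (Subtype.ext D.n8_sq)
  n8_conj := fun c hc => by
    simp only [MonoidHom.comp_apply, ← map_mul φ]
    exact congrArg φ (Subtype.ext (D.n8_conj c hc))
  n8_h0 := fun p => by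
    simp only [MonoidHom.comp_apply, ← map_inv φ, ← map_mul φ]
    exact congrArg φ (Subtype.ext (D.n8_h0 p))
  rank8 := fun u hu h1 => by
    obtain ⟨u', hu', u'', hu'', p, h⟩ := D.rank8 u hu h1
    refine ⟨u', hu', u'', hu'', p, ?_⟩
    simp only [MonoidHom.comp_apply, ← map_mul φ]
    exact congrArg φ (Subtype.ext h)

theorem CS.map_ι (D : CS T G) {G' : Type*} [Group G'] (φ : D.C →* G') (hφ : Function.Injective φ)
    (c : Co T) : (D.map φ hφ).ι c = φ (D.ιC c) := rfl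

theorem CS.map_C (D : CS T G) {G' : Type*} [Group G'] (φ : D.C →* G') (hφ : Function.Injective φ) :
    (D.map φ hφ).C = φ.range := by
  apply le_antisymm
  · refine (closure_le _).2 ?_
    rintro _ ((⟨c, rfl⟩ | ⟨p, rfl⟩) | rfl) <;> exact ⟨_, rfl⟩
  · rintro _ ⟨⟨x, hx⟩, rfl⟩
    induction hx using closure_induction with
    | mem x hx =>
      rcases hx with (⟨c, rfl⟩ | ⟨p, rfl⟩) | rfl
      · exact (D.map φ hφ).ι_mem c
      · exact (D.map φ hφ).h0_mem p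
      · exact (D.map φ hφ).n8_mem
    | one => exact (congrArg (· ∈ _) (map_one φ)).mpr (one_mem _)
    | mul x y hx hy ihx ihy =>
      exact (congrArg (· ∈ _) (map_mul φ ⟨x, hx⟩ ⟨y, hy⟩)).mpr (mul_mem ihx ihy)
    | inv x hx ih => exact (congrArg (· ∈ _) (map_inv φ ⟨x, hx⟩)).mpr (inv_mem ih)

/-- The hypothesis of the theorem. -/
structure Hy (D : CS T G) : Prop where
  nrm : ∀ g, g * D.τ = D.τ * g → g ∈ normalizer (D.C : Set G)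
  odd : Odd D.C.index
  core : Cfsg.oddCore (centralizer ({D.τ} : Set G)) = ⊥

theorem Hy.of_eq {D D' : CS T G} (h : Hy D) (e : D'.C = D.C) (e' : D'.τ = D.τ) : Hy D' :=
  ⟨by rw [e, e']; exact h.nrm, by rw [e]; exact h.odd, by rw [e']; exact h.core⟩

/-- Case II: a conjugate of `τ` lies in `C` outside the centre. -/
def Mv (D : CS T G) : Prop := ∃ g, g * D.τ * g⁻¹ ∈ D.C ∧ g * D.τ * g⁻¹ ∉ D.im (sZ T)

/-- Basic facts on `C`. -/
structure BC (D : CS T G) : Prop where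
  bruhat : ∀ g, g ∈ D.C ↔ (∃ c p, g = D.ι c * D.h0 p) ∨
    ∃ c p u, u ∈ sU8 T ∧ g = D.ι c * D.h0 p * D.n8 * D.ι u
  sep : ∀ c p u c' p', D.ι c * D.h0 p * D.n8 * D.ι u ≠ D.ι c' * D.h0 p'
  B_inj : ∀ c p, D.ι c * D.h0 p = 1 → c = 1 ∧ p = 1
  gen : D.C = closure (Set.range D.ι ∪ {D.n8})
  card_C : Nat.card D.C = Nat.card K ^ 12 * (Nat.card K - 1) * (Nat.card K ^ 2 + 1)
  card_T0 : Nat.card (T0 T) = Nat.card K - 1
  T0_fst : ∀ a : Kˣ, ∃! p : T0 T, p.1.1 = a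
  T0_snd : ∀ b : Kˣ, ∃! p : T0 T, p.1.2 = b
  nor : ∀ X ∈ [sZ T, sV T, sR T, sQ T], D.C ≤ normalizer (D.im X : Set G)
  cenZ : ∀ g ∈ D.C, ∀ t, g * D.ι (x4 T t) = D.ι (x4 T t) * g
  cenQ : ∀ g ∈ D.C, (∀ c ∈ sQ T, g * D.ι c = D.ι c * g) → g ∈ D.im (sZ T)
  nsub : ∀ N : Subgroup G, N ≤ D.C → D.C ≤ normalizer (N : Set G) → ¬ N ≤ D.im (sZ T) →
    D.im (sV T) ≤ N
  syl : ∀ P : Subgroup G, P ≤ D.C → IsPGroup 2 P → ∃ g ∈ D.C, ∀ x ∈ P, g * x * g⁻¹ ∈ D.S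
  aut : ∀ θ : MulAut D.C, ∀ X ∈ [sZ T, sV T, sR T, sQ T], ∀ c ∈ X, ∃ c' ∈ X, θ (D.ιC c) = D.ιC c'

/-- Basic consequences of the hypothesis. -/
structure BH (D : CS T G) : Prop where
  syl : ∀ P : Subgroup G, IsPGroup 2 P → ∃ g, ∀ x ∈ P, g * x * g⁻¹ ∈ D.S
  two : ∀ g ∈ normalizer (D.C : Set G), (∃ k : ℕ, g ^ 2 ^ k = 1) → g ∈ D.C
  sq : ∀ g ∈ normalizer (D.C : Set G), g * g ∈ D.C → g ∈ D.C
  nz : ∀ g, g * D.τ * g⁻¹ ∈ D.im (sZ T) → g ∈ normalizer (D.C : Set G)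
  nZ : normalizer (D.im (sZ T) : Set G) = normalizer (D.C : Set G)
  nC : ∀ X ∈ [sV T, sR T, sQ T], normalizer (D.C : Set G) ≤ normalizer (D.im X : Set G)
  nS : ∀ X ∈ [sZ T, sW T, sA T, sV0 T, sQ1 T], normalizer (D.S : Set G) ≤ normalizer (D.im X : Set G)
  nQ1 : ∀ X ∈ [sW T, sA T, sA7 T],
    normalizer (D.im (sQ1 T) : Set G) ≤ normalizer (D.im X : Set G)
  frat : ∀ g ∈ normalizer (D.C : Set G), ∃ c ∈ D.C, c * g ∈ normalizer (D.S : Set G)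
  nZW : ∀ g ∈ normalizer (D.im (sZ T) : Set G), g ∈ normalizer (D.im (sW T) : Set G) →
    g ∈ normalizer (D.S : Set G)
  cenQ : ∀ g, (∀ c ∈ sQ T, g * D.ι c = D.ι c * g) → g ∈ D.im (sZ T)

/-- The involutions of `C`. -/
structure TY (D : CS T G) : Prop where
  cls : ∀ x ∈ D.C, x * x = 1 → ∃ g ∈ D.C, (∃ a, g * x * g⁻¹ = D.ι (x4 T a)) ∨
    g * x * g⁻¹ = D.ι (x6 T 1) ∨ g * x * g⁻¹ = D.ι (x5 T 1) ∨ g * x * g⁻¹ = D.ι (x7 T 1) ∨
    ∃ v, g * x * g⁻¹ = D.ι (x4 T v * x8 T 1)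
  clsV : ∀ c ∈ sV T, c ∉ sZ T → ∃ g ∈ D.C, g * D.ι c * g⁻¹ = D.ι (x6 T 1) ∨
    g * D.ι c * g⁻¹ = D.ι (x5 T 1)
  clsW : ∀ c ∈ sW T, c ∉ sZ T → ∃ s p, D.ι s * D.h0 p * D.ι c * (D.ι s * D.h0 p)⁻¹ = D.ι (x6 T 1)
  clsA : ∀ c ∈ sA T, c ∉ sW T → ∃ s p, D.ι s * D.h0 p * D.ι c * (D.ι s * D.h0 p)⁻¹ = D.ι (x5 T 1)
  cls26 : ∀ v : K, v ≠ 0 → ∃ g ∈ D.C, g * D.ι (x2 T 1 * x6 T v) * g⁻¹ = D.ι (x5 T 1)
  c6 : ∀ g ∈ D.C, (g * D.ι (x6 T 1) = D.ι (x6 T 1) * g ↔ g ∈ D.im (sQ1 T))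
  c5 : ∀ g ∈ D.C, (g * D.ι (x5 T 1) = D.ι (x5 T 1) * g ↔ g ∈ D.im (sT5 T))
  c7 : ∀ g ∈ D.C, (g * D.ι (x7 T 1) = D.ι (x7 T 1) * g ↔ g ∈ D.im (sT7 T))
  c8 : ∀ v, ∀ g ∈ D.C, (g * D.ι (x4 T v * x8 T 1) = D.ι (x4 T v * x8 T 1) * g ↔ g ∈ D.im (sT8 T))
  nW : ∀ g ∈ D.C, ∀ c ∈ sW T, c ∉ sZ T → g * D.ι c * g⁻¹ ∈ D.im (sW T) → ∃ s p, g = D.ι s * D.h0 p

/-- Fusion. -/
structure FU (D : CS T G) : Prop where
  n5 : ¬ IsConj D.τ (D.ι (x5 T 1))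
  n7 : ¬ IsConj D.τ (D.ι (x7 T 1))
  mv : Mv D → ∃ g ∈ normalizer (D.im (sQ1 T) : Set G), g * D.τ * g⁻¹ = D.ι (x6 T 1)

/-- Graded rigidity. -/
def Rig (D : CS T G) : Prop := ∀ θ : MulAut D.C, (∀ c, ∃ c', θ (D.ιC c) = D.ιC c') →
  (∀ t, θ (D.ιC (x4 T t)) = D.ιC (x4 T t)) → (∀ t, ∃ r, θ (D.ιC (x6 T t)) = D.ιC (ww T t r)) →
  ∃ k : ℕ, θ ^ 2 ^ k = 1

/-- `C_G(W) = Q₁`. -/
def CW (D : CS T G) : Prop := ∀ g, (∀ c ∈ sW T, g * D.ι c = D.ι c * g) → g ∈ D.im (sQ1 T)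

/-- The conjugates of `Z` in `W` are the lines of a plane on which `SL₂(q)` acts. -/
structure Sp (D : CS T G) (f : K →+ K) : Prop where
  swap : ∃ g ∈ normalizer (D.im (sW T) : Set G),
    (∀ t, g * D.ι (x4 T t) * g⁻¹ = D.ι (ww T t (f t))) ∧
    ∀ t, g * D.ι (ww T t (f t)) * g⁻¹ = D.ι (x4 T t)
  tor : ∀ a : Kˣ, ∃ g, (∀ t, g * D.ι (x4 T t) * g⁻¹ = D.ι (x4 T (a * t))) ∧
    ∀ t, g * D.ι (ww T (a * t) (f (a * t))) * g⁻¹ = D.ι (ww T t (f t))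
  all : ∀ g, (∀ t, g * D.ι (x4 T t) * g⁻¹ ∈ D.im (sW T)) → g ∈ normalizer (D.im (sZ T) : Set G) ∨
    ∃ c, ∀ t, ∃ s, g * D.ι (x4 T t) * g⁻¹ = D.ι (ww T s (f s + c * s))

/-- A torus in standard position. -/
structure Tor (D : CS T G) (h : Kˣ × Kˣ →* G) : Prop where
  h_h0 : ∀ p : T0 T, h p = D.h0 p
  h_conj : ∀ (p : Kˣ × Kˣ) (c : Co T), h p * D.ι c * (h p)⁻¹ = D.ι (dg T p.1 p.2 c)
  n8_h : ∀ p, D.n8 * h p * D.n8 = h (w8 T p)

variable (T G) in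
/-- The amalgam of the two parabolic subgroups. -/
structure AD extends CS T G where
  h : Kˣ × Kˣ →* G
  n1 : G
  tor : Tor toCS h
  n1_sq : n1 * n1 = 1
  n1_conj : ∀ c ∈ sQ1 T, n1 * ι c * n1 = ι c.nu1
  n1_h : ∀ p, n1 * h p * n1 = h (w1 p)
  rank1 : (n1 * ι (x1 T 1)) ^ 3 = 1

/-- the group generated by the amalgam -/
def AD.G0 (A : AD T G) : Subgroup G := closure (Set.range A.ι ∪ Set.range A.h ∪ {A.n1, A.n8})
/-- the braid relation -/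
def AD.Braid (A : AD T G) : Prop := (A.n1 * A.n8) ^ 8 = 1
/-- `ν Z ν = V₁₂` -/
def AD.ν (A : AD T G) : G := A.n1 * A.n8 * A.n1 * A.n8 * A.n1 * A.n8 * A.n1

/-- All the facts on a pair `C ≤ G` with the hypothesis. -/
structure Loc (D : CS T G) : Prop where
  hy : Hy D
  bc : BC D
  bh : BH D
  ty : TY D
  fu : FU D
  rig : Rig D
  cw : CW D

/-- `C_G(x₅(1)) ≤ N_G(W)`. -/
def CE (D : CS T G) : Prop :=
  ∀ g, g * D.ι (x5 T 1) = D.ι (x5 T 1) * g → g ∈ normalizer (D.im (sW T) : Set G)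

/-- The number of points, connectedness. -/
structure Cov (D : CS T G) : Prop where
  index : (normalizer (D.im (sZ T) : Set G)).index ≤
    (Nat.card K + 1) * (Nat.card K ^ 3 + Nat.card K + 1) ^ 3
  top : normalizer (D.im (sZ T) : Set G) ⊔ normalizer (D.im (sW T) : Set G) = ⊤

/-- The three wrong braid relations over the field with two elements. -/
def NoAlt (A : AD T G) : Prop := ∀ x ∈ [x6 T 1, x7 T 1, x6 T 1 * x7 T 1],
  A.ι x * A.n8 * (A.ι x)⁻¹ * (A.ν * A.τ * A.ν) ≠ A.ν * A.τ * A.ν * (A.ι x * A.n8 * (A.ι x)⁻¹)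

end Defs

def JobBC : Prop := ∀ (K : Type v) [Field K] [Finite K] [CharP K 2] (T : TF K) (G : Type u) [Group G]
  (D : CS T G), BC D

def JobBH : Prop := ∀ (K : Type v) [Field K] [Finite K] [CharP K 2] (T : TF K) (G : Type u) [Group G]
  [Finite G] (D : CS T G), BC D → TY D → Hy D → BH D

def JobTY : Prop := ∀ (K : Type v) [Field K] [Finite K] [CharP K 2] (T : TF K) (G : Type u) [Group G]
  (D : CS T G), BC D → TY D

def JobFU : Prop := ∀ (K : Type v) [Field K] [Finite K] [CharP K 2] (T : TF K) (G : Type u) [Group G]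
  [Finite G] (D : CS T G), BC D → TY D → Hy D → BH D → FU D

def JobRig : Prop := ∀ (K : Type v) [Field K] [Finite K] [CharP K 2] (T : TF K) (G : Type u) [Group G]
  [Finite G] (D : CS T G), BC D → TY D → Rig D ∧ (Hy D → BH D → CW D)

def JobSp : Prop := ∀ (K : Type v) [Field K] [Finite K] [CharP K 2] (T : TF K) (G : Type u) [Group G]
  [Finite G] (D : CS T G), Loc D → Mv D → ∃ f, Sp D f

/-- Two coordinate systems are isomorphic. -/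
def JobEq : Prop := ∀ (K : Type v) [Field K] [Finite K] [CharP K 2] (T : TF K) (G : Type u) [Group G]
  (G' : Type w) [Group G'] (D : CS T G) (D' : CS T G'), BC D → BC D' →
  (∀ u u' u'' p, u ∈ sU8 T → u' ∈ sU8 T → u'' ∈ sU8 T →
    D.n8 * D.ι u * D.n8 = D.ι u' * D.h0 p * D.n8 * D.ι u'' →
    D'.n8 * D'.ι u * D'.n8 = D'.ι u' * D'.h0 p * D'.n8 * D'.ι u'') ∧
  ∃ e : D.C ≃* D'.C, (∀ c, e (D.ιC c) = D'.ιC c) ∧
    (∀ p, e ⟨D.h0 p, D.h0_mem p⟩ = ⟨D'.h0 p, D'.h0_mem p⟩) ∧ e ⟨D.n8, D.n8_mem⟩ = ⟨D'.n8, D'.n8_mem⟩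

def JobTorA : Prop := JobBC.{u, v} → JobEq.{u, v, u} →
  ∀ (K : Type v) [Field K] [Finite K] [CharP K 2] (T : TF K) (G : Type u) [Group G]
  [Finite G] (D : CS T G) (f : K →+ K), Loc D → Sp D f →
  ∃ (D' : CS T G) (h : Kˣ × Kˣ →* G), D'.C = D.C ∧ D'.τ = D.τ ∧ Tor D' h

def JobTorB : Prop := ∀ (K : Type v) [Field K] [Finite K] [CharP K 2] (T : TF K) (G : Type u) [Group G]
  [Finite G] (D : CS T G) (f : K →+ K) (h : Kˣ × Kˣ →* G), (∃ a : K, a ≠ 0 ∧ a ≠ 1) → Loc D → Sp D f →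
  Tor D h → ∃ A : AD T G, A.toCS = D

def JobAM2 : Prop := JobBC.{u, v} → JobEq.{u, v, u} →
  ∀ (K : Type v) [Field K] [Finite K] [CharP K 2] (T : TF K) (G : Type u) [Group G]
  [Finite G] (D : CS T G) (f : K →+ K), (∀ a : K, a = 0 ∨ a = 1) → Loc D → Sp D f →
  ∃ A : AD T G, A.C = D.C ∧ A.τ = D.τ

/-- Case I: the conjugates of `τ` in `C` are central. -/
def JobI : Prop := ∀ (G : Type u) [Group G] [Finite G] (C : Subgroup G) (τ v y : G), τ ≠ 1 → τ * τ = 1 →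
  (∀ c ∈ C, c * τ = τ * c) → (∀ g, g * τ = τ * g → g ∈ normalizer (C : Set G)) → Odd C.index →
  Cfsg.oddCore (centralizer ({τ} : Set G)) = ⊥ → C = closure {c | c ∈ C ∧ ∃ k : ℕ, c ^ 2 ^ k = 1} →
  (∀ z ∈ C, (∀ c ∈ C, c * z = z * c) → z * z = 1) → y ∈ C → y * y = τ → v ∈ C → v * v = 1 →
  (∃ c ∈ C, c * v ≠ v * c) →
  (∀ N : Subgroup G, N ≤ C → C ≤ normalizer (N : Set G) → (∃ n ∈ N, ∃ c ∈ C, c * n ≠ n * c) →
    v ∈ N ∧ τ ∈ ⁅N, C⁆) →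
  (∀ g, g * τ * g⁻¹ ∈ C → ∀ c ∈ C, c * (g * τ * g⁻¹) = g * τ * g⁻¹ * c) →
  Cfsg.oddCore G ⊔ normalizer (C : Set G) = ⊤

def JobE : Prop := ∀ (K : Type v) [Field K] [Finite K] [CharP K 2] (T : TF K) (G : Type u) [Group G]
  [Finite G] (A : AD T G), Loc A.toCS → CE A.toCS

def JobCov : Prop := ∀ (K : Type v) [Field K] [Finite K] [CharP K 2] (T : TF K) (G : Type u) [Group G]
  [Finite G] (A : AD T G), Loc A.toCS → CE A.toCS → Cov A.toCS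

def JobTC2 : Prop := ∀ (K : Type v) [Field K] [Finite K] [CharP K 2] (T : TF K) (G : Type u) [Group G]
  (A : AD T G), (∀ a : K, a = 0 ∨ a = 1) → BC A.toCS → NoAlt A

def JobBr : Prop := ∀ (K : Type v) [Field K] [Finite K] [CharP K 2] (T : TF K) (G : Type u) [Group G]
  [Finite G] (A : AD T G), Loc A.toCS → Cov A.toCS → ((∀ a : K, a = 0 ∨ a = 1) → NoAlt A) → A.Braid

/-- Bruhat decomposition of `G₀`: the centralizer of `τ`, and the isomorphism type. -/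
def JobId : Prop := JobEq.{u, v, w} →
  ∀ (K : Type v) [Field K] [Finite K] [CharP K 2] (T : TF K) (G : Type u) [Group G]
  (A : AD T G), BC A.toCS → A.Braid → (∀ g ∈ A.G0, g * A.τ = A.τ * g → g ∈ A.C) ∧
    ∀ (G' : Type w) [Group G'] (A' : AD T G'), BC A'.toCS → A'.Braid → Nonempty (A.G0 ≃* A'.G0)

def JobModel : Prop := ∀ (K : Type v) [Field K] [Fintype K] [CharP K 2] (m : ℕ),
  Fintype.card K = 2 ^ (2 * m + 1) →
  ∃ (T : TF K) (A : AD T (Cfsg.Lie.twistedF4 K (2 ^ m))), A.Braid ∧ A.G0 = ⊤ ∧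
    ∀ P : Subgroup (Cfsg.Lie.twistedF4 K (2 ^ m)), IsPGroup 2 P → ∃ g, ∀ x ∈ P, g * x * g⁻¹ ∈ A.S

end H63.Oc
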