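import Cfsg.Agent.H67.SASpec
import Cfsg.Agent.H64.SGSpec
import Cfsg.Agent.H32.HSU

/-! A8S (row S3152): the standard form problem for `L₄(2) = A₈`, spec.  The tower STD-A
(`H67.SA`) for `n = 3`, `|F| = 2`.  Proof notes: `blueprints/A8STD.md`. -/

set_option autoImplicit false

namespace H63.A8

open H64.SG (O2 Syl Cz Cs Ns cjs Is2 Inv2 UF IsO2 fx Cfg)
open H67.SA Matrix H57

universe u

/-- `X = SL₄(2)`. -/
structure Par8 (n : ℕ) (F : Type) : Prop where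
  three : n = 3
  two : Nat.card F = 2

theorem Par8.two_le {n : ℕ} {F : Type} (h : Par8 n F) : 2 ≤ n := by have := h.three; omega

theorem Par8.par {n : ℕ} {F K : Type} (h : Par8 n F) (hK : Nat.card K = Nat.card F ^ 2) : Par n K :=
  ⟨h.two_le, fun _ => by rw [hK, h.two]; norm_num⟩

theorem Par8.fld {n : ℕ} {F : Type} [Field F] (h : Par8 n F) (c : F) : c = 0 ∨ c = 1 := by
  by_contra hc
  push Not at hc
  have : Finite F := Nat.finite_of_card_ne_zero (by rw [h.two]; norm_num)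
  have h1 := Nat.card_le_card_of_injective (![0, 1, c] : Fin 3 → F) (by
    intro a b
    fin_cases a <;> fin_cases b <;> simp [hc.1, hc.2, hc.1.symm, hc.2.symm])
  rw [h.two] at h1
  simp at h1

section Facts

variable (n : ℕ) (F : Type) [Field F] [Finite F]

/-- The third plane of `Q`. -/
def E3 : Subgroup (SLn n F) :=
  Subgroup.closure {x 0 (la n) 1, x 0 1 1 * x 2 (la n) 1, x 0 2 1 * x 1 (la n) 1}

/-- `FB` without `a45`, with `b32`. -/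
structure FB8 : Prop where
  ic : ∀ g : SLn n F, Inv2 g → ∃ h k, 1 ≤ k ∧ 2 * k ≤ n + 1 ∧ h * g * h⁻¹ = xk F n k
  root : ∀ g : SLn n F, Root g ↔ (g.1 - 1).rank = 1
  roota : ∀ (g : SLn n F) (β : Au n F), Root g → Root (β g)
  qk : ∀ k, 1 ≤ k → 2 * k ≤ n + 1 → IsO2 (Qk n F k) (Cz (xk F n k))
  ct : ∀ (g : SLn n F) (Q : Subgroup (SLn n F)), Inv2 g → IsO2 Q (Cz g) →
    ∀ y ∈ Cs Q, Is2 y → y ∈ Q ∧ y * y = 1
  g4 : ∀ g w : SLn n F, Inv2 g → ¬ Root g → Inv2 w → w ∈ Cs (Cz g) → IsConj g w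
  big : ∀ g : SLn n F, g * g = 1 → ∃ P ≤ Cz g, IsPGroup 2 P ∧ Nat.card F ^ bg n ≤ Nat.card P
  lin : ∀ (g : SLn n F) (β : Au n F) (c : F), g * g = 1 →
    β (sc c g) = sc ((out n F β).1 c) (β g)

/-- `FC` without `li` and `pf0`. -/
structure FC8 : Prop where
  qz : ∀ v ∈ QQ n F, v ∉ ZZ n F → ∀ z ∈ ZZ n F, ∃ u ∈ QQ n F, z = cm v u
  tv : ∀ E ≤ QQ n F, (∀ u ∈ E, u = 1 ∨ Root u) → Nat.card F ^ n ≤ Nat.card E →
    E = Er n F ∨ E = Ec n F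
  trr : ∀ v ∈ Er n F, ∀ w ∈ Er n F, v ≠ 1 → w ≠ 1 → ∃ p ∈ Pr n F, p * v * p⁻¹ = w
  trc : ∀ v ∈ Ec n F, ∀ w ∈ Ec n F, v ≠ 1 → w ≠ 1 → ∃ p ∈ Pc n F, p * v * p⁻¹ = w
  cpr : ∀ c : F, c ≠ 0 → Pr n F ⊓ Cz (x 0 (la n) c) ≤ P00 n F
  pfr : Pr n F ≤ ⁅Pr n F, Pr n F⁆
  pfc : Pc n F ≤ ⁅Pc n F, Pc n F⁆
  top : Pr n F ⊔ Pc n F = ⊤
  qc : ∀ A ≤ UU n F, UU n F ≤ Ns A → A ≤ Cs A → ∀ a ∈ A, ∀ y ∈ UU n F,
    (∀ u ∈ UU n F, cm y u ∈ ZZ n F) → a * y ≠ y * a → A ≤ QQ n F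
  z2 : ∀ y ∈ UU n F, (∀ u ∈ UU n F, cm y u ∈ ZZ n F) ↔
    ∀ i j : Fin (n + 1), i < j → j.val + 1 < i.val + n → y.1 i j = 0
  nzn : ∀ β ∈ St (UU n F), β ∉ cI (ZZ n F) → ∀ N : Subgroup (SLn n F), UU n F ≤ Ns N →
    (∀ u ∈ UU n F, β u * u⁻¹ ∈ N) → ZZ n F ≤ N
  si1 : ∀ β ∈ St (UU n F), β ∈ cI (ZZ n F) ∨ Nat.card F ≤ (fx β).relIndex (UU n F)

/-- The planes of `Q / Z`. -/
structure FP : Prop where
  e3q : E3 n F ≤ QQ n F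
  e3s : ∀ u ∈ E3 n F, u * u = 1
  e3k : Nat.card (E3 n F) = 8
  e3r : E3 n F ⊓ Er n F ≤ ZZ n F
  e3c : E3 n F ⊓ Ec n F ≤ ZZ n F
  e3z : ZZ n F ≤ E3 n F
  e3n : UU n F ≤ Ns (E3 n F)
  e3t : ∀ u ∈ E3 n F, Root u → u ∈ ZZ n F
  li3 : ∀ E ≤ QQ n F, (∀ u ∈ E, u * u = 1) → 8 ≤ Nat.card E → O2 (Cs (ZZ n F)) ≤ Ns E →
    E = Er n F ∨ E = Ec n F ∨ E = E3 n F
  e3u : ∀ E ≤ QQ n F, (∀ u ∈ E, u * u = 1) → 8 ≤ Nat.card E → E ⊓ Er n F ≤ ZZ n F →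
    E ⊓ Ec n F ≤ ZZ n F → E = E3 n F
  pl : ∀ E ≤ QQ n F, ∀ E' ≤ QQ n F, (∀ u ∈ E, u * u = 1) → (∀ u ∈ E', u * u = 1) →
    8 ≤ Nat.card E → 8 ≤ Nat.card E' → UU n F ≤ Ns E → UU n F ≤ Ns E' → E ⊓ E' ≤ ZZ n F →
    E = Er n F ∨ E = Ec n F ∨ E' = Er n F ∨ E' = Ec n F

/-- `C(Z)` and `Q`. -/
structure FQ : Prop where
  cen : Subgroup.center (SLn n F) = ⊥
  cz0 : Cs (ZZ n F) = P00 n F
  oq : QQ n F ≤ O2 (Cs (ZZ n F))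
  qq : ∀ P ≤ Cs (ZZ n F), IsPGroup 2 P → 32 ≤ Nat.card P →
    (∀ a ∈ P, ∀ b ∈ P, cm a b ∈ ZZ n F) → P = QQ n F

/-- Involutions, and `Aut(Er)`. -/
structure FY : Prop where
  xs : ∀ (y : SLn n F) (P : Subgroup (SLn n F)), Inv2 y → P ≤ Cz y → IsPGroup 2 P →
    32 ≤ Nat.card P → (∀ w ∈ P, w ∈ Cs P → w = 1 ∨ w = y) → Root y
  b32 : ∀ g : SLn n F, g * g = 1 → ∃ P ≤ Cz g, IsPGroup 2 P ∧ 32 ≤ Nat.card P
  gl3 : ∀ θ : MulAut (Er n F), ∃ p ∈ Pr n F, ∀ u : Er n F, (θ u : SLn n F) = p * u * p⁻¹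

/-- `FG` with a number `ρ` for the prime `r`, and `bk`. -/
structure FG8 (K : Type) [Field K] [Finite K] : Prop where
  ft : ∀ (σ : RingAut K) (y : SLn n K), σ ≠ 1 → σ * σ = 1 →
    y * slField _ K σ y ∈ Subgroup.center (SLn n K) →
    ∃ h : SLn n K, MulAut.conj y * slField _ K σ =
      MulAut.conj h * slField _ K σ * (MulAut.conj h)⁻¹
  u2 : ∀ β : Au n K, β * β = 1 → (out n K β).2 ≠ 1 →
    (∃ P ≤ fx β, IsPGroup 2 P ∧ 256 ≤ Nat.card P) ∨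
    ∃ N ≤ fx β, N ≤ ⁅N, N⁆ ∧ ∃ r : ℕ, r ∣ (Subgroup.center (SLn n K)).relIndex N ∧
      ¬ r ∣ Nat.card (SLn n F)
  bk : ∀ g : SLn n K, g * g = 1 → ∃ P ≤ Cz g, IsPGroup 2 P ∧ 512 ≤ Nat.card P

end Facts

/-- A statement on `SL₄(2)`. -/
def All8 (P : ∀ (_ : ℕ) (F : Type) [Field F] [Finite F], Prop) : Prop :=
  ∀ (n : ℕ) (F : Type) [Field F] [Finite F] [CharP F 2], Par8 n F → P n F

def J8FA : Prop := All8 fun n F _ _ => FA n F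
def J8FB : Prop := All8 fun n F _ _ => FB8 n F
def J8FC : Prop := All8 fun n F _ _ => FC8 n F
def J8FD : Prop := All8 fun n F _ _ => FD n F
def J8FE : Prop := All8 fun n F _ _ => FE n F
def J8FH : Prop := All8 fun n F _ _ => FH n F
def J8FP : Prop := All8 fun n F _ _ => FP n F
def J8FQ : Prop := All8 fun n F _ _ => FQ n F
def J8FY : Prop := All8 fun n F _ _ => FY n F
def J8FG : Prop := All8 fun n F _ _ => ∀ (K : Type) [Field K] [Finite K] [CharP K 2],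
  Nat.card K = Nat.card F ^ 2 → FG8 n F K

section Amb

variable {n : ℕ} {F : Type} [Field F] {G : Type u} [Group G]

/-- `e ∘ β` -/
abbrev tw (e : SLn n F →* G) (β : Au n F) : SLn n F →* G := e.comp β.toMonoidHom

/-- `N(Er ⟨t⟩)` moves `t`. -/
def MvR (e : SLn n F →* G) (t : G) : Prop :=
  ∃ y ∈ Ns ((Er n F).map e ⊔ Subgroup.zpowers t), y * t * y⁻¹ ≠ t

/-- All translations of `t Er` are induced by `C(Er)`. -/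
def TR (e : SLn n F →* G) (t : G) : Prop :=
  ∀ v ∈ Er n F, ∃ w ∈ Cs ((Er n F).map e), w * t * w⁻¹ = t * e v

/-- The group `W`, `2⁶` or `4³`. -/
structure WD (e : SLn n F →* G) (t : G) (W : Subgroup G) : Prop where
  le : (Er n F).map e ≤ W
  ab : W ≤ Cs W
  pr : (Pr n F).map e ≤ Ns W
  onto : ∀ v ∈ Er n F, ∃ w ∈ W, w * t * w⁻¹ = t * e v
  into : ∀ w ∈ W, ∃ v ∈ Er n F, w * t * w⁻¹ = t * e v
  fix : ∀ w ∈ W, w ∈ Cz t → w ∈ (Er n F).map e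
  sq : (∀ w ∈ W, w * w = 1) ∨ ∀ w ∈ W, w * t * w⁻¹ = t * (w * w)

/-- A normalised basis of `W`. -/
structure WN (e : SLn n F →* G) (t : G) (W : Subgroup G) (w : Fin (n + 1) → G) : Prop where
  mem : ∀ l, l ≠ 0 → w l ∈ W
  del : ∀ l, l ≠ 0 → w l * t * (w l)⁻¹ = t * e (x 0 l 1)
  cen : ∀ j l, j ≠ 0 → l ≠ 0 → e (x j l 1) * w l = w l * e (x j l 1)
  chi : ((∀ v ∈ W, v * v = 1) ∧ ∀ j l k, j ≠ 0 → l ≠ 0 → k ≠ 0 → j ≠ l → k ≠ j → k ≠ l →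
      e (x j l 1) * w k = w k * e (x j l 1)) ∨
    (∀ v ∈ W, v * t * v⁻¹ = t * (v * v)) ∧ ∀ j l k, j ≠ 0 → l ≠ 0 → k ≠ 0 → j ≠ l → k ≠ j → k ≠ l →
      e (x j l 1) * w k * (e (x j l 1))⁻¹ = (w k)⁻¹

/-- `⟨w₁, w₂, w₃⟩` -/
abbrev WW (w₁ w₂ w₃ : G) : Subgroup G := Subgroup.closure {w₁, w₂, w₃}

/-- The Higman-Sims configuration: `W = 4³`. -/
structure HC (e : SLn n F →* G) (t w₁ w₂ w₃ : G) : Prop where
  c12 : w₁ * w₂ = w₂ * w₁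
  c13 : w₁ * w₃ = w₃ * w₁
  c23 : w₂ * w₃ = w₃ * w₂
  s1 : w₁ * w₁ = e (x 0 1 1)
  s2 : w₂ * w₂ = e (x 0 2 1)
  s3 : w₃ * w₃ = e (x 0 (la n) 1)
  t1 : t * w₁ * t⁻¹ = w₁⁻¹
  t2 : t * w₂ * t⁻¹ = w₂⁻¹
  t3 : t * w₃ * t⁻¹ = w₃⁻¹
  a1 : e (x 1 2 1) * w₁ * (e (x 1 2 1))⁻¹ = w₁⁻¹ * w₂ * w₃ * w₃
  a2 : e (x 1 2 1) * w₂ * (e (x 1 2 1))⁻¹ = w₂
  a3 : e (x 1 2 1) * w₃ * (e (x 1 2 1))⁻¹ = w₃⁻¹
  b1 : e (x 2 (la n) 1) * w₁ * (e (x 2 (la n) 1))⁻¹ = w₁⁻¹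
  b2 : e (x 2 (la n) 1) * w₂ * (e (x 2 (la n) 1))⁻¹ = w₂⁻¹ * w₃ * w₁ * w₁
  b3 : e (x 2 (la n) 1) * w₃ * (e (x 2 (la n) 1))⁻¹ = w₃
  pr : (Pr n F).map e ≤ Ns (WW w₁ w₂ w₃)
  co : ∀ o ∈ Cz t, o ∈ Cs e.range → Odd (orderOf o) → o ∈ Cs (WW w₁ w₂ w₃)

/-- The Higman-Sims alternative. -/
def HX (e : SLn n F →* G) (t : G) : Prop := ∃ (β : Au n F) (w₁ w₂ w₃ : G), HC (tw e β) t w₁ w₂ w₃

/-- The action of `t` on the model: inversion on `A`, trivial on the complement. -/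
def tau (s : H32.HS.U) : H32.HS.U := H32.HS.el (H32.HS.invN (s.n % 64) + 64 * (s.n / 64))

/-- The model of `S₀ = W U`. -/
structure HM (e : SLn n F →* G) (t : G) (W : Subgroup G) (φ : H32.HS.U →* G) : Prop where
  inj : Function.Injective φ
  rng : φ.range = W ⊔ (UU n F).map e
  mA : H32.HS.A.map φ = W
  mV : H32.HS.V.map φ = (Er n F).map e
  ea : φ (H32.HS.el 256) = e (x 1 2 1)
  eb : φ (H32.HS.el 64) = e (x 2 (la n) 1)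
  ec : φ (H32.HS.el 192) = e (x 1 (la n) 1)
  ta : ∀ s, t * φ s * t⁻¹ = φ (tau s)
  nt : t ∉ φ.range

/-- All translations of `t W` are induced by `C(W)`. -/
def TW (t : G) (W : Subgroup G) : Prop := ∀ w ∈ W, ∃ y ∈ Cs W, y * t * y⁻¹ = t * w

end Amb

/-- A statement for all `e`, `t`. -/
def AllG8 (P : ∀ (n : ℕ) (F : Type) [Field F] [Finite F] (G : Type u) [Group G],
    (SLn n F →* G) → G → Prop) : Prop :=
  ∀ (n : ℕ) (F : Type) [Field F] [Finite F] [CharP F 2], Par8 n F →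
    ∀ (G : Type u) [Group G] [Finite G] (e : SLn n F →* G) (t : G), P n F G e t

def J8AB : Prop := AllG8.{u} fun _ _ _ _ _ _ e t => (B0 e t → AB e t) ∧ (CE e t → AE e t)

def J8JA : Prop := AllG8.{u} fun n F _ _ G _ e t => B0 e t →
  Cfsg.IsTightlyEmbedded (Cs e.range) → Ns (Cs e.range) ≤ Ns (e.range : Subgroup G) →
  (∃ c : F, c ≠ 0 ∧ IsConj t (t * e (x 0 (la n) c))) → CA e t

def J8PL : Prop := AllG8.{u} fun n F _ _ _ _ e t => CH e t →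
  ∃ β : Au n F, CH (tw e β) t ∧ (CP (tw e β) t → CP e t) ∧ MvR (tw e β) t

def J8TR : Prop := AllG8.{u} fun _ _ _ _ _ _ e t => CH e t → MvR e t → TR e t

def J8WD : Prop := AllG8.{u} fun _ _ _ _ _ _ e t => CH e t → TR e t → ∃ W, WD e t W

def J8WN : Prop := AllG8.{u} fun _ _ _ _ _ _ e t => ∀ W, CH e t → WD e t W → ∃ w, WN e t W w

def J8WH : Prop := AllG8.{u} fun _ _ _ _ _ _ e t => ∀ W w, CH e t → WD e t W → WN e t W w →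
  CP e t ∨ ∃ w₁ w₂ w₃, HC e t w₁ w₂ w₃

def J8P2b : Prop := AllG8.{u} fun _ _ _ _ _ _ e t => CH e t → CP e t → ∃ A, PB e t A

def J8A5 : Prop := AllG8.{u} fun _ _ _ _ _ _ e t => ∀ A, CH e t → PB e t A → PC A

def J8A6 : Prop := AllG8.{u} fun _ _ _ _ _ _ e t => ∀ A, CH e t → PB e t A → PC A → BL e t

def J8CH : Prop := AllG8.{u} fun _ _ _ _ _ _ e t => CH e t → BL e t ∨ HX e t

def J8H : Prop := J8CH.{u} → AllG8.{u} fun _ _ _ _ _ _ e t => CA e t → BL e t ∨ HX e t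

def J8ST : Prop := AllG8.{u} fun n F _ _ G _ e t => B1 e t → BL e t →
  (∃ (K : Type) (_ : Field K) (_ : Finite K) (_ : CharP K 2) (ι : F →+* K) (σ : RingAut K)
    (Φ : SLn n K →* G), CF e t ι σ Φ) ∨ ∃ e₁ e₂, CW e t e₁ e₂

def J8CU : Prop := AllG8.{u} fun _ _ _ _ _ _ e t => ∀ G₁, B1 e t → EG0 e t G₁ → EG e t G₁

/-- A statement in the field case. -/
def AllF8 (P : ∀ (n : ℕ) (F : Type) [Field F] (G : Type u) [Group G] (K : Type) [Field K] [Finite K],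
    (SLn n F →* G) → G → RingAut K → (SLn n K →* G) → Prop) : Prop :=
  AllG8.{u} fun n F _ _ G _ e t => ∀ (K : Type) [Field K] [Finite K] [CharP K 2] (ι : F →+* K)
    (σ : RingAut K) (Φ : SLn n K →* G), CE e t → CF e t ι σ Φ → P n F G K e t σ Φ

def J8FU : Prop := AllF8.{u} fun _ _ _ _ _ _ _ _ e t _ Φ => GF e t Φ

def J8NF : Prop := AllF8.{u} fun n _ _ _ _ K _ _ e t _ Φ => GF e t Φ →
  Ns ((UU n K).map Φ) ≤ Ns Φ.range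

def J8EF : Prop := AllF8.{u} fun n _ _ _ _ K _ _ e t _ Φ => GF e t Φ →
  Ns ((UU n K).map Φ) ≤ Ns Φ.range → Gen t → Ns Φ.range = ⊤

/-- A statement in the wreath case. -/
def AllW8 (P : ∀ (n : ℕ) (F : Type) [Field F] (G : Type u) [Group G],
    (SLn n F →* G) → G → (SLn n F →* G) → (SLn n F →* G) → Prop) : Prop :=
  AllG8.{u} fun n F _ _ G _ e t => ∀ e₁ e₂ : SLn n F →* G, CE e t → CW e t e₁ e₂ → P n F G e t e₁ e₂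

def J8W0 : Prop := AllW8.{u} fun _ _ _ _ _ _ t e₁ e₂ => W0 t e₁ e₂

def J8WU : Prop := AllW8.{u} fun _ _ _ _ _ e t e₁ e₂ => W0 t e₁ e₂ → GW e t e₁ e₂

def J8NW : Prop := AllW8.{u} fun n F _ _ _ e t e₁ e₂ => GW e t e₁ e₂ →
  Ns (two e₁ e₂ (Er n F)) ⊓ Ns (two e₁ e₂ (Ec n F)) ≤ Ns (G12 e₁ e₂)

def J8NQ : Prop := AllW8.{u} fun n F _ _ _ e t e₁ e₂ => GW e t e₁ e₂ →
  Ns (two e₁ e₂ (Er n F)) ⊓ Ns (two e₁ e₂ (Ec n F)) ≤ Ns (G12 e₁ e₂) →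
  Ns (two e₁ e₂ (QQ n F)) ≤ Ns (G12 e₁ e₂)

def J8W1 : Prop := AllW8.{u} fun n F _ G _ e t e₁ e₂ => GW e t e₁ e₂ → ∀ W : Subgroup G,
  IsPGroup 2 W → W ≤ Ns (G12 e₁ e₂) → two e₁ e₂ (UU n F) ≤ W → Ns W ≤ Ns (two e₁ e₂ (QQ n F))

def J8WE : Prop := AllW8.{u} fun n F _ G _ e t e₁ e₂ => GW e t e₁ e₂ →
  (∀ W : Subgroup G, IsPGroup 2 W → W ≤ Ns (G12 e₁ e₂) → two e₁ e₂ (UU n F) ≤ W →
    Ns W ≤ Ns (G12 e₁ e₂)) → Ns (G12 e₁ e₂) = ⊤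

/-- A statement in the Higman-Sims case. -/
def AllH8 (P : ∀ (n : ℕ) (F : Type) [Field F] (G : Type u) [Group G],
    (SLn n F →* G) → G → Subgroup G → (H32.HS.U →* G) → Prop) : Prop :=
  AllG8.{u} fun n F _ _ G _ e t => ∀ (w₁ w₂ w₃ : G) (φ : H32.HS.U →* G), CE e t →
    HC e t w₁ w₂ w₃ → HM e t (WW w₁ w₂ w₃) φ → P n F G e t (WW w₁ w₂ w₃) φ

def J8HM : Prop := AllG8.{u} fun _ _ _ _ _ _ e t => ∀ w₁ w₂ w₃, B1 e t → HC e t w₁ w₂ w₃ →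
  ∃ φ, HM e t (WW w₁ w₂ w₃) φ

def J8HC : Prop := AllH8.{u} fun _ _ _ _ _ _ t W φ =>
  Ns (φ.range ⊔ Subgroup.zpowers t) ≤ Ns W ⊓ Ns (W ⊔ Subgroup.zpowers t)

def J8HT : Prop := AllH8.{u} fun n F _ _ _ e t W _ =>
  ∀ y ∈ Ns W ⊓ Ns (W ⊔ Subgroup.zpowers t), t⁻¹ * (y * t * y⁻¹) ∉ (Er n F).map e → TW t W

def J8HB : Prop := AllH8.{u} fun _ _ _ _ _ _ t W _ => ¬ TW t W

def J8HS : Prop := J8HC.{u} → J8HT.{u} → J8HB.{u} →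
  AllH8.{u} fun _ _ _ _ _ _ t _ φ => Syl (φ.range ⊔ Subgroup.zpowers t) ⊤

def J8HQ : Prop := AllH8.{u} fun _ _ _ G _ _ t _ φ =>
  (∀ r : G, r * r ≠ t) ∧ ∀ s, φ s * φ s = 1 → ∃ g r : G, g * φ s * g⁻¹ = r * r

def J8HF : Prop := J8HQ.{u} → AllH8.{u} fun _ _ _ G _ e t _ φ =>
  Syl (φ.range ⊔ Subgroup.zpowers t) ⊤ → ∀ F₀ : Subgroup G, Cfg F₀ e.range t →
    Cfsg.Spor.IsoHS F₀ ∧ t ∉ F₀

/-! ### Case A: `t z ∉ T` -/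

/-- `A₈` -/
abbrev A8 : Type := alternatingGroup (Fin 8)
/-- `S₈` -/
abbrev S8 : Type := Equiv.Perm (Fin 8)

/-- An involution that moves `k` points. -/
def Ty (k : ℕ) (σ : S8) : Prop := σ * σ = 1 ∧ σ.support.card = k

def J8Iso : Prop := All8 fun n F _ _ => ∃ φ : A8 ≃* SLn n F, ∀ a : A8, Ty 8 a → Root (φ a)

/-- Involutions of `S₈`. -/
structure KP : Prop where
  cls : ∀ σ : S8, σ * σ = 1 → σ = 1 ∨ Ty 2 σ ∨ Ty 4 σ ∨ Ty 6 σ ∨ Ty 8 σ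
  ev : ∀ σ : S8, Ty 4 σ ∨ Ty 8 σ → σ ∈ alternatingGroup (Fin 8)
  od : ∀ σ : S8, Ty 2 σ ∨ Ty 6 σ → σ ∉ alternatingGroup (Fin 8)
  cj : ∀ (k : ℕ) (σ σ' : S8), k ≠ 0 → Ty k σ → Ty k σ' → ∃ a : A8, (a : S8) * σ * (a : S8)⁻¹ = σ'
  /-- an element of order `3` does not commute with an even square root of a `2²` -/
  r42 : ∀ r ρ : S8, r ∈ alternatingGroup (Fin 8) → Ty 4 (r * r) → ρ ^ 3 = 1 → ρ * r = r * ρ → ρ = 1
  /-- `V = [V, ρ]` in the centraliser of a `2²` -/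
  v22 : ∀ ξ ρ v : S8, Ty 4 ξ → ρ ^ 3 = 1 → ρ * ξ = ξ * ρ → v * ξ = ξ * v → v * v = 1 →
    cm ρ v * cm ρ v = 1 → cm ρ v = 1 ∨ Ty 4 (cm ρ v)

section CaseA

variable {G : Type u} [Group G]

/-- `g` acts on the image of `f` as `σ`. -/
def Act (f : A8 →* G) (g : G) (σ : S8) : Prop :=
  ∀ a, g * f a * g⁻¹ = f (MulAut.conjNormal σ a)

/-- `f` followed by the conjugation by `g` -/
abbrev cjf (g : G) (f : A8 →* G) : A8 →* G := (MulAut.conj g).toMonoidHom.comp f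

/-- Case A. -/
structure PA (f : A8 →* G) (t : G) : Prop where
  inj : Function.Injective f
  inv : Inv2 t
  cen : t ∈ Cs f.range
  cz : Cz t ≤ Ns f.range
  cyc : ∀ R ≤ Cs f.range, IsPGroup 2 R → IsCyclic R
  nz : ∀ a : A8, Ty 8 a → ¬ IsConj t (f a)
  ntz : ∀ a : A8, Ty 8 a → ¬ IsConj t (t * f a)

/-- The kit. -/
structure KA (f : A8 →* G) (t : G) : Prop where
  pi : ∃ π : Cz t →* S8, (∀ g : Cz t, Act f g (π g)) ∧ (∀ g : Cz t, π g = 1 ↔ (g : G) ∈ Cs f.range) ∧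
    ∀ (g : Cz t) (σ : S8), Act f g σ → π g = σ
  self : ∀ a, Act f (f a) a
  cj : ∀ g, PA (cjf g f) (g * t * g⁻¹)
  dec : ∀ s ∈ Cz t, s * s = 1 → ∀ a : A8, Act f s a → s = f a ∨ s = t * f a
  nt : t ∉ f.range
  /-- a `2`-subgroup of `C(t)` that induces inner automorphisms is cyclic modulo `L` -/
  cyq : ∀ P ≤ Cz t, IsPGroup 2 P → (∀ g ∈ P, ∃ a : A8, Act f g a) →
    ∃ r ∈ Cz t, r ∈ Cs f.range ∧ Is2 r ∧ ∀ g ∈ P, ∃ (k : ℕ) (a : A8), g = r ^ k * f a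

/-- (a) -/
def NX (f : A8 →* G) (t : G) : Prop := ∀ a : A8, Ty 4 a → ¬ IsConj t (f a)
/-- (b) -/
def NT (f : A8 →* G) (t : G) : Prop := ∀ a : A8, Ty 4 a → ¬ IsConj t (t * f a)
/-- (c) -/
def TT (f : A8 →* G) (t : G) : Prop :=
  ∀ s ∈ Cz t, IsConj t s → s ≠ t → ∀ σ, Act f s σ → Ty 2 σ
/-- (d) -/
def DD (f : A8 →* G) (t : G) : Prop := ∀ s ∈ Cz t, IsConj t s → s ≠ t →
  ¬ IsConj t (t * s) ∧ ∀ R ≤ Cs f.range, IsPGroup 2 R → Nat.card R ≤ 2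

end CaseA

/-- A statement in case A. -/
def AllA (P : ∀ (G : Type u) [Group G], (A8 →* G) → G → Prop) : Prop :=
  ∀ (G : Type u) [Group G] [Finite G] (f : A8 →* G) (t : G), PA f t → P G f t

def JKA : Prop := AllA.{u} fun _ _ f t => KA f t
def JNX : Prop := AllA.{u} fun _ _ f t => NX f t
def JNT : Prop := AllA.{u} fun _ _ f t => NT f t
def JTT : Prop := AllA.{u} fun _ _ f t => TT f t
def JDD : Prop := AllA.{u} fun _ _ f t => DD f t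

def JSy : Prop := AllA.{u} fun G _ f t => ∀ F₀ : Subgroup G, Cfg F₀ f.range t →
  (∃ s ∈ Cz t, IsConj t s ∧ s ≠ t) → t ∉ F₀ ∧
    ∃ T : Sylow 2 F₀, ∀ P : Sylow 2 S8, Nonempty ((T : Subgroup F₀) ≃* (P : Subgroup S8))

def J11 : Prop := AllA.{u} fun G _ f t => ∀ F₀ : Subgroup G, Cfg F₀ f.range t → t ∉ F₀ →
  IsEmpty (F₀ ≃* alternatingGroup (Fin 11))

def JL4 : Prop := ∀ (F : Type) [Field F] [Fintype F], Odd (Fintype.card F) →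
  (∀ ψ : A8 →* ProjectiveSpecialLinearGroup (Fin 4) F, ¬ Function.Injective ψ) ∧
    ∀ q : ℕ, Fintype.card F = q ^ 2 → ∀ ψ : A8 →* Cfsg.PSU 4 F q, ¬ Function.Injective ψ

def J10 : Prop := JSy.{u} → J11.{u} → JL4 → AllA.{u} fun G _ f t => ∀ F₀ : Subgroup G,
  Cfg F₀ f.range t → (∃ s ∈ Cz t, IsConj t s ∧ s ≠ t) →
    Nonempty (F₀ ≃* alternatingGroup (Fin 10))

end H63.A8
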