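import Cfsg.Agent.Base
import Cfsg.Prelude.Def_Characters

/-! # Tower KGV: class numbers of coprime linear groups by Gauss sums. Proofs: `blueprints/KGV.md`. -/

set_option autoImplicit false

namespace H63.Kgv

open Polynomial Finset Cfsg ComplexConjugate

universe u

/-! ## Number theory -/

section NT

variable {F : Type} [Field F]

/-- sum of `l` over the monic polynomials of degree `n` -/
noncomputable def an (l : F[X] → ℂ) (n : ℕ) : ℂ := ∑ᶠ f ∈ {f : F[X] | f.Monic ∧ f.natDegree = n}, l f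

noncomputable def sm (l : F[X] → ℂ) (m : ℕ) : ℂ :=
  ∑ᶠ P ∈ {P : F[X] | P.Monic ∧ Irreducible P ∧ P.natDegree ∣ m}, (P.natDegree : ℂ) * l P ^ (m / P.natDegree)

def Mu (l : F[X] → ℂ) : Prop := l 1 = 1 ∧ ∀ f g : F[X], f.Monic → g.Monic → l (f * g) = l f * l g

/-- the `r`-th power sum of the roots of a monic polynomial -/
noncomputable def pw (r : ℕ) (f : F[X]) : F :=
  PowerSeries.coeff r (-(PowerSeries.X * ((derivative f.reverse : F[X]) : PowerSeries F)) *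
    ((f.reverse : F[X]) : PowerSeries F)⁻¹)

noncomputable def lam (ψ : AddChar F ℂ) (χ : MulChar F ℂ) (r : ℕ) (f : F[X]) : ℂ :=
  ψ (pw r f) * χ ((-1) ^ f.natDegree * f.coeff 0)

noncomputable def cp (F : Type) [Field F] {L : Type} [Field L] [Algebra F L] [Module.Finite F L]
    (a : L) : F[X] := (Algebra.lmul F L a).charpoly

end NT

def JNW1 : Prop := ∀ (F : Type) [Field F] [Fintype F] (l : F[X] → ℂ), Mu l → an l 0 = 1 ∧ ∀ n : ℕ,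
  (n : ℂ) * an l n = ∑ m ∈ range n, sm l (m + 1) * an l (n - (m + 1))

def JNW2 : Prop := ∀ (F L : Type) [Field F] [Fintype F] [Field L] [Fintype L] [Algebra F L]
  (l : F[X] → ℂ), Mu l → ∑ a : L, l (cp F a) = sm l (Module.finrank F L)

def JPW1 : Prop := ∀ (F : Type) [Field F],
  (∀ (r : ℕ) (f g : F[X]), f.Monic → g.Monic → pw r (f * g) = pw r f + pw r g) ∧
  (∀ (ψ : AddChar F ℂ) (χ : MulChar F ℂ) (r : ℕ), Mu (lam ψ χ r)) ∧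
  (∀ (r : ℕ) (f : F[X]) (c : F), 0 < r → f.Monic → f.natDegree = r → pw r (f + C c) = pw r f - r * c) ∧
  (∀ f : F[X], f.Monic → pw 1 f = -f.nextCoeff) ∧ ∀ (r : ℕ) (a : F), 0 < r → pw r (X - C a) = a ^ r

def JPW2 : Prop := JPW1 → ∀ (F L : Type) [Field F] [Fintype F] [Field L] [Fintype L] [Algebra F L]
  (ψ : AddChar F ℂ) (χ : MulChar F ℂ) (r : ℕ) (a : L), 0 < r →
  lam ψ χ r (cp F a) = ψ (Algebra.trace F L (a ^ r)) * χ (Algebra.norm F a)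

def JAN : Prop := JPW1 → ∀ (F : Type) [Field F] [Fintype F] (ψ : AddChar F ℂ) (χ : MulChar F ℂ),
  (ψ ≠ 1 → an (lam ψ χ 1) 1 = gaussSum χ ψ ∧ ∀ n, 2 ≤ n → an (lam ψ χ 1) n = 0)

def ARSt : Prop := ∀ (F : Type) [Field F] [Fintype F] (ψ : AddChar F ℂ) (r : ℕ), 0 < r →
  ∃ c : ℂ, ∀ χ : MulChar F ℂ,
    an (lam ψ χ r) r = c * χ (-1) ^ (r - 1) * gaussSum χ (ψ.mulShift (r : F))

def JAR : Prop := JPW1 → ARSt

/-- Hasse-Davenport lifting -/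
def HDSt : Prop := ∀ (F L : Type) [Field F] [Fintype F] [Field L] [Fintype L] [Algebra F L]
  (ψ : AddChar F ℂ) (χ : MulChar F ℂ), ψ ≠ 1 →
  -∑ a : L, χ (Algebra.norm F a) * ψ (Algebra.trace F L a) = (-gaussSum χ ψ) ^ Module.finrank F L

def JHD : Prop := JNW1 → JNW2 → JPW1 → JPW2 → JAN → HDSt

def PASt : Prop := ∀ (F : Type) [Field F] [Fintype F] (ψ : AddChar F ℂ) (χ ρ : MulChar F ℂ) (r : ℕ),
  ψ ≠ 1 → r.Prime → orderOf ρ = r → ∏ i ∈ range r, gaussSum (χ * ρ ^ i) ψ = an (lam ψ (χ ^ r) r) r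

def JPA : Prop := JNW1 → JNW2 → JPW1 → JPW2 → HDSt → PASt

def PBSt : Prop := ∀ (F L : Type) [Field F] [Fintype F] [Field L] [Fintype L] [Algebra F L]
  (ψ : AddChar F ℂ) (χ : MulChar F ℂ) (η : MulChar L ℂ) (r : ℕ) (ω : F), r.Prime →
  Module.finrank F L = r → ω ^ r = 1 → χ ω ≠ 1 → (∀ a : L, η a ^ r = χ (Algebra.norm F a)) →
  η ^ (Fintype.card F - 1) ≠ 1 →
  ∑ a : L, η a * ψ (Algebra.trace F L a) = an (lam ψ χ r) r

def JPB : Prop := JNW1 → JNW2 → JPW1 → JPW2 → PBSt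

/-- the standard additive character -/
noncomputable abbrev ee (p : ℕ) [Fact p.Prime] (c : ZMod p) : ℂ := ZMod.stdAddChar (N := p) c

section Tw

variable (p : ℕ) [Fact p.Prime] (M : ℕ) {K : Type} [Field K] [Fintype K] [Algebra (ZMod p) K]
  (g : Kˣ) (θ : Kˣ →* ℂˣ)

/-- the trace to the prime field of the `j`-th power of the generator of the subfield of degree `D` -/
noncomputable def tr (D j : ℕ) : ZMod p := Function.invFun (algebraMap (ZMod p) K)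
  (∑ i ∈ range D, ((g ^ ((p ^ M - 1) / (p ^ D - 1) * j) : Kˣ) : K) ^ p ^ i)

noncomputable def GG (t : ZMod p) (D : ℕ) (x : Kˣ) : ℂ :=
  -∑ j ∈ range (p ^ D - 1), ee p (t * tr p M g D j) * (θ x : ℂ) ^ j

/-- the degree of `x` over the prime field -/
noncomputable def dg (x : Kˣ) : ℕ := Function.minimalPeriod (fun y : Kˣ => y ^ p) x

noncomputable def HH (t : ZMod p) (x : Kˣ) : ℂ := GG p M g θ t (dg p x) x ^ ((dg p x : ℂ)⁻¹)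

structure Su : Prop where
  pos : 0 < M
  card : Fintype.card K = p ^ M
  gen : ∀ x : Kˣ, x ∈ Subgroup.zpowers g
  inj : Function.Injective θ

/-- The subfield of degree `D` with its characters. -/
structure Br (D : ℕ) (F : Type) [Field F] [Fintype F] (ψ : ZMod p → AddChar F ℂ)
    (χ : Kˣ → MulChar F ℂ) (γ : Fˣ) : Prop where
  card : Fintype.card F = p ^ D
  gen : ∀ a : Fˣ, a ∈ Subgroup.zpowers γ
  val : ∀ x : Kˣ, x ^ p ^ D = x → χ x (γ : F) = θ x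
  ne : ∀ t, t ≠ 0 → ψ t ≠ 1
  sh : ∀ (t : ZMod p) (r : ℕ), (ψ t).mulShift (r : F) = ψ (r * t)
  gs : ∀ (t : ZMod p) (x : Kˣ), x ^ p ^ D = x → GG p M g θ t D x = -gaussSum (χ x) (ψ t)

end Tw

/-- two nested subfields -/
def JBR : Prop := ∀ (p : ℕ) [Fact p.Prime] (M : ℕ) (K : Type) [Field K] [Fintype K] [Algebra (ZMod p) K]
  (g : Kˣ) (θ : Kˣ →* ℂˣ), Su p M g θ → ∀ D e : ℕ, D * e ∣ M →
  ∃ (F L : Type) (_ : Field F) (_ : Fintype F) (_ : Field L) (_ : Fintype L) (_ : Algebra F L)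
    (ψ : ZMod p → AddChar F ℂ) (χ : Kˣ → MulChar F ℂ) (γ : Fˣ)
    (ψ' : ZMod p → AddChar L ℂ) (χ' : Kˣ → MulChar L ℂ) (γ' : Lˣ),
    Br p M g θ D F ψ χ γ ∧ Br p M g θ (D * e) L ψ' χ' γ' ∧ Module.finrank F L = e ∧
    Algebra.norm F (γ' : L) = γ ∧ ∀ t a, ψ' t a = ψ t (Algebra.trace F L a)

/-- `H ^ D = G D` -/
def LfSt : Prop := ∀ (p : ℕ) [Fact p.Prime] (M : ℕ) (K : Type) [Field K] [Fintype K] [Algebra (ZMod p) K]
  (g : Kˣ) (θ : Kˣ →* ℂˣ), Su p M g θ → ∀ (t : ZMod p) (D : ℕ) (x : Kˣ), t ≠ 0 → D ∣ M →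
  x ^ p ^ D = x → HH p M g θ t x ^ D = GG p M g θ t D x

def JLF : Prop := JBR → HDSt → LfSt

/-- What the group theory uses. -/
structure HS (p : ℕ) [Fact p.Prime] (M : ℕ) {K : Type} [Field K] [Fintype K] (θ : Kˣ →* ℂˣ)
    (a : ℕ → ℕ → ZMod p) (H : ZMod p → Kˣ → ℂ) : Prop where
  pos : 0 < M
  card : Fintype.card K = p ^ M
  inj : Function.Injective θ
  one : ∀ t, t ≠ 0 → H t 1 = 1
  frob : ∀ t x, t ≠ 0 → H t (x ^ p) = H t x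
  abs : ∀ t x, t ≠ 0 → x ≠ 1 → H t x * conj (H t x) = p
  int : ∀ t x, t ≠ 0 → IsIntegral ℤ (H t x)
  div : ∀ t x, t ≠ 0 → x ≠ 1 → ∃ (k : ℕ) (v : ℂ), IsIntegral ℤ v ∧ H t x ^ k = p * v
  lin : ∀ t d x, t ≠ 0 → d ∣ M → x ^ p ^ d = x →
    H t x ^ d = -∑ j ∈ range (p ^ d - 1), ee p (t * a d j) * (θ x : ℂ) ^ j
  s1 : ∀ d j, d * 2 ∣ M → a (d * 2) (p ^ d * j % (p ^ (d * 2) - 1)) = a (d * 2) j
  s2 : ∀ d i, d * 2 ∣ M → a (d * 2) ((p ^ d + 1) * i) = 2 * a d i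
  prod : ∀ (r d : ℕ) (ω : Kˣ), r.Prime → d ∣ M → r ∣ p ^ d - 1 → orderOf ω = r →
    ∀ (t : ZMod p) (D : ℕ) (w : Kˣ), t ≠ 0 → d ∣ D → D ∣ M → (w ^ r) ^ p ^ D = w ^ r →
      ∏ i ∈ range r, H t (w * ω ^ i) ^ D = (∏ i ∈ range r, H t (ω ^ i) ^ D) * H (r * t) (w ^ r) ^ D
  cong : ∀ (r d : ℕ) (ω : Kˣ), r.Prime → d ∣ M → r ∣ p ^ d - 1 → orderOf ω = r →
    ∃ m : ZMod p → ℤ, ∀ t, t ≠ 0 →
      ∏ i ∈ range r, H t (ω ^ i) ^ d = 1 + r * ∑ c : ZMod p, (m c : ℂ) * ee p (t * c)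

/-- a statement about all setups -/
def Al (P : ∀ (p : ℕ) [Fact p.Prime] (M : ℕ) (K : Type) [Field K] [Fintype K] (θ : Kˣ →* ℂˣ)
    (a : ℕ → ℕ → ZMod p) (H : ZMod p → Kˣ → ℂ), Prop) : Prop :=
  ∀ (p : ℕ) [Fact p.Prime] (M : ℕ) (K : Type) [Field K] [Fintype K] [Algebra (ZMod p) K]
    (g : Kˣ) (θ : Kˣ →* ℂˣ), Su p M g θ → P p M K θ (tr p M g) (HH p M g θ)

def JH1 : Prop := JBR → LfSt → Al fun p _ _ _ _ _ _ _ H =>
  (∀ t, t ≠ 0 → H t 1 = 1) ∧ (∀ t x, t ≠ 0 → H t (x ^ p) = H t x) ∧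
  ∀ t x, t ≠ 0 → x ≠ 1 → H t x * conj (H t x) = p

def JH2 : Prop := LfSt → Al fun p _ _ _ _ _ _ _ H => (∀ t x, t ≠ 0 → IsIntegral ℤ (H t x)) ∧
  ∀ t x, t ≠ 0 → x ≠ 1 → ∃ (k : ℕ) (v : ℂ), IsIntegral ℤ v ∧ H t x ^ k = p * v

def JH3 : Prop := Al fun p _ M _ _ _ _ a _ =>
  (∀ d j, d * 2 ∣ M → a (d * 2) (p ^ d * j % (p ^ (d * 2) - 1)) = a (d * 2) j) ∧
  ∀ d i, d * 2 ∣ M → a (d * 2) ((p ^ d + 1) * i) = 2 * a d i

/-- product formula; `b = true`: `w` lies in the field of degree `D` -/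
def PrSt (b : Bool) : Prop := Al fun p _ M K _ _ _ _ H => ∀ (r : ℕ) (ω : Kˣ), r.Prime → orderOf ω = r →
  ∀ (t : ZMod p) (D : ℕ) (w : Kˣ), t ≠ 0 → D ∣ M → r ∣ p ^ D - 1 → (w ^ r) ^ p ^ D = w ^ r →
    (w ^ p ^ D = w ↔ b = true) →
    ∏ i ∈ range r, H t (w * ω ^ i) ^ D = (∏ i ∈ range r, H t (ω ^ i) ^ D) * H (r * t) (w ^ r) ^ D

def JH4 : Prop := JBR → LfSt → ARSt → PASt → PrSt true

def JH5 : Prop := JBR → LfSt → JH1 → ARSt → PASt → PBSt → PrSt false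

def JH6 : Prop := JBR → LfSt → Al fun p _ M K _ _ _ _ H => ∀ (r d : ℕ) (ω : Kˣ), r.Prime → d ∣ M →
  r ∣ p ^ d - 1 → orderOf ω = r → ∃ m : ZMod p → ℤ, ∀ t, t ≠ 0 →
    ∏ i ∈ range r, H t (ω ^ i) ^ d = 1 + r * ∑ c : ZMod p, (m c : ℂ) * ee p (t * c)

/-! ## Group theory -/

/-- `f t` is a combination of characters with coefficients in `ℤ[ζ_p]`, uniformly in `t`. -/
def Good (p : ℕ) [Fact p.Prime] (E : Type u) [Group E] (f : ZMod p → E → ℂ) : Prop :=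
  ∃ Θ : ZMod p → E → ℂ, (∀ c, IsGeneralizedCharacter E (Θ c)) ∧
    ∀ t, t ≠ 0 → ∀ y, f t y = ∑ c : ZMod p, ee p (t * c) * Θ c y

def GcSt : Prop := ∀ (p : ℕ) [Fact p.Prime] (E : Type u) [Group E] [Fintype E],
  (∀ f f', Good p E f → (∀ t, t ≠ 0 → ∀ y, f' t y = f t y) → Good p E f') ∧
  (∀ f f', Good p E f → Good p E f' → Good p E fun t y => f t y + f' t y) ∧
  (∀ f f', Good p E f → Good p E f' → Good p E fun t y => f t y * f' t y) ∧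
  (∀ (θ : E → ℂ) (c : ZMod p), IsGeneralizedCharacter E θ → Good p E fun t y => ee p (t * c) * θ y) ∧
  (∀ f, Good p E f → Good p E fun t y => conj (f t y)) ∧
  (∀ (z : ℤ), Good p E fun _ _ => (z : ℂ)) ∧
  (∀ (H : Subgroup E) (f : ZMod p → H → ℂ), Good p H f → Good p E fun t => indFun H (f t)) ∧
  (∀ (ι : Type) (s : Finset ι) (f : ι → ZMod p → E → ℂ), (∀ i ∈ s, Good p E (f i)) →
    (Good p E fun t y => ∑ i ∈ s, f i t y) ∧ Good p E fun t y => ∏ i ∈ s, f i t y)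

/-- division by `p` -/
def PdSt : Prop := ∀ (p : ℕ) [Fact p.Prime] (E : Type u) [Group E] [Fintype E] (f : ZMod p → E → ℂ),
  ¬ p ∣ Nat.card E → (∀ t, t ≠ 0 → ∀ y, IsIntegral ℤ (f t y)) → (Good p E fun t y => p * f t y) →
  Good p E f

/-- cancellation of a factor whose absolute values are powers of `p` -/
def JCN : Prop := GcSt.{u} → PdSt.{u} → ∀ (p : ℕ) [Fact p.Prime] (E : Type u) [Group E] [Fintype E]
  (f f₂ : ZMod p → E → ℂ), ¬ p ∣ Nat.card E → (∀ t, t ≠ 0 → ∀ y, IsIntegral ℤ (f t y)) →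
  Good p E f₂ → (∀ y, ∃ k : ℕ, ∀ t, t ≠ 0 → f₂ t y * conj (f₂ t y) = (p : ℂ) ^ k) →
  (Good p E fun t y => f t y * f₂ t y) → Good p E f

/-- tensor induction -/
def TiSt : Prop := ∀ (p : ℕ) [Fact p.Prime] (E : Type u) [Group E] [Fintype E] (H : Subgroup E)
  [H.Normal] (r : ℕ) (x : E) (A : ZMod p → H → ℂ) (Γ : ZMod p → E → ℂ), r.Prime → r ≠ p →
  H.index = r → x ∉ H → Good p H A →
  (∀ t (h : H), Γ t h = ∏ j ∈ range r, A t (MulAut.conjNormal (x ^ j) h)) →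
  (∀ t y (h : H), y ∉ H → (h : E) = y ^ r → Γ t y = A (r * t) h) → Good p E Γ

/-- tensor induction of a graded matrix representation -/
def TmSt : Prop := ∀ (p : ℕ) [Fact p.Prime] (E : Type u) [Group E] [Fintype E] (H : Subgroup E)
  [H.Normal] (r n : ℕ) (x : E) (ρ : H →* Matrix (Fin n) (Fin n) ℂ) (dg : Fin n → ZMod p)
  (Γ : ZMod p → E → ℂ), r.Prime → H.index = r → x ∉ H → (∀ h a b, dg a ≠ dg b → ρ h a b = 0) →
  (∀ t (h : H), Γ t h = ∏ j ∈ range r, ∑ a, ee p (t * dg a) * ρ (MulAut.conjNormal (x ^ j) h) a a) →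
  (∀ t y (h : H), y ∉ H → (h : E) = y ^ r → Γ t y = ∑ a, ee p (r * t * dg a) * ρ h a a) → Good p E Γ

def JTI : Prop := TmSt.{u} → TiSt.{u}

section Eg

variable {K : Type} [Field K] [Fintype K] (θ : Kˣ →* ℂˣ) {E : Type u} [Group E]

open Classical in
/-- `m` lists the eigenvalues of `y` -/
def Eg (χ : E → ℂ) (y : E) (m : Kˣ → ℕ) : Prop :=
  ∀ j : ℕ, χ (y ^ j) = ∑ x : Kˣ, (m x : ℂ) * (θ x : ℂ) ^ j

open Classical in
noncomputable def em (χ : E → ℂ) (y : E) : Kˣ → ℕ := if h : ∃ m, Eg θ χ y m then h.choose else 0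

open Classical in
noncomputable def gam {p : ℕ} (H : ZMod p → Kˣ → ℂ) (d : ℕ) (χ : E → ℂ) (t : ZMod p) (y : E) : ℂ :=
  ∏ x : Kˣ, H t x ^ (d * em θ χ y x)

end Eg

def EgSt : Prop := ∀ (K : Type) [Field K] [Fintype K] (θ : Kˣ →* ℂˣ) (E : Type u) [Group E] [Fintype E],
  Function.Injective θ → (∀ (χ : E → ℂ) y m, Eg θ χ y m → em θ χ y = m) ∧
  ∀ (χ : E → ℂ) (y : E), IsCharacter E χ → y ^ (Fintype.card K - 1) = 1 → Eg θ χ y (em θ χ y)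

/-- the data of an induced character -/
structure Id {E : Type u} [Group E] (H : Subgroup E) [H.Normal] (r : ℕ) (x : E) (χ : E → ℂ)
    (φ : H → ℂ) : Prop where
  pr : r.Prime
  idx : H.index = r
  out : x ∉ H
  ch : IsCharacter H φ
  off : ∀ y, y ∉ H → χ y = 0
  on : ∀ h : H, χ h = ∑ j ∈ range r, φ (MulAut.conjNormal (x ^ j) h)

/-- the structure of a non-linear irreducible character of a nilpotent group -/
def StSt : Prop := ∀ (E : Type u) [Group E] [Fintype E] (χ : E → ℂ) (q : ℕ), Group.IsNilpotent E →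
  IsIrrCharacter E χ → χ 1 ≠ 1 → q.Coprime (Nat.card E) → (∀ y, χ (y ^ q) = χ y) →
  ∃ (H : Subgroup E) (_ : H.Normal) (r : ℕ) (x : E) (φ : H → ℂ), Id H r x χ φ ∧
    ((r ∣ q - 1 ∧ ∀ h, φ (h ^ q) = φ h) ∨ (r = 2 ∧ (∀ a b, φ (a * b) = φ a * φ b) ∧ φ 1 = 1 ∧
      (∀ h, φ (h ^ q) = φ (MulAut.conjNormal x h)) ∧ ∃ h, φ (h ^ q) ≠ φ h))

/-- group structure: a normal `r × r` or a cyclic subgroup of index 2 -/
def SgSt : Prop := ∀ (E : Type u) [Group E] [Finite E], Group.IsNilpotent E → IsCyclic (Subgroup.center E) →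
  ¬ (∀ a b : E, a * b = b * a) →
  (∃ (r : ℕ) (z a : E), r.Prime ∧ orderOf z = r ∧ z ∈ Subgroup.center E ∧ a ^ r = 1 ∧
    a ∉ Subgroup.center E ∧ ∀ y : E, y * a * y⁻¹ * a⁻¹ ∈ Subgroup.zpowers z) ∨
  ∃ H : Subgroup E, IsCyclic H ∧ H.index = 2

/-- the faithful case -/
def SfSt : Prop := ∀ (E : Type u) [Group E] [Fintype E] (χ : E → ℂ) (q : ℕ), Group.IsNilpotent E →
  IsIrrCharacter E χ → χ 1 ≠ 1 → q.Coprime (Nat.card E) → (∀ y, χ (y ^ q) = χ y) →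
  (∀ y, χ y = χ 1 → y = 1) →
  ∃ (H : Subgroup E) (_ : H.Normal) (r : ℕ) (x : E) (φ : H → ℂ), Id H r x χ φ ∧
    ((r ∣ q - 1 ∧ ∀ h, φ (h ^ q) = φ h) ∨ (r = 2 ∧ (∀ a b, φ (a * b) = φ a * φ b) ∧ φ 1 = 1 ∧
      (∀ h, φ (h ^ q) = φ (MulAut.conjNormal x h)) ∧ ∃ h, φ (h ^ q) ≠ φ h))

def JSQ : Prop := SfSt.{u} → StSt.{u}

def SaSt : Prop := ∀ (E : Type u) [Group E] [Fintype E] (χ : E → ℂ) (q r : ℕ) (z a : E),
  IsIrrCharacter E χ → q.Coprime (Nat.card E) → (∀ y, χ (y ^ q) = χ y) → (∀ y, χ y = χ 1 → y = 1) →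
  r.Prime → orderOf z = r → z ∈ Subgroup.center E → a ^ r = 1 → a ∉ Subgroup.center E →
  (∀ y : E, y * a * y⁻¹ * a⁻¹ ∈ Subgroup.zpowers z) →
  ∃ (H : Subgroup E) (_ : H.Normal) (x : E) (φ : H → ℂ), Id H r x χ φ ∧ r ∣ q - 1 ∧ ∀ h, φ (h ^ q) = φ h

def SbSt : Prop := ∀ (E : Type u) [Group E] [Fintype E] (χ : E → ℂ) (q : ℕ) (H : Subgroup E) [H.Normal],
  IsIrrCharacter E χ → χ 1 ≠ 1 → q.Coprime (Nat.card E) → (∀ y, χ (y ^ q) = χ y) → IsCyclic H →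
  H.index = 2 → ∃ (x : E) (φ : H → ℂ), Id H 2 x χ φ ∧
    ((2 ∣ q - 1 ∧ ∀ h, φ (h ^ q) = φ h) ∨ ((∀ a b, φ (a * b) = φ a * φ b) ∧ φ 1 = 1 ∧
      (∀ h, φ (h ^ q) = φ (MulAut.conjNormal x h)) ∧ ∃ h, φ (h ^ q) ≠ φ h))

def JSF : Prop := SgSt.{u} → SaSt.{u} → SbSt.{u} → SfSt.{u}

/-- a statement about all groups of exponent dividing `p ^ M - 1` -/
def Ag (P : ∀ (p : ℕ) [Fact p.Prime] (M : ℕ) (K : Type) [Field K] [Fintype K] (θ : Kˣ →* ℂˣ)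
    (H : ZMod p → Kˣ → ℂ) (E : Type u) [Group E] [Fintype E], Prop) : Prop :=
  ∀ (p : ℕ) [Fact p.Prime] (M : ℕ) (K : Type) [Field K] [Fintype K] (θ : Kˣ →* ℂˣ)
    (a : ℕ → ℕ → ZMod p) (H : ZMod p → Kˣ → ℂ), HS p M θ a H →
    ∀ (E : Type u) [Group E] [Fintype E], Nat.card E ∣ p ^ M - 1 → P p M K θ H E

/-- values of `gam` of an induced character; `c` is the constant of the product formula -/
def VlSt : Prop := Ag.{u} fun p _ M K _ _ θ Hf E _ _ => ∀ (H : Subgroup E) [H.Normal] (r d : ℕ) (x : E)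
  (χ : E → ℂ) (φ : H → ℂ) (ω : Kˣ), Id H r x χ φ → d ∣ M → r ∣ p ^ d - 1 → orderOf ω = r →
  (∀ y, χ (y ^ p ^ d) = χ y) → ∃ n : ℕ, φ 1 = n ∧ ∀ t, t ≠ 0 →
    (∀ h : H, gam θ Hf d χ t h = ∏ j ∈ range r, gam θ Hf d φ t (MulAut.conjNormal (x ^ j) h)) ∧
    ∀ y (h : H), y ∉ H → (h : E) = y ^ r →
      gam θ Hf d χ t y = (∏ i ∈ range r, Hf t (ω ^ i) ^ d) ^ n * gam θ Hf d φ (r * t) h

def JVL : Prop := EgSt.{u} → VlSt.{u}

/-- gluing: a factor `≡ 1 mod r` off `H` -/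
def GlSt : Prop := ∀ (p : ℕ) [Fact p.Prime] (E : Type u) [Group E] [Fintype E] (H : Subgroup E)
  [H.Normal] (r n : ℕ) (m : ZMod p → ℤ) (Γ f : ZMod p → E → ℂ), H.index = r → Good p E Γ →
  (∀ t, t ≠ 0 → (∀ y ∈ H, f t y = Γ t y) ∧ ∀ y, y ∉ H →
    f t y = (1 + r * ∑ c : ZMod p, (m c : ℂ) * ee p (t * c)) ^ n * Γ t y) → Good p E f

def JGL : Prop := GcSt.{u} → GlSt.{u}

def I1St : Prop := Ag.{u} fun p _ M _ _ _ θ Hf E _ _ => ∀ (H : Subgroup E) [H.Normal] (r d : ℕ) (x : E)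
  (χ : E → ℂ) (φ : H → ℂ), Id H r x χ φ → d ∣ M → r ∣ p ^ d - 1 → (∀ y, χ (y ^ p ^ d) = χ y) →
  Good p H (gam θ Hf d φ) → Good p E (gam θ Hf d χ)

def JI1 : Prop := TiSt.{u} → VlSt.{u} → GlSt.{u} → I1St.{u}

def I2St : Prop := Ag.{u} fun p _ M _ _ _ θ Hf E _ _ => ∀ (H : Subgroup E) [H.Normal] (d : ℕ) (x : E)
  (χ : E → ℂ) (φ : H → ℂ), Id H 2 x χ φ → d ∣ M → (∀ y, χ (y ^ p ^ d) = χ y) →
  (∀ a b, φ (a * b) = φ a * φ b) → φ 1 = 1 → (∀ h, φ (h ^ p ^ d) = φ (MulAut.conjNormal x h)) →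
  (∃ h, φ (h ^ p ^ d) ≠ φ h) → Good p E (gam θ Hf d χ)

/-- the semilinear sum -/
def SmSt : Prop := ∀ (p : ℕ) [Fact p.Prime] (E : Type u) [Group E] [Fintype E] (H : Subgroup E)
  [H.Normal] (q : ℕ) (x : E) (φ : H → ℂ) (a b : ℕ → ZMod p) (Γ : ZMod p → E → ℂ), 2 ≤ q → H.index = 2 →
  x ∉ H → (∀ u v, φ (u * v) = φ u * φ v) → φ 1 = 1 → (∀ h, φ h ^ q = φ (MulAut.conjNormal x h)) →
  (∀ j, a (q * j % (q ^ 2 - 1)) = a j) → (∀ i, a ((q + 1) * i) = 2 * b i) →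
  (∀ t (h : H), Γ t h = -∑ j ∈ range (q ^ 2 - 1), ee p (t * a j) * φ h ^ j) →
  (∀ t y (h : H), y ∉ H → (h : E) = y ^ 2 → Γ t y = -∑ i ∈ range (q - 1), ee p (2 * t * b i) * φ h ^ i) →
  Good p E Γ

def JSM : Prop := GcSt.{u} → SmSt.{u}

def JI2 : Prop := EgSt.{u} → SmSt.{u} → VlSt.{u} → GlSt.{u} → I2St.{u}

def I0St : Prop := Ag.{u} fun p _ M _ _ _ θ Hf E _ _ => ∀ (d : ℕ) (χ : E → ℂ), d ∣ M →
  IsIrrCharacter E χ → χ 1 = 1 → (∀ y, χ (y ^ p ^ d) = χ y) → Good p E (gam θ Hf d χ)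

def JI0 : Prop := GcSt.{u} → EgSt.{u} → I0St.{u}

/-- splitting off a Galois orbit -/
def OrSt : Prop := Ag.{u} fun p _ M _ _ _ θ Hf E _ _ => ∀ (d : ℕ) (χ : E → ℂ), d ∣ M → IsCharacter E χ →
  (∀ y, χ (y ^ p ^ d) = χ y) → χ ≠ 0 → ∃ (e k k' : ℕ) (χ₀ χ' : E → ℂ), d * e ∣ M ∧ IsIrrCharacter E χ₀ ∧
    (∀ y, χ₀ (y ^ p ^ (d * e)) = χ₀ y) ∧ IsCharacter E χ' ∧ (∀ y, χ' (y ^ p ^ d) = χ' y) ∧
    χ 1 = k ∧ χ' 1 = k' ∧ k' < k ∧
    ∀ t, t ≠ 0 → ∀ y, gam θ Hf d χ t y = gam θ Hf (d * e) χ₀ t y * gam θ Hf d χ' t y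

def JOR : Prop := EgSt.{u} → OrSt.{u}

def NlSt : Prop := Ag.{u} fun p _ M _ _ _ θ Hf E _ _ => Group.IsNilpotent E → ∀ (d : ℕ) (χ : E → ℂ),
  d ∣ M → IsCharacter E χ → (∀ y, χ (y ^ p ^ d) = χ y) → Good p E (gam θ Hf d χ)

def JNL : Prop := GcSt.{u} → EgSt.{u} → StSt.{u} → I0St.{u} → I1St.{u} → I2St.{u} → OrSt.{u} → NlSt.{u}

/-- virtual characters of nilpotent groups -/
def VrSt : Prop := Ag.{u} fun p _ _ _ _ _ θ Hf E _ _ => Group.IsNilpotent E → ∀ β : E → ℂ,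
  IsGeneralizedCharacter E β → (∀ y, β (y ^ p) = β y) → (∀ y, ∃ m, Eg θ β y m) → Good p E (gam θ Hf 1 β)

def JVR : Prop := GcSt.{u} → PdSt.{u} → JCN.{u} → EgSt.{u} → NlSt.{u} → VrSt.{u}

def BiSt : Prop := Ag.{u} fun p _ _ _ _ _ θ Hf E _ _ => ∀ β : E → ℂ,
  IsGeneralizedCharacter E β → (∀ y, β (y ^ p) = β y) → (∀ y, ∃ m, Eg θ β y m) → Good p E (gam θ Hf 1 β)

def JBI : Prop := GcSt.{u} → EgSt.{u} → VrSt.{u} → BiSt.{u}

/-- The square root of the fixed point ratio. -/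
def Main : Prop := ∀ (p : ℕ) [Fact p.Prime] (G : Type u) [Group G] [Fintype G] (n : ℕ)
  (ρ : G →* Module.End (ZMod p) (Fin n → ZMod p)), ¬ p ∣ Nat.card G →
  ∃ f : ZMod p → G → ℂ, Good p G f ∧ ∀ t, t ≠ 0 → f t 1 = 1 ∧ ∀ y,
    f t y * conj (f t y) * Nat.card {v : Fin n → ZMod p // ρ y v = v} = (p : ℂ) ^ n ∧
    (ρ y ≠ 1 → ∃ (k : ℕ) (v : ℂ), IsIntegral ℤ v ∧ f t y ^ k = p * v)

def HsSt : Prop := Al fun p _ M _ _ _ θ a H => HS p M θ a H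

/-- the Brauer lift with its eigenvalue lists -/
def BlSt : Prop := ∀ (p : ℕ) [Fact p.Prime] (G : Type u) [Group G] [Fintype G] (n M : ℕ)
  (ρ : G →* Module.End (ZMod p) (Fin n → ZMod p)) (K : Type) [Field K] [Fintype K] [Algebra (ZMod p) K]
  (θ : Kˣ →* ℂˣ), Fintype.card K = p ^ M → Nat.card G ∣ p ^ M - 1 →
  ∃ (β : G → ℂ) (m : G → Kˣ → ℕ), IsGeneralizedCharacter G β ∧ (∀ y, β (y ^ p) = β y) ∧
    (∀ y, Eg θ β y (m y)) ∧ ∀ y, (∑ᶠ x, m y x) = n ∧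
      Nat.card {v : Fin n → ZMod p // ρ y v = v} = p ^ m y 1

def JMN : Prop := HsSt → EgSt.{u} → BlSt.{u} → BiSt.{u} → Main.{u}

/-- the k(GV) bound -/
def KgvSt : Prop := ∀ (X : Type u) [Group X] [Finite X] (p : ℕ) [Fact p.Prime] (V : Subgroup X) [V.Normal],
  (∀ v ∈ V, v ^ p = 1) → ¬ p ∣ V.index → Subgroup.centralizer (V : Set X) = V →
  Nat.card (ConjClasses X) ≤ Nat.card V

/-- the arithmetic of one multiplicity -/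
def ArSt : Prop := ∀ (p : ℕ) [Fact p.Prime] (m : ZMod p → ℤ) (a : ZMod p → ℂ),
  (∀ t, t ≠ 0 → a t = ∑ c : ZMod p, ee p (t * c) * (m c : ℂ)) → a 1 ≠ 0 →
  ((p : ℝ) - 1) ≤ ∑ t ∈ univ.erase (0 : ZMod p), Complex.normSq (a t)

/-- non-vanishing -/
def NvSt : Prop := ∀ (p : ℕ) [Fact p.Prime] (G : Type u) [Group G] [Fintype G] (f χ : G → ℂ) (k : ℕ),
  IsCharacter G χ → χ 1 = k → ¬ p ∣ k → f 1 = 1 → (∀ y, IsIntegral ℤ (f y)) →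
  (∀ y, y ≠ 1 → ∃ (j : ℕ) (v : ℂ), IsIntegral ℤ v ∧ f y ^ j = p * v) → classInner f χ ≠ 0

theorem hsSt (br : JBR) (lf : LfSt) (h1 : JH1) (h2 : JH2) (h3 : JH3) (h4 : PrSt true) (h5 : PrSt false)
    (h6 : JH6) : HsSt := by
  intro p _ M K _ _ _ g θ s
  obtain ⟨a1, a2, a3⟩ := h1 br lf p M K g θ s
  obtain ⟨b1, b2⟩ := h2 lf p M K g θ s
  obtain ⟨c1, c2⟩ := h3 p M K g θ s
  refine ⟨s.pos, s.card, s.inj, a1, a2, a3, b1, b2, fun t d x ht hd hx => lf p M K g θ s t d x ht hd hx,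
    c1, c2, fun r d ω hr _ hd hω t D w ht h7 h8 h9 => ?_, h6 br lf p M K g θ s⟩
  have hD : r ∣ p ^ D - 1 := hd.trans (Nat.pow_sub_one_dvd_pow_sub_one p h7)
  by_cases e : w ^ p ^ D = w
  · exact h4 p M K g θ s r ω hr hω t D w ht h8 hD h9 (by simp [e])
  · exact h5 p M K g θ s r ω hr hω t D w ht h8 hD h9 (by simp [e])

end H63.Kgv
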