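import Cfsg.Statements.S3152
import Cfsg.Agent.H64.SGUF

/-! A8S (row S3152): the reduction jobs, spec.  Proof notes: `blueprints/A8STD.md`. -/

set_option autoImplicit false

namespace H63.A8

open H64.SG (Cz Cs Ns Inv2)
open Cfsg

universe u

/-- The four groups of `hstar`. -/
def Star (Y : Type u) [Group Y] : Prop :=
  (∃ (F : Type) (_ : Field F) (_ : Fintype F), Fintype.card F = 2 ∧
    (Nonempty (Y ≃* Cfsg.PSp 3 F) ∨ Nonempty (Y ≃* Cfsg.POmega F (Cfsg.quadFormPlus 4 F)) ∨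
      ∃ a b : F, (∀ z₁ z₂ : F, z₁ ^ 2 + a * z₁ * z₂ + b * z₂ ^ 2 = 0 → z₁ = 0 ∧ z₂ = 0) ∧
        Nonempty (Y ≃* Cfsg.POmega F (Cfsg.quadFormMinus 3 F a b))) ∨
    ∃ (F : Type) (_ : Field F) (_ : Fintype F), Fintype.card F = 4 ∧ Nonempty (Y ≃* Cfsg.PSU 6 F 2))

/-- Lie type, characteristic `2`, rank at least `3` (the hypothesis `hAX`). -/
def Rk3 (Y : Type u) [Group Y] : Prop :=
  (∃ (F : Type) (_ : Field F) (_ : Fintype F) (_ : CharP F 2) (n : ℕ), 4 ≤ n ∧ Nonempty (Y ≃* Matrix.ProjectiveSpecialLinearGroup (Fin n) F)) ∨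
  (∃ (F : Type) (_ : Field F) (_ : Fintype F) (_ : CharP F 2) (k : ℕ), 3 ≤ k ∧ Nonempty (Y ≃* Cfsg.PSp k F)) ∨
  (∃ (F : Type) (_ : Field F) (_ : Fintype F) (_ : CharP F 2) (n q : ℕ), 6 ≤ n ∧ Fintype.card F = q ^ 2 ∧ Nonempty (Y ≃* Cfsg.PSU n F q)) ∨
  (∃ (F : Type) (_ : Field F) (_ : Fintype F) (_ : CharP F 2) (k : ℕ), 4 ≤ k ∧
    (Nonempty (Y ≃* Cfsg.POmega F (Cfsg.quadFormPlus k F)) ∨
      ∃ a b : F, (∀ z₁ z₂ : F, z₁ ^ 2 + a * z₁ * z₂ + b * z₂ ^ 2 = 0 → z₁ = 0 ∧ z₂ = 0) ∧ Nonempty (Y ≃* Cfsg.POmega F (Cfsg.quadFormMinus (k - 1) F a b)))) ∨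
  (∃ (F : Type) (_ : Field F) (_ : Fintype F) (_ : CharP F 2),
    Nonempty (Y ≃* ↥(Cfsg.Lie.chevF4.group F)) ∨ Nonempty (Y ≃* ↥(Cfsg.Lie.chevE6.group F)) ∨
      Nonempty (Y ≃* ↥(Cfsg.Lie.chevE7.group F)) ∨ Nonempty (Y ≃* ↥(Cfsg.Lie.chevE8.group F))) ∨
  (∃ (K : Type) (_ : Field K) (_ : Fintype K) (_ : CharP K 2) (q : ℕ), Fintype.card K = q ^ 2 ∧ Nonempty (Y ≃* ↥(Cfsg.Lie.twistedE6 K q)))

/-- `L₄(2)` -/
def IsL42 (Y : Type u) [Group Y] : Prop := ∃ (F : Type) (_ : Field F) (_ : Fintype F),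
  Fintype.card F = 2 ∧ Nonempty (Y ≃* Matrix.ProjectiveSpecialLinearGroup (Fin 4) F)

/-- The statement of row S3129 (for `F : Type`). -/
def Row3129 : Prop := ∀ {G : Type u} [Group G] [Finite G]
    (_ : IsSimpleGroup ↥(Cfsg.generalizedFittingSubgroup G)) (_ : ¬ IsMulCommutative ↥(Cfsg.generalizedFittingSubgroup G))
    (_ : Cfsg.HasStrongBProperty G) (L : Subgroup G) (_ : Cfsg.IsStandardSubgroup L)
    (_ : ∀ R : Sylow 2 ↥(Subgroup.centralizer (L : Set G)), IsCyclic ↥(R : Subgroup ↥(Subgroup.centralizer (L : Set G))))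
    (k n : ℕ) (_ : 3 ≤ k) (_ : 1 ≤ n) (_ : ¬ (k = 3 ∧ n = 1))
    {F : Type} [Field F] [Fintype F] (_ : Fintype.card F = 2 ^ n)
    (_ : Nonempty ((↥L ⧸ Cfsg.oddCore ↥L) ≃* Cfsg.PSp k F)),
    Nonempty (↥(Cfsg.generalizedFittingSubgroup G) ≃* Matrix.ProjectiveSpecialLinearGroup (Fin (2 * k)) F) ∨
      Nonempty (↥(Cfsg.generalizedFittingSubgroup G) ≃* Matrix.ProjectiveSpecialLinearGroup (Fin (2 * k + 1)) F) ∨
      (∃ (K : Type) (_ : Field K) (_ : Fintype K), Fintype.card K = (2 ^ n) ^ 2 ∧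
        (Nonempty (↥(Cfsg.generalizedFittingSubgroup G) ≃* Cfsg.PSU (2 * k) K (2 ^ n)) ∨ Nonempty (↥(Cfsg.generalizedFittingSubgroup G) ≃* Cfsg.PSU (2 * k + 1) K (2 ^ n)) ∨
          Nonempty (↥(Cfsg.generalizedFittingSubgroup G) ≃* Cfsg.PSp k K))) ∨
      Nonempty (↥(Cfsg.generalizedFittingSubgroup G) ≃* Cfsg.POmega F (Cfsg.quadFormPlus (k + 1) F)) ∨
      (∃ a b : F, (∀ z₁ z₂ : F, z₁ ^ 2 + a * z₁ * z₂ + b * z₂ ^ 2 = 0 → z₁ = 0 ∧ z₂ = 0) ∧ Nonempty (↥(Cfsg.generalizedFittingSubgroup G) ≃* Cfsg.POmega F (Cfsg.quadFormMinus k F a b)))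

/-- The almost simple situation. -/
structure AS2 {G : Type u} [Group G] (F₀ A : Subgroup G) (t : G) : Prop where
  normal : F₀.Normal
  simple : IsSimpleGroup F₀
  cent : Cs F₀ = ⊥
  le : A ≤ F₀
  qs : IsQuasisimple A
  inv : Inv2 t
  tA : t ∈ Cs A
  ct : Cz t ≤ Ns A

def JRows : Prop := Row3129.{u} → ∀ (G : Type u) [Group G] [Finite G],
  IsSimpleGroup ↥(generalizedFittingSubgroup G) → ¬ IsMulCommutative ↥(generalizedFittingSubgroup G) →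
  HasStrongBProperty G → ∀ A : Subgroup G, IsStandardSubgroup A →
  Odd (Nat.card ↥(Subgroup.center ↥A)) →
  (∀ R : Sylow 2 ↥(Subgroup.centralizer (A : Set G)),
    IsCyclic ↥(R : Subgroup ↥(Subgroup.centralizer (A : Set G)))) →
  Rk3 (↥A ⧸ Subgroup.center ↥A) → IsLieTypeChar 2 ↥(generalizedFittingSubgroup G) ∨
    Star (↥A ⧸ Subgroup.center ↥A) ∨ IsL42 (↥A ⧸ Subgroup.center ↥A)

def JNI : Prop := ∀ (G : Type u) [Group G] [Finite G] (F₀ A : Subgroup G) (t : G), AS2 F₀ A t →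
  IsLieTypeChar 2 F₀ → t ∉ F₀

def JTi : Prop := (∀ (Y : Type u) [Group Y], Star Y → 7 ∣ Nat.card Y) ∧
  ¬ 7 ∣ Nat.card Lie.TitsGroup

def JFi : Prop := ∀ (G : Type u) [Group G] [Finite G] (F₀ A : Subgroup G) (t : G), AS2 F₀ A t →
  ∀ (F : Type) [Field F] [Fintype F], Fintype.card F = 2 →
    Nonempty (↥A ≃* POmega F (quadFormPlus 4 F)) → Spor.IsoFi22 F₀ → t ∉ F₀

def JFiA : Prop := ∀ (G : Type u) [Group G] [Finite G] (F₀ : Subgroup G), F₀.Normal → Cs F₀ = ⊥ →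
  F₀ ≠ ⊤ → Spor.IsoFi22 F₀ → Nonempty (G ≃* MulAut Spor.Fi22)

def JHSA : Prop := ∀ (G : Type u) [Group G] [Finite G] (F₀ : Subgroup G), F₀.Normal → Cs F₀ = ⊥ →
  F₀ ≠ ⊤ → Spor.IsoHS F₀ → Nonempty (G ≃* MulAut ↥Spor.HS)

def JNrm : Prop := ∀ (G : Type u) [Group G] [Finite G], oddCore G = ⊥ → ∀ A : Subgroup G, A.Normal →
  (∀ R : Sylow 2 ↥(Subgroup.centralizer (A : Set G)),
    IsCyclic ↥(R : Subgroup ↥(Subgroup.centralizer (A : Set G)))) →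
  ∀ t ∈ Subgroup.centralizer (A : Set G), orderOf t = 2 → t ∈ Subgroup.center G

end H63.A8
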