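import Cfsg.Agent.H63.TGKit

/-! STD-G2: `JobA3` and `JobJB` (copies of `H64/SGA3`, `H64/SGJB` with the weaker `JBF.a4`). -/

set_option autoImplicit false
set_option linter.unusedSectionVars false

namespace H63.TG

open H63 H64 H98 Subgroup Cfsg
open H64.SG hiding ET P0 Q0 P2 Root Ty FA FR FB FC FD FE FU All JobTy JobFA JobFR JobFB JobFC JobFD JobFE JobFU JBF JobA3 JobJB Hcfg Tr Fam Fam2 BW Blt F2 T2 AllG JobJF JobKit JobA1 JobP2a JobP2b JobP3a JobP3b JobH JobA2 JobNU AllF JobF1 JobF2 JobF3 JobF4 JobW0 AllW JobW1 JobW2 JobW3 WL JobW4 JobW5 JobW6 cj_P0 cj_Q0 UU_le_P0 Q0_le_UU XR_le_Cs_P0 jobA1 jobKit jobA2 jobJF jobH jobA3 jobJB Slots a3i a3ii exists_syl_cj exists_comm step1 step3 step4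

universe u

variable {G : Type u} [Group G] [Finite G] {X : Type} [Group X] {Rt : X → Prop} {F₀ L : Subgroup G}
  {t : G}

theorem a3i (c : Cov X L) (J : JBF X Rt) (h : Cfg F₀ L t) {y : G} (hy : y ∈ O2 (Cz t)) (y2 : Is2 y) :
    y ∈ L := by
  have hL : L ≤ Cz t := fun l hl => mem_Cz.2 (h.tL l hl).symm
  have : (L.subgroupOf (Cz t)).Normal := normal_subgroupOf_of_le_normalizer h.ct
  let φ := QuotientGroup.mk' (L.subgroupOf (Cz t))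
  obtain ⟨S, hS⟩ := exists_isSyl 2 ((O2 (Cz t)).subgroupOf (Cz t))
  obtain ⟨T, hT⟩ := exists_isSyl 2 ((Cs L).subgroupOf (Cz t))
  have h1 : IsCyclic T := (equivMapOfInjective _ _ (Cz t).subtype_injective).isCyclic.2
    (h.cyc _ (map_le_iff_le_comap.2 hT.le) (hT.isPGroup.map _))
  have h2 : S.map φ ≤ ((Cs L).subgroupOf (Cz t)).map φ := by
    rintro _ ⟨s, hs, rfl⟩
    have s2 : Is2 (s : G) := (isPGroup_iff_is2.1 hS.isPGroup s hs).map (Cz t).subtype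
    obtain ⟨g, hg⟩ := J.a3 _ (c.ac_mem_O2 h.ct (hS.le hs)) (c.is2_ac (h.ct s.2) s2)
    obtain ⟨l, hl, k, hk, -, -, -, e⟩ := c.exists_split2 J.cen (h.ct s.2) s2 hg
    refine ⟨⟨l, hL hl⟩⁻¹ * s, ?_, ?_⟩
    · show l⁻¹ * s ∈ Cs L
      rwa [e, inv_mul_cancel_left]
    · rw [map_mul, map_inv, show φ ⟨l, hL hl⟩ = 1 from (QuotientGroup.eq_one_iff _).2 hl, inv_one,
        one_mul]
  have h3 := odd_O2 (hS.map φ) (isCyclic_of_syl (hT.map φ)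
    (isCyclic_of_surjective _ (φ.subgroupMap_surjective T)) (hS.isPGroup.map φ) h2)
  rw [O2_eq, O2_eq, res_subgroupOf, ← res_top, map_res, res_res, ← map_res, res_top,
    ← res_subgroupOf, ← O2_eq] at h3
  have y1 := O2_le _ hy
  exact (QuotientGroup.eq_one_iff (⟨y, y1⟩ : Cz t)).1 (Is2.eq_one
    (Is2.map (g := (⟨y, y1⟩ : Cz t)) (y2.imp fun _ e => Subtype.ext e) φ)
    (odd_orderOf_of_mem h3 (mem_map_of_mem φ hy)))

theorem cov_ca (c : Cov X L) (J : JBF X Rt) {P : Subgroup G} (hP : IsSyl 2 P L) {s : G}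
    (h1 : s ∈ Ns L) (h2 : s ∈ Cs P) :
    ∃ ζ ∈ P, ζ * ζ = 1 ∧ (ζ = 1 ∨ Rt (c.pi ζ)) ∧ ζ⁻¹ * s ∈ Cs L := by
  have := c.finite_X
  obtain ⟨ζ, z1, z2, z3⟩ := J.ca (c.im P) (syl_iff.2 (c.im_top ▸ c.isSyl_im le_rfl hP)) (c.ac s)
    fun u hu => by
      obtain ⟨l, l1, l2, rfl⟩ := c.mem_im.1 hu
      exact c.ac_of_comm h1 l2 (h2 l l1).symm
  obtain ⟨l, l1, l2, rfl⟩ := c.mem_im.1 z1
  have l3 := isPGroup_iff_is2.1 hP.isPGroup l l1
  refine ⟨l, l1, c.sq_of_pi l2 l3 ?_, z3.imp_left (c.eq_one_of_is2 l2 l3), c.exists_split h1 l2 z2⟩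
  rcases z3 with h | h
  · rw [h, one_mul]
  · exact (J.rt _ h).1.1

theorem cov_ca2 (c : Cov X L) (J : JBF X Rt) (h : Cfg F₀ L t) {P : Subgroup G} (hP : IsSyl 2 P L)
    {s : G} (h1 : t * s = s * t) (h2 : s ∈ Cs P) (h3 : s * s = 1) :
    ∃ ζ ∈ P, ζ * ζ = 1 ∧ (ζ = 1 ∨ Rt (c.pi ζ)) ∧ (s = ζ ∨ s = t * ζ) := by
  obtain ⟨ζ, z1, z2, z3, z4⟩ := cov_ca c J hP (h.ct (mem_Cz.2 h1)) h2
  have e1 := h2 ζ z1
  have e2 := h.tL ζ (hP.le z1)
  rw [inv_eq_of_mul_eq_one_right z2] at z4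
  refine ⟨ζ, z1, z2, z3, (h.uniq z4 ?_ ?_).imp (fun e => ?_) fun e => ?_⟩
  · rw [mul_assoc, ← mul_assoc s, ← e1, mul_assoc, h3, mul_one, z2]
  · rw [← mul_assoc, ← e2, mul_assoc, h1, mul_assoc]
  · rw [← one_mul s, ← z2, mul_assoc, e, mul_one]
  · rw [← one_mul s, ← z2, mul_assoc, e, e2]

theorem exists_syl_cj (c : Cov X L) (J : JBF X Rt) (h : Cfg F₀ L t) {g s : G} (hg : g * t * g⁻¹ = s)
    (hs : s ∈ Ns L) {P : Subgroup X} (hP : Syl P ⊤) (h1 : P ≤ O2 (fx (c.ac s))) :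
    ∃ Q ≤ L, IsSyl 2 Q (cjs g L) ∧ c.im Q = P := by
  have := c.finite_X
  have h' := h.cj g
  rw [hg] at h'
  obtain ⟨Q, q1, q2, q3, q4⟩ := c.exists_up hP.2.1
  have q5 : Q ≤ cjs g L := fun u hu => by
    obtain ⟨u1, u2, u3⟩ := (q2 u).1 hu
    exact a3i (c.cj g) J h' (O2_mono inf_le_right
      (c.mem_O2_Cz hs (is2_of_sq h'.inv.1) u1 u2 (h1 u3))) u2
  refine ⟨Q, fun u hu => ((q2 u).1 hu).1, (c.cj g).isSyl_of_im le_rfl q1 q5 ?_, q3⟩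
  rw [Cov.im_top]
  exact (syl_iff.1 hP).of_card_ge ((c.cj g).isPGroup_im q1) le_top
    (by rw [(c.cj g).card_im q5 q1, q4])

theorem a3ii (c : Cov X L) (J : JBF X Rt) (h : Cfg F₀ L t) {z : G} (hz : z ∈ L) (h1 : Rt (c.pi z)) :
    ¬ IsConj t z := fun h2 => by
  obtain ⟨g, hg⟩ := isConj_iff.1 h2
  obtain ⟨P, p1, p2⟩ := (J.rt _ h1).2
  obtain ⟨Q, q1, q2, -⟩ := exists_syl_cj c J h hg (le_normalizer hz) p1
    (by rwa [c.ac_of_mem hz, fx_conj])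
  obtain ⟨ζ, z1, -, -, z2⟩ := cov_ca2 (c.cj g) J (hg ▸ h.cj g) q2 (h.tL z hz)
    (centralizer_anti q1 h.tL) h.inv.1
  refine c.not_mem J.cen h.tL h.inv ?_
  rcases z2 with e | e <;> rw [e]
  exacts [q1 z1, mul_mem hz (q1 z1)]

theorem jobA3 : JobA3.{u} := fun c J h => ⟨fun _ => a3i c J h, fun _ => a3ii c J h⟩

theorem exists_comm (c : Cov X L) (J : JBF X Rt) (h : Cfg F₀ L t) :
    ∃ b, IsConj t b ∧ t ≠ b ∧ t * b = b * t := by
  by_contra hn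
  push Not at hn
  have t2 : orderOf t = 2 := orderOf_eq_prime (by rw [pow_two, h.inv.1]) h.inv.2
  obtain ⟨z, hz⟩ := J.ex
  obtain ⟨l, l1, l2, rfl⟩ := c.exists_lift2 (is2_of_sq (J.rt z hz).1.1)
  have hO : oddCore G = ⊥ := h.normal_eq_bot fun h1 => (J.rt _ hz).1.2 (by
    rw [l2.eq_one (odd_orderOf_of_mem H99.odd_card_oddCore (h1 (h.le l1))), c.pi_one])
  have h2 := H84.zstar_center H14.zstarThm hO ⟨t2, fun g hg => by
    by_contra h3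
    exact hn _ (isConj_iff.2 ⟨g, rfl⟩) (Ne.symm h3) hg⟩
  exact h.inv.2 (mem_bot.1 (h.cent ▸ fun a _ => mem_center_iff.1 h2 a))

theorem step1 (c : Cov X L) (J : JBF X Rt) {e e' : G} (h : Cfg F₀ L e)
    (nr : ∀ z ∈ L, z * z = 1 → Rt (c.pi z) → ¬ IsConj e (e * z)) {P : Subgroup G}
    (hP : IsPGroup 2 P) (h1 : Dl t P e) (h2 : Dl t P e') (h3 : e ≠ e') :
    ∃ u ∈ L, u ∈ Ns P ∧ u ∉ P ∧ u * u ∈ P := by
  have hPL : P ≤ Ns L := fun p hp => h.ct (mem_Cz.2 (h1.2.2 p hp).symm)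
  obtain ⟨S, hS, hPS⟩ := exists_isSyl_le hP (le_sup_left : P ≤ P ⊔ L)
  have hU := hS.inf_of_le_normalizer le_sup_right (hS.le.trans (sup_le hPL le_normalizer))
  have hc := h1.1.symm.trans h2.1
  have h4 : ¬ S ⊓ L ≤ P := fun h4 => by
    obtain ⟨ζ, z1, z2, z3, z4⟩ := cov_ca2 c J h hU (h2.2.2 e h1.2.1) (centralizer_anti h4 h2.2.2)
      (H9.UF.inv2_conj h.inv hc).1
    rcases z4 with rfl | rfl <;> rcases z3 with rfl | z3
    · exact (H9.UF.inv2_conj h.inv hc).2 rfl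
    · exact a3ii c J h z1.2 z3 hc
    · exact h3 (mul_one e).symm
    · exact nr ζ z1.2 z2 z3 hc
  have h5 : P ≤ Ns (S ⊓ L) := le_normalizer_inf (le_normalizer_of_le hPS) hPL
  obtain ⟨s, ⟨s1, s2⟩, s3⟩ := SetLike.exists_of_lt (lt_inf_normalizer
    (hS.isPGroup.to_le (sup_le hPS inf_le_left)) (left_lt_sup.2 h4))
  obtain ⟨p, hp, u, hu, rfl⟩ := (mem_sup_left_norm h5).1 s1
  obtain ⟨k, k1, k2⟩ := exists_sq_mem (isPGroup_iff_is2.1 hS.isPGroup u hu.1)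
    fun h => s3 (mul_mem hp h)
  exact ⟨_, pow_mem hu.2 k, pow_mem ((mul_mem_cancel_left (le_normalizer hp)).1 s2) k, k1, k2⟩

theorem step3 (c : Cov X L) (J : JBF X Rt) {a b y u : G} (h : Cfg F₀ L a)
    (nr : ∀ z ∈ L, z * z = 1 → Rt (c.pi z) → ¬ IsConj a (a * z)) {P : Subgroup G} (M : Mx t P)
    (ha : Dl t P a) (hb : Dl t P b) (hab : a ≠ b) (hP : IsSyl 2 P (Cz a ⊓ Cz b)) (y1 : y ∈ L)
    (y2 : Inv2 y) (y3 : y ∈ Cs P) (u1 : u ∈ Ns P) (u2 : u ∉ P) (u3 : u * u ∈ P)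
    (u4 : u * a * u⁻¹ = a) (u5 : u * y * u⁻¹ = y) : y ∈ O2 (L ⊓ Cz b) := by
  have := c.finite_X
  have hc := ha.1.symm.trans hb.1
  have b2 := H9.UF.inv2_conj h.inv hc
  have e1 : a * b = b * a := hb.2.2 a ha.2.1
  have b1 : b ∈ Ns L := h.ct (mem_Cz.2 e1)
  have hL : L ≤ Cz a := fun l hl => mem_Cz.2 (h.tL l hl).symm
  refine c.mem_O2_Cz b1 (is2_of_sq b2.1) y1 (is2_of_sq y2.1) ?_
  have y4 : c.pi y ∈ fx (c.ac b) := c.ac_of_comm b1 y1 (y3 b hb.2.1)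
  have h2 := c.isSyl_im inf_le_left (hP.inf_of_le_normalizer (N := L ⊓ Cz b)
    (inf_le_inf_right _ hL) (le_normalizer_inf (hP.le.trans (inf_le_left.trans h.ct))
      (le_normalizer_of_le (hP.le.trans inf_le_right))))
  have h5 : c.pi y ∈ Cs (c.im (P ⊓ (L ⊓ Cz b))) := fun v hv => by
    obtain ⟨l, l1, l2, rfl⟩ := c.mem_im.1 hv
    rw [← c.pi_mul _ l2 _ y1, ← c.pi_mul _ y1 _ l2, y3 l l1.1]
  rw [c.im_Cz b1 (is2_of_sq b2.1)] at h2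
  by_cases h1 : ∀ g, c.ac b ≠ MulAut.conj g
  · exact J.a4 _ (by rw [← c.ac_mul _ b1 _ b1, b2.1, c.ac_one]) h1 _ (syl_iff.2 h2) _ y4
      (c.inv2 y1 y2).1 h5
  push Not at h1
  obtain ⟨g, hg⟩ := h1
  obtain ⟨x, x1, k, k1, x2, -, rfl, e⟩ := c.exists_split2 J.cen b1 (is2_of_sq b2.1) hg
  have x3 : x * x = 1 := c.sq_of_pi x1 x2 (J.cen _ (by
    rw [map_mul, ← hg, ← c.ac_mul _ b1 _ b1, b2.1, c.ac_one]))
  have e2 := h.tL x x1
  have k2 : k = 1 ∨ k = a := h.uniq k1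
    (by rw [← b2.1, e, mul_assoc, ← mul_assoc k, ← k1 x x1, ← mul_assoc, ← mul_assoc, x3, one_mul])
    (mul_left_cancel (a := x) (by rw [← mul_assoc, e2, mul_assoc, ← e, e1, e, mul_assoc]))
  have x4 : Inv2 (c.pi x) := c.inv2 x1 ⟨x3, by
    rintro rfl
    rcases k2 with rfl | rfl
    exacts [b2.2 (e.trans (one_mul _)), hab (e.trans (one_mul _)).symm]⟩
  have x5 : ¬ Rt (c.pi x) := fun h1 => by
    rcases k2 with rfl | rfl
    · exact a3ii c J h x1 h1 (by rwa [e, mul_one] at hc)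
    · exact nr x x1 x3 h1 (by rwa [e, e2] at hc)
  rw [hg, fx_conj] at h2 ⊢
  refine (J.a45 _ _ _ x4 x5 (c.inv2 y1 y2) (syl_iff.2 h2) h5).resolve_left fun h3 => ?_
  · obtain ⟨l, l1, l2⟩ := c.conj_lift x1 y1 x3 y2.1 h3
    have l3 : l * b * l⁻¹ = y * k := by rw [e, ← l2, mul_assoc _ l⁻¹, k1 _ (inv_mem l1)]; group
    have l4 : l * a * l⁻¹ = a := by rw [h.tL l l1, mul_inv_cancel_right]
    refine u2 (M.mem ha.1 (hb.1.trans (isConj_iff.2 ⟨l, rfl⟩)) (fun e => hab ?_) ?_ ha.2.2 ?_ u1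
      (is2_of_sq_mem M.1 u3) u4 ?_)
    · rw [← l4] at e
      simpa using e
    · nth_rewrite 1 [← l4]
      nth_rewrite 2 [← l4]
      rw [conj_mul, conj_mul, e1]
    · rw [l3]
      rcases k2 with rfl | rfl
      exacts [mul_mem y3 (one_mem _), mul_mem y3 ha.2.2]
    · rw [l3, ← conj_mul, u5]
      rcases k2 with rfl | rfl
      · simp
      · rw [u4]

theorem step4 (c : Cov X L) (J : JBF X Rt) {a b y g : G} (h : Cfg F₀ L a)
    (nr : ∀ z ∈ L, z * z = 1 → Rt (c.pi z) → ¬ IsConj a (a * z)) {P : Subgroup G} (M : Mx t P)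
    (ha : Dl t P a) (hb : Dl t P b) (hab : a ≠ b) (hP : IsSyl 2 P (Cz a ⊓ Cz b)) (y1 : y ∈ L)
    (y2 : y * y = 1) (y3 : y ∈ Cs P) (x1 : a * b ∈ L) (g1 : g ∈ Ns P) (g2 : g * g ∈ P)
    (g3 : g * a * g⁻¹ = b) (g4 : g * y * g⁻¹ = a * b * y) : False := by
  have := c.finite_X
  have hc := ha.1.symm.trans hb.1
  have b2 := H9.UF.inv2_conj h.inv hc
  have e1 : a * b = b * a := hb.2.2 a ha.2.1
  have b1 : b ∈ Ns L := h.ct (mem_Cz.2 e1)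
  have hL : L ≤ Cz a := fun l hl => mem_Cz.2 (h.tL l hl).symm
  have g5 : g * b * g⁻¹ = a := by rw [← g3]; exact ha.fix2 g2
  obtain ⟨x, hx⟩ : ∃ x, x = a * b := ⟨_, rfl⟩
  rw [← hx] at x1 g4
  have x0 : b = a * x := by rw [hx, ← mul_assoc, h.inv.1, one_mul]
  have x2 : Inv2 x := ⟨by rw [hx, mul_assoc, ← mul_assoc b, ← e1, mul_assoc, b2.1, mul_one, h.inv.1],
    fun e => hab (by rw [x0, e, mul_one])⟩
  have x3 := c.inv2 x1 x2
  have x4 : ¬ Rt (c.pi x) := fun h1 => nr x x1 x2.1 h1 (x0 ▸ hc)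
  have a1 : a ∈ Ns L := Cs_le_Ns L h.tL
  have hg : c.ac b = MulAut.conj (c.pi x) := by
    rw [x0, c.ac_mul _ a1 _ (le_normalizer x1), c.ac_of_Cs h.tL, one_mul, c.ac_of_mem x1]
  have h0 : c.im (L ⊓ Cz b) = Cz (c.pi x) := by rw [c.im_Cz b1 (is2_of_sq b2.1), hg, fx_conj]
  have h2 := c.isSyl_im inf_le_left (hP.inf_of_le_normalizer (N := L ⊓ Cz b)
    (inf_le_inf_right _ hL) (le_normalizer_inf (hP.le.trans (inf_le_left.trans h.ct))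
      (le_normalizer_of_le (hP.le.trans inf_le_right))))
  rw [h0] at h2
  set D := Cz a ⊓ Cz b
  have hD : D ≤ Ns L := inf_le_left.trans h.ct
  have xD : ∀ d ∈ D, d * x * d⁻¹ = x := fun d hd => by
    rw [hx, ← conj_mul, ← mem_Cz.1 hd.1, ← mem_Cz.1 hd.2]; simp
  have gD : g ∈ Ns D := cj_eq_self_iff.1 (by rw [cj_inf, cj_Cz', cj_Cz', g3, g5, inf_comm])
  have gx : g * x * g⁻¹ = x := by rw [hx, ← conj_mul, g3, g5, e1]
  have q1 : c.pi y ∈ Cs (pCoreOf 2 (Cz (c.pi x))) := fun v hv => by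
    obtain ⟨l, l1, l2, rfl⟩ := c.mem_im.1 (h2.pCoreOf_le hv)
    rw [← c.pi_mul _ l2 _ y1, ← c.pi_mul _ y1 _ l2, y3 l l1.1]
  have q2 := J.ct _ _ x3 (isO2_pCoreOf _) q1
  let Y : Set G := (fun d => d * y * d⁻¹) '' D
  have Y1 : ∀ v ∈ Y, v ∈ L ∧ v * v = 1 ∧ x * v = v * x := by
    rintro _ ⟨d, hd, rfl⟩
    refine ⟨conj_mem_of_mem_normalizer (hD hd) y1, by simp [conj_mul, y2], ?_⟩
    rw [← xD d hd, conj_mul, conj_mul, y3 x (hx ▸ mul_mem ha.2.1 hb.2.1)]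
  have Y2 : ∀ d ∈ D, y * (d * y * d⁻¹) = d * y * d⁻¹ * y := fun d hd => by
    have d1 := conj_mem_of_mem_normalizer (hD hd) y1
    refine c.comm_of_pi d1 y1 ((is2_of_sq y2).conj d) (q1 _ ?_).symm
    rw [c.ac_pi _ (hD hd) _ y1]
    have d2 : (Cz (c.pi x)).map (c.ac d).toMonoidHom = Cz (c.pi x) := by
      refine eq_of_le_of_card_ge ?_ (card_map_of_injective (c.ac d).injective).ge
      rintro _ ⟨v, hv, rfl⟩
      rw [mem_Cz, ← xD d hd, c.ac_pi _ (hD hd) _ x1]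
      exact (map_mul _ _ _).symm.trans ((congrArg _ (mem_Cz.1 hv)).trans (map_mul _ _ _))
    rw [← d2, ← map_pCoreOf_of_injective (c.ac d).injective]
    exact mem_map_of_mem (c.ac d).toMonoidHom q2
  have Y3 : ∀ v ∈ insert x Y, ∀ w ∈ insert x Y, v * w = w * v := by
    rintro v (rfl | hv) w (rfl | hw)
    · rfl
    · exact (Y1 w hw).2.2
    · exact (Y1 v hv).2.2.symm
    · obtain ⟨d, hd, rfl⟩ := hv
      obtain ⟨d', hd', rfl⟩ := hw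
      have := congrArg (fun z => d * z * d⁻¹) (Y2 _ (mul_mem (inv_mem hd) hd'))
      simpa [mul_assoc] using this
  obtain ⟨p, p1, p2, p3, -⟩ := exists_prodS (closure (insert x Y)) ((closure_le _).2 fun v hv =>
    mem_Cs_closure.2 fun w hw => Y3 w hw v hv)
  have Y4 : ∀ v ∈ Y, v ∈ closure (insert x Y) := fun v hv => subset_closure (Or.inr hv)
  have Y5 : x ∈ closure (insert x Y) := subset_closure (Or.inl rfl)
  have Y6 : ∀ d ∈ D, ∀ v ∈ Y, d * v * d⁻¹ ∈ Y := by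
    rintro d hd _ ⟨d', hd', rfl⟩
    exact ⟨d * d', mul_mem hd hd', by group⟩
  have Y7 : ∀ v ∈ Y, x * (g * v * g⁻¹) ∈ Y := by
    rintro _ ⟨d, hd, rfl⟩
    have d1 := conj_mem_of_mem_normalizer gD hd
    refine ⟨_, d1, ?_⟩
    calc _ = g * d * g⁻¹ * (x * (x * y)) * (g * d * g⁻¹)⁻¹ := by rw [← mul_assoc x, x2.1, one_mul]
      _ = _ := by rw [← g4, ← conj_mul, xD _ d1]; group
  have w1 : p Y ∈ L := p1 Y L fun v hv => (Y1 v hv).1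
  have w2 : p Y * p Y = 1 := p2 Y fun v hv => (Y1 v hv).2.1
  have w3 : ∀ d ∈ D, d * p Y * d⁻¹ = p Y := fun d hd => by
    simpa using p3 Y Y4 d (mem_Ns_closure (by
      rintro v (rfl | hv)
      · rwa [xD d hd]
      · exact Y4 _ (Y6 d hd v hv))) 1 (one_mem _) fun v hv => by simpa using Y6 d hd v hv
  have w4 : g * p Y * g⁻¹ = x * p Y := by
    have h3 := p3 Y Y4 g (mem_Ns_closure (by
      rintro v (rfl | hv)
      · rwa [gx]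
      · exact (mul_mem_cancel_left Y5).1 (Y4 _ (Y7 v hv)))) x Y5 Y7
    obtain ⟨k, hk⟩ : Odd Y.ncard := by
      rw [← H4.relIndex_cent_eq_ncard]
      exact (syl_iff.2 hP).2.2.of_dvd_nat (relIndex_dvd_of_le_left _
        fun v hv => mem_Cz.2 (y3 v hv).symm)
    rw [hk, pow_succ, pow_mul, pow_two, x2.1, one_pow, one_mul] at h3
    nth_rewrite 2 [← h3]
    rw [← mul_assoc x, x2.1, one_mul]
  generalize p Y = w at *
  have key : ∀ v ∈ L, Inv2 v → (∀ d ∈ D, d * v * d⁻¹ = v) → IsConj t (a * v) ∧ a * v ∈ Cs P :=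
    fun v v1 v2 v3 => by
      obtain ⟨l, l1, l2⟩ := c.conj_lift x1 v1 x2.1 v2.1 (J.g4 _ _ x3 x4 (c.inv2 v1 v2) fun z hz => by
        obtain ⟨l, l1, l2, rfl⟩ := c.mem_im.1 (h0 ▸ hz)
        rw [← c.pi_mul _ l2 _ v1, ← c.pi_mul _ v1 _ l2,
          mul_inv_eq_iff_eq_mul.1 (v3 l ⟨hL l2, l1.2⟩)])
      exact ⟨hb.1.trans (isConj_iff.2 ⟨l, by
        rw [x0, ← conj_mul, l2, h.tL l l1, mul_inv_cancel_right]⟩),
        mul_mem ha.2.2 fun z hz => mul_inv_eq_iff_eq_mul.1 (v3 z (hP.le hz))⟩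
  have w5 : w ≠ 1 := by rintro rfl; exact x2.2 (by simpa using w4.symm)
  have w6 : Inv2 (x * w) := w4 ▸ H9.UF.inv2_conj ⟨w2, w5⟩ (isConj_iff.2 ⟨g, rfl⟩)
  obtain ⟨k1, k2⟩ := key w w1 ⟨w2, w5⟩ w3
  obtain ⟨k3, k4⟩ := key _ (mul_mem x1 w1) w6 fun d hd => by rw [← conj_mul, xD d hd, w3 d hd]
  have e2 := h.tL x x1
  have e3 := h.tL w w1
  have e4 : x * w = w * x := mul_inv_eq_iff_eq_mul.1 (w3 x (hP.le (hx ▸ mul_mem ha.2.1 hb.2.1)))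
  have h4 := M.mem k1 k3 (fun e => x2.2 (by simpa using e.symm))
    (((Commute.refl a).mul_right ((Commute.symm e2).mul_right (Commute.symm e3))).mul_left
      ((show Commute w a from e3).mul_right ((Commute.symm e4).mul_right (Commute.refl w))))
    k2 k4 g1 (is2_of_sq_mem M.1 g2)
    (by rw [← conj_mul, g3, w4, x0, mul_assoc, ← mul_assoc x, x2.1, one_mul])
    (by rw [← mul_assoc a, ← x0, ← conj_mul, g5, w4, x0, mul_assoc])
  exact hab ((ha.fix h4).symm.trans g3)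

theorem jobJB : JobJB.{u} := by
  intro G _ _ X _ _ Rt F₀ L t c J h
  by_contra hn
  have B : ∀ a, IsConj t a → Bad Rt F₀ a := fun a =>
    Bad.conj ⟨L, c, h, fun z z1 z2 z3 z4 => hn ⟨z, z1, z2, z3, z4⟩⟩
  obtain ⟨b₀, b1, b2, b3⟩ := exists_comm c J h
  obtain ⟨P, ⟨a, b, a1, b1, hab, e1, p1, p2⟩, hM⟩ := Set.exists_max_image {Q : Subgroup G | ∃ x y,
    IsConj t x ∧ IsConj t y ∧ x ≠ y ∧ x * y = y * x ∧ Q ≤ Cz x ⊓ Cz y ∧ IsPGroup 2 Q}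
    (fun Q => Nat.card Q) (Set.toFinite _)
    ⟨⊥, t, b₀, IsConj.refl t, b1, b2, b3, bot_le, IsPGroup.of_bot⟩
  have M : Mx t P := ⟨p2, fun x y x1 y1 h1 h2 Q q1 q2 => hM Q ⟨x, y, x1, y1, h1, h2, q1, q2⟩⟩
  have hP : IsSyl 2 P (Cz a ⊓ Cz b) := by
    obtain ⟨S, s1, s2⟩ := exists_isSyl_le p2 p1
    exact s1.of_card_ge p2 p1 (M.2 a b a1 b1 hab e1 S s1.le s1.isPGroup)
  have key : ∀ x, IsConj t x → x ∈ Cz a ⊓ Cz b → x ∈ Cs P → Dl t P x := fun x x1 x2 x3 =>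
    ⟨x1, hP.le_of_le_normalizer' (is2_of_sq (H9.UF.inv2_conj h.inv x1).1).zpowers (zpowers_le.2 x2)
      (zpowers_le.2 (Cs_le_Ns P x3)) (mem_zpowers x), x3⟩
  have ha := key a a1 ⟨mem_Cz.2 rfl, mem_Cz.2 e1.symm⟩ fun p hp => (mem_Cz.1 (p1 hp).1).symm
  have hb := key b b1 ⟨mem_Cz.2 e1, mem_Cz.2 rfl⟩ fun p hp => (mem_Cz.1 (p1 hp).2).symm
  obtain ⟨La, ca, h1, n1⟩ := B a a1
  obtain ⟨Lb, cb, h2, n2⟩ := B b b1
  obtain ⟨u, u0, u1, u2, u3⟩ := step1 ca J h1 n1 p2 ha hb hab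
  obtain ⟨v, v0, v1, v2, v3⟩ := step1 cb J h2 n2 p2 hb ha hab.symm
  have u4 : u * a * u⁻¹ = a := by rw [h1.tL u u0, mul_inv_cancel_right]
  obtain ⟨g, g1, g2, g3⟩ := step2 M ha hb hab u1 u2 u3 u4 v1 v2 v3
    (by rw [h2.tL v v0, mul_inv_cancel_right])
  obtain ⟨p, q1, q2, q3, q4⟩ := exists_prodS (P ⊓ Cs P) fun x hx y hy => hx.2 y hy.1
  have s1 : p {x | Dl t P x} ∈ P ⊓ Cs P := q1 _ _ fun x hx => hx.2
  have s2 := q2 {x | Dl t P x} fun x hx => (H9.UF.inv2_conj h.inv hx.1).1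
  have s3 : ∀ n ∈ Ns P, n * p {x | Dl t P x} * n⁻¹ = p {x | Dl t P x} := fun n hn => by
    simpa using q3 {x | Dl t P x} (fun x hx => hx.2) n (le_normalizer_inf le_rfl
      (normalizer_le_normalizer_centralizer P) hn) 1 (one_mem _)
      fun x hx => by simpa using Dl.conj hx hn
  have s4 := q4 {x | Dl t P x} (fun x hx => hx.2) a ha La (fun x => u * x * u⁻¹) fun x hx x1 =>
    ⟨Dl.conj hx u1, fun e => x1 (by rw [← u4] at e; simpa using e),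
      fun e => x1 (M.fix hx ha u1 u2 u3 e u4), Dl.fix2 hx u3,
      by
        have x2 : x ∈ Ns La := h1.ct (mem_Cz.2 (hx.2.2 a ha.2.1))
        have := mul_mem (conj_mem_of_mem_normalizer x2 u0) (inv_mem u0)
        rwa [inv_eq_of_mul_eq_one_right (H9.UF.inv2_conj h.inv hx.1).1, mul_assoc x, mul_assoc x] at this⟩
  generalize p {x | Dl t P x} = σ at *
  rw [inv_eq_of_mul_eq_one_right h1.inv.1] at s4
  have e2 := s1.2 a ha.2.1
  have y2 : a * σ * (a * σ) = 1 := by rw [mul_assoc, ← mul_assoc σ, ← e2, mul_assoc, s2, mul_one, h1.inv.1]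
  have y3 : a * σ ∈ Cs P := mul_mem ha.2.2 s1.2
  have g4 : g * (a * σ) * g⁻¹ = b * σ := by rw [← conj_mul, g3, s3 g g1]
  have y4 : a * σ ≠ 1 := fun e => hab (mul_right_cancel (b := σ) (by rw [← g4, e]; simp))
  have y5 := step3 ca J h1 n1 M ha hb hab hP s4 ⟨y2, y4⟩ y3 u1 u2 u3 u4
    (by rw [← conj_mul, u4, s3 u u1])
  have g5 : g * b * g⁻¹ = a := by rw [← g3]; exact ha.fix2 g2
  have y6 : b * σ ∈ La := by
    rw [← g4]
    refine a3i ca J h1 ?_ ((is2_of_sq y2).conj g)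
    have := conj_mem_cj (g := g) (O2_mono inf_le_right y5)
    rwa [O2_eq, cj_res, ← O2_eq, cj_Cz', g5] at this
  have e3 : a * σ * (b * σ) = a * b := by
    rw [mul_assoc, ← mul_assoc σ, ← s1.2 b hb.2.1, mul_assoc, s2, mul_one]
  exact step4 ca J h1 n1 M ha hb hab hP s4 y2 y3 (e3 ▸ mul_mem s4 y6) g1 g2 g3
    (by rw [g4, e1, mul_assoc, ← mul_assoc a, h1.inv.1, one_mul])

end H63.TG
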