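import Cfsg.Agent.H63.SFLay
import Cfsg.Agent.H64.SGA3
import Cfsg.Agent.H67.SABasic

/-! Outer involutions when `Out X` is cyclic. -/

set_option autoImplicit false

namespace H63.SF

open Subgroup H98 H64.SG Cfsg
open H67.SA (St cI conj_mem_St mem_St_of_finite)

variable {X : Type*} [Group X] [Finite X] {U : Subgroup X} {ψ β : MulAut X}

/-- `ψ` is an outer involution that stabilises the Sylow `2`-subgroup `U`. -/
structure Std (U : Subgroup X) (ψ : MulAut X) : Prop where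
  inj : Function.Injective (MulAut.conj : X →* MulAut X)
  syl : IsSyl 2 U ⊤
  cyc : IsCyclic (Out X)
  sq : ψ * ψ = 1
  out : ψ ∉ Inn X
  st : ψ ∈ St U
  fr : Fr U U ψ

omit [Finite X] in
theorem conj_conj (w : MulAut X) (g : X) : w * MulAut.conj g * w⁻¹ = MulAut.conj (w g) := by
  ext; simp

omit [Finite X] in
theorem map_fx (w β : MulAut X) : (fx β).map w.toMonoidHom = fx (w * β * w⁻¹) := by
  ext g
  refine ⟨?_, fun h => ⟨w⁻¹ g, w.injective (by simpa using mem_fx.1 h), by simp⟩⟩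
  rintro ⟨g, h, rfl⟩
  simpa [mem_fx] using mem_fx.1 h

theorem two_sup (h : IsPGroup 2 U) (h1 : β ∈ St U) (h2 : Is2 β) : IsPGroup 2 ↥(cI U ⊔ zpowers β) :=
  (h.map _).to_sup_of_normal_left' h2.zpowers (zpowers_le.2 (mem_normalizer_of_cj_le (by
    rintro _ ⟨_, ⟨g, hg, rfl⟩, rfl⟩
    exact ⟨β g, (h1 g).1 hg, (conj_conj β g).symm⟩)))

theorem Std.conj (h : Std U ψ) {T : Subgroup (MulAut X)} (hT : IsPGroup 2 T) (hβ : β ∈ T)
    (h1 : β ∉ Inn X) (h2 : β * β ∈ Inn X) : ∃ w : MulAut X, ∃ u ∈ U,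
      w * β * w⁻¹ = MulAut.conj u * ψ ∧ ∀ g, MulAut.conj g ∈ T → w g ∈ U := by
  obtain ⟨S, hS, h3⟩ := exists_isSyl_le (two_sup h.syl.isPGroup h.st (is2_of_sq h.sq)) le_top
  obtain ⟨w, -, hw⟩ := hS.exists_cj_le hT le_top
  have k : ∀ g, MulAut.conj g ∈ S → g ∈ U := fun g hg =>
    (h.syl.eq_of_le (hS.isPGroup.comap_of_injective _ h.inj)
      (map_le_iff_le_comap.1 (le_sup_left.trans h3)) le_top).le hg
  have := h.cyc
  have e : (β : Out X) = ψ := (eq_of_cyclic (R := ⊤) inferInstance (mem_top _) (mem_top _)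
    ⟨congrArg QuotientGroup.mk h.sq, mt (QuotientGroup.eq_one_iff _).1 h.out⟩
    ((QuotientGroup.eq_one_iff _).2 h2)).resolve_left (mt (QuotientGroup.eq_one_iff _).1 h1)
  obtain ⟨u, hu⟩ : w * β * w⁻¹ * ψ⁻¹ ∈ Inn X := (QuotientGroup.eq_one_iff _).1 (by
    simp only [QuotientGroup.mk_mul, QuotientGroup.mk_inv, e]
    rw [IsCyclic.commGroup.mul_comm (w : Out X)]
    group)
  exact ⟨w, u, k u (hu ▸ mul_mem (hw (conj_mem_cj hβ)) (inv_mem (h3 (mem_sup_right (mem_zpowers ψ))))),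
    by rw [hu]; group, fun g hg => k _ (conj_conj w g ▸ hw (conj_mem_cj hg))⟩

theorem Std.ub (h : Std U ψ) (h1 : β ∈ St U) (h2 : Is2 β) (h3 : β ∉ cI U) :
    Nat.card U ≤ (fx β).relIndex U ^ 2 := by
  have hT := two_sup h.syl.isPGroup h1 h2
  obtain ⟨k, k1, k2⟩ := exists_sq_mem (P := Inn X) h2 (by
    rintro ⟨g, rfl⟩
    exact h3 (mem_map_of_mem _ ((h.syl.eq_of_le (hT.comap_of_injective _ h.inj)
      (map_le_iff_le_comap.1 le_sup_left) le_top).le (mem_sup_right (mem_zpowers _)))))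
  obtain ⟨w, u, hu, e, hw⟩ := h.conj hT (pow_mem (mem_sup_right (mem_zpowers β)) k) k1 k2
  have c1 : Nat.card ↥(U ⊓ fx β) ^ 2 ≤ Nat.card U := by
    refine (Nat.pow_le_pow_left ?_ 2).trans (h.fr.ub u hu)
    rw [← card_map_of_injective (f := w.toMonoidHom) w.injective, ← e, ← map_fx]
    refine card_le_of_le ?_
    rintro _ ⟨g, hg, rfl⟩
    exact ⟨hw g (mem_sup_left (mem_map_of_mem _ hg.1)),
      mem_map_of_mem _ (pow_mem (show β ∈ MulAction.stabilizer (MulAut X) g from hg.2) k)⟩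
  have c2 : Nat.card ↥(U ⊓ fx β) * (fx β).relIndex U = Nat.card U := by
    rw [← ((fx β).subgroupOf U).card_mul_index, ← inf_subgroupOf_left,
      Nat.card_congr (subgroupOfEquivOfLe inf_le_left).toEquiv, inf_subgroupOf_left]; rfl
  refine Nat.le_of_mul_le_mul_left ?_ (Nat.card_pos (α := U))
  calc _ = Nat.card ↥(U ⊓ fx β) ^ 2 * (fx β).relIndex U ^ 2 := by rw [← mul_pow, c2, pow_two]
    _ ≤ _ := Nat.mul_le_mul_right _ c1

theorem Std.ft (h : Std U ψ) {n : X} (hn : ψ n = n) (h0 : U ⊓ cjs n U = ⊥) (h1 : β * β = 1)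
    (h2 : β ∉ Inn X) :
    ∃ P ≤ fx β, IsPGroup 2 P ∧ Nat.card U ≤ Nat.card P ^ 2 ∧ ∃ n ∈ fx β, P ⊓ cjs n P = ⊥ := by
  obtain ⟨w, u, hu, e, -⟩ := h.conj (is2_of_sq h1).zpowers (mem_zpowers β) h2 (h1 ▸ one_mem _)
  obtain ⟨v, -, rfl⟩ := h.fr.cob u hu (h.inj (by
    rw [map_mul, ← conj_conj, inv_eq_of_mul_eq_one_right h.sq, map_one]
    calc _ = MulAut.conj u * ψ * (MulAut.conj u * ψ) := by group
      _ = w * (β * β) * w⁻¹ := by rw [← e]; group
      _ = 1 := by rw [h1]; group))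
  obtain ⟨a, rfl⟩ : ∃ a : MulAut X, β = a * ψ * a⁻¹ := ⟨w⁻¹ * MulAut.conj v⁻¹, by
    rw [map_mul, ← conj_conj, map_inv] at e
    rw [map_inv]
    calc β = w⁻¹ * (w * β * w⁻¹) * w := by group
      _ = _ := by rw [e]; group⟩
  refine ⟨(U ⊓ fx ψ).map a.toMonoidHom, map_fx a ψ ▸ map_mono inf_le_right,
    (h.syl.isPGroup.to_le inf_le_left).map _,
    (card_map_of_injective (f := a.toMonoidHom) a.injective).symm ▸ h.fr.lb,
    a n, map_fx a ψ ▸ mem_map_of_mem _ hn, eq_bot_iff.2 ?_⟩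
  rintro _ ⟨⟨g, hg, rfl⟩, _, ⟨k, hk, rfl⟩, e⟩
  rw [mem_bot.1 (h0.le ⟨hg.1, k, hk.1, a.injective (by simpa using e)⟩), map_one]
  exact one_mem _

end H63.SF
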