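import Cfsg.Agent.H86.WRDef
import Cfsg.Agent.H26.SGFB
import Cfsg.Agent.H63.CUJ

/-! STD-F4, slot FC: Borel-Tits for the involutions of `F₄(F)`. -/

set_option autoImplicit false

namespace H63.SF

open Subgroup H98 Cfsg Cfsg.Lie H63 H64 H65 H64.SG H68

theorem bt {D : ChevalleyDatum} [RS D] [Tab D] [Comm D] {F : Type} [Field F] [Finite F] [CharP F 2]
    {g : ↥(D.group F)} (hg : Inv2 g) : ∃ (k : ↥(D.group F)) (J : Set (Fin D.rank)), J ≠ Set.univ ∧
      Cz g ≤ Ns (cjs k ((ad D F).toStB.rgd.UJ J)) := by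
  have h := ad D F
  obtain ⟨k, -, hk⟩ := (syl_UU D F).exists_cj_le (is2_of_sq hg.1).zpowers le_top
  obtain ⟨y, -, J, h3, h4⟩ := borel_tits h.toStB hk
  have m : k * g * k⁻¹ ∈ cj k (zpowers g) := conj_mem_cj (mem_zpowers g)
  refine ⟨(y * k)⁻¹, J, ?_, fun n hn => ?_⟩
  · rintro rfl
    have a1 := h3 _ m
    rw [RGD.UJ, show {r | (H64.wdata D).pos r ∧ r ∉ (H64.wdata D).PhiJ Set.univ} = ∅ from
      Set.eq_empty_of_forall_notMem fun r hr => hr.2 (H64.mem_PhiJ_iff.2 fun i hi => absurd trivial hi),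
      gen_empty, mem_bot, conj_eq_one_iff, conj_eq_one_iff] at a1
    exact hg.2 a1
  · rw [← cj_Ns, mem_cj]
    have := h.toStB.rgd.PJ_le_normalizer_UJ J (h4 (k * n * k⁻¹) (h.Gp_eq ▸ mem_top _) (by
      rintro _ ⟨z, hz, rfl⟩
      have := (Cs_le_Ns _ (mem_Cs_zpowers.2 (mem_Cz.1 hn)) : n ∈ Ns (zpowers g))
      simpa [mul_assoc] using conj_mem_cj (g := k) (conj_mem_of_mem_normalizer this hz)))
    simpa [mul_assoc] using this

theorem jobFC : H86.WR.JobFC := fun F _ _ _ g hg => by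
  have h := ad chevF4 F
  obtain ⟨k, J, hJ, h1⟩ := bt hg
  obtain ⟨i, hi⟩ := (Set.ne_univ_iff_exists_notMem J).1 hJ
  refine ⟨_, ((syl_UU chevF4 F).isPGroup.to_le (h.toStB.rgd.UJ_le_U J)).map _, h1, ?_, ?_⟩
  · rw [← cj_Cs]
    exact cj_mono k fun y hy => mem_UJ_of_comm h.toStB h.faithful hJ (h.Gp_eq ▸ mem_top y)
      fun u hu => (hy u hu).symm
  · have k1 : ∀ i : Fin chevF4.rank, 15 ≤ (Finset.univ.filter fun r : Rt chevF4 =>
        (∀ j : Fin chevF4.rank, 0 ≤ certF4.rtc r j) ∧ certF4.rtc r i ≠ 0).card := by decide +kernel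
    rw [card_cj]
    refine (Nat.pow_le_pow_right Nat.card_pos (k1 i)).trans (H26.SGB.pow_le_card h.toStB _
      (fun r hr => (Finset.mem_filter.1 hr).2.1) fun r hr t => x_mem_gen
        (S := {r | Pos r ∧ r ∉ (H64.wdata chevF4).PhiJ J}) ⟨(Finset.mem_filter.1 hr).2.1,
          fun e => (Finset.mem_filter.1 hr).2.2 (H64.mem_PhiJ_iff.1 e i hi)⟩ t)

end H63.SF
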