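import Cfsg.Agent.H26.DP0ASpec

/-! # S3275, chapter U0, section A: job N1. -/

set_option autoImplicit false

namespace H63.DaN1

open Subgroup Cfsg H98 H48.DP H57.DPC H48.DP2 H26.DA
open scoped commutatorElement

universe u

variable {G : Type u} [Group G]

theorem exv {X : Type u} [Group X] [Finite X] (hX : IsPGroup 2 X) (N : Subgroup X) [N.Normal]
    (hN : N ≠ ⊤) : ∃ v : X, v ∉ N ∧ v * v ∈ N ∧ ∀ x : X, x * v * x⁻¹ * v⁻¹ ∈ N := by
  have hQ : IsPGroup 2 (X ⧸ N) := hX.to_quotient N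
  haveI : Nontrivial (X ⧸ N) := QuotientGroup.nontrivial_iff.mpr hN
  haveI : Nontrivial (center (X ⧸ N)) := hQ.center_nontrivial
  obtain ⟨n, hn0, hn⟩ := (hQ.to_subgroup (center (X ⧸ N))).nontrivial_iff_card.mp inferInstance
  have hd : 2 ∣ Nat.card (center (X ⧸ N)) := by
    rw [hn]; exact dvd_pow_self 2 hn0.ne'
  obtain ⟨c, hc⟩ := exists_prime_orderOf_dvd_card' 2 hd
  obtain ⟨v, hv⟩ := QuotientGroup.mk_surjective (c : X ⧸ N)
  refine ⟨v, fun h => ?_, ?_, fun x => ?_⟩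
  · have h1 : (c : X ⧸ N) = 1 := by rw [← hv]; exact (QuotientGroup.eq_one_iff v).mpr h
    have h2 : c = 1 := Subtype.ext h1
    rw [h2, orderOf_one] at hc
    exact absurd hc (by norm_num)
  · rw [← QuotientGroup.eq_one_iff, QuotientGroup.mk_mul, hv]
    have h3 : c ^ 2 = 1 := by rw [← hc]; exact pow_orderOf_eq_one c
    have h4 := congrArg Subtype.val h3
    simpa [pow_two] using h4
  · rw [← QuotientGroup.eq_one_iff]
    simp only [QuotientGroup.mk_mul, QuotientGroup.mk_inv, hv]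
    have h5 := mem_center_iff.mp c.2 (x : X ⧸ N)
    rw [h5]; group

theorem ce_conj {R : Subgroup G} {g c : G} (hg : g ∈ No R) (hc : c ∈ Ce R) :
    g * c * g⁻¹ ∈ Ce R := by
  refine mem_centralizer_iff.mpr fun r hr => ?_
  have h1 : g⁻¹ * r * g⁻¹⁻¹ ∈ R := (mem_normalizer_iff.mp (inv_mem hg) r).mp hr
  have h2 := mem_centralizer_iff.mp hc _ h1
  calc r * (g * c * g⁻¹) = g * (g⁻¹ * r * g⁻¹⁻¹ * c) * g⁻¹ := by group
    _ = g * c * g⁻¹ * r := by rw [h2]; group

theorem step [Finite G] {A B : Subgroup G} (hB : IsPGroup 3 B) (h : A < B) :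
    3 * Nat.card A ≤ Nat.card B := by
  haveI : Fact (Nat.Prime 3) := ⟨Nat.prime_three⟩
  obtain ⟨m, hm⟩ := IsPGroup.iff_card.mp (hB.to_le h.le)
  obtain ⟨n, hn⟩ := IsPGroup.iff_card.mp hB
  have hlt : Nat.card A < Nat.card B := by
    by_contra hc
    exact h.ne (eq_of_le_of_card_ge h.le (not_lt.mp hc))
  rw [hm, hn] at hlt ⊢
  have hmn : m < n := (Nat.pow_lt_pow_iff_right (by norm_num)).mp hlt
  rw [← pow_succ']
  exact Nat.pow_le_pow_right (by norm_num) hmn

theorem one_of {s : G} (h3 : s ^ 3 = 1) (h : s = s⁻¹) : s = 1 := by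
  have h2 : s * s = 1 := by nth_rewrite 2 [h]; exact mul_inv_cancel s
  calc s = s * (s * s) := by rw [h2, mul_one]
    _ = s ^ 3 := (pow_three s).symm
    _ = 1 := h3

theorem core [Finite G] {R : Subgroup G} (hR : IsPGroup 3 R) {a b c v1 v2 v3 : G}
    (ha : a ∈ R) (hb : b ∈ R) (hc : c ∈ R) (a3 : orderOf a = 3) (b3 : b ^ 3 = 1) (c3 : c ^ 3 = 1)
    (b1 : b ≠ 1) (c1 : c ≠ 1) (ab : Commute a b) (ac : Commute a c) (bc : Commute b c)
    (h1a : v1 * a * v1⁻¹ = a) (h1b : v1 * b * v1⁻¹ = b⁻¹) (h1c : v1 * c * v1⁻¹ = c⁻¹)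
    (h2b : v2 * b * v2⁻¹ = b) (h2c : v2 * c * v2⁻¹ = c⁻¹)
    (h3a : v3 * a * v3⁻¹ = a⁻¹) (h3b : v3 * b * v3⁻¹ = b⁻¹) (h3c : v3 * c * v3⁻¹ = c) :
    v1 * (a * b * c) * v1⁻¹ ≠ a * b * c ∧ closure {a, b, c} ≤ R ∧ E27 (closure {a, b, c}) := by
  have a3' : a ^ 3 = 1 := by rw [← a3]; exact pow_orderOf_eq_one a
  have hle : closure {a, b, c} ≤ R := by
    rw [closure_le]; rintro x (rfl | rfl | rfl) <;> assumption
  have hcomm : ∀ x ∈ ({a, b, c} : Set G), ∀ z ∈ ({a, b, c} : Set G), x * z = z * x := by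
    rintro x (rfl | rfl | rfl) z (rfl | rfl | rfl) <;>
      first | rfl | exact ab | exact ac | exact bc | exact ab.symm | exact ac.symm | exact bc.symm
  have hM : IsMulCommutative (closure ({a, b, c} : Set G)) := isMulCommutative_closure hcomm
  have hcm : ∀ x ∈ closure ({a, b, c} : Set G), ∀ z ∈ closure ({a, b, c} : Set G),
      Commute x z := fun x hx z hz =>
    congrArg Subtype.val (hM.is_comm.comm (⟨x, hx⟩ : closure ({a, b, c} : Set G)) ⟨z, hz⟩)
  refine ⟨fun h => ?_, hle, ⟨hM, fun x hx => ?_⟩, ?_⟩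
  · have e1 : a * b⁻¹ * c⁻¹ = a * b * c := by
      rw [← h, ← h1b, ← h1c]; nth_rewrite 1 [← h1a]; group
    have e2 : b * c = (b * c)⁻¹ := by
      rw [mul_inv_rev, ← (bc.inv_inv).eq]
      have := congrArg (a⁻¹ * ·) e1
      simp only [mul_assoc, inv_mul_cancel_left] at this
      exact this.symm
    have e3 : b * c = 1 := one_of (by rw [bc.mul_pow, b3, c3, one_mul]) e2
    have e4 : b * c⁻¹ = 1 := by
      rw [← h2c]; nth_rewrite 1 [← h2b]
      calc v2 * b * v2⁻¹ * (v2 * c * v2⁻¹) = v2 * (b * c) * v2⁻¹ := by group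
        _ = 1 := by rw [e3]; group
    exact c1 (one_of c3 (mul_left_cancel (e3.trans e4.symm)))
  · induction hx using closure_induction with
    | mem x hx => rcases hx with rfl | rfl | rfl <;> assumption
    | one => exact one_pow 3
    | mul x z hx hz h1 h2 => rw [(hcm x hx z hz).mul_pow, h1, h2, one_mul]
    | inv x hx h1 => rw [inv_pow, h1, inv_one]
  · have hs : closure ({a, b} : Set G) ≤ closure {a, b, c} :=
      closure_mono (by rintro x (rfl | rfl) <;> simp)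
    have l1 : zpowers a < closure ({a, b} : Set G) := by
      refine lt_of_le_of_ne (zpowers_le.mpr (subset_closure (by simp))) fun h => ?_
      have hb' : b ∈ zpowers a := h ▸ subset_closure (by simp)
      obtain ⟨k, rfl⟩ := mem_zpowers_iff.mp hb'
      rw [← conj_zpow, h1a] at h1b
      exact b1 (one_of b3 h1b)
    have inv3 : ∀ x ∈ closure ({a, b} : Set G), v3 * x * v3⁻¹ = x⁻¹ := by
      intro x hx
      induction hx using closure_induction with
      | mem x hx => rcases hx with rfl | rfl <;> assumption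
      | one => group
      | mul x z hx hz h1 h2 =>
        rw [mul_inv_rev, ← ((hcm x (hs hx) z (hs hz)).inv_inv).eq, ← h1, ← h2]; group
      | inv x hx h1 =>
        calc v3 * x⁻¹ * v3⁻¹ = (v3 * x * v3⁻¹)⁻¹ := by group
          _ = x⁻¹⁻¹ := by rw [h1]
    have l2 : closure ({a, b} : Set G) < closure {a, b, c} := by
      refine lt_of_le_of_ne hs fun h => ?_
      have hc' : c ∈ closure ({a, b} : Set G) := h ▸ subset_closure (by simp)
      exact c1 (one_of c3 (h3c.symm.trans (inv3 c hc')))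
    have s1 := step (hR.to_le (hs.trans hle)) l1
    have s2 := step (hR.to_le hle) l2
    rw [Nat.card_zpowers, a3] at s1
    omega

theorem jobN1 : JobN1.{u} := by
  intro hN0 G _ _ X R y hX hR y3 yX yR XR hXy hXC
  haveI : Fact (Nat.Prime 3) := ⟨Nat.prime_three⟩
  have yyy : y * y * y = 1 := by rw [← y3, pow_three']
  have cjX : ∀ x ∈ X, y * x * y⁻¹ ∈ X := fun x hx => (mem_normalizer_iff.mp yX x).mp hx
  have cjR : ∀ x ∈ R, y * x * y⁻¹ ∈ R := fun x hx => (mem_normalizer_iff.mp yR x).mp hx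
  have yy : ∀ x : G, y * y * x * (y * y)⁻¹ = y * (y * x * y⁻¹) * y⁻¹ := fun x => by group
  have y3c : ∀ x : G, y * (y * (y * x * y⁻¹) * y⁻¹) * y⁻¹ = x := fun x => by
    calc y * (y * (y * x * y⁻¹) * y⁻¹) * y⁻¹ = y * y * y * x * (y * y * y)⁻¹ := by group
      _ = x := by rw [yyy]; group
  haveI : ((Ce R).subgroupOf X).Normal := ⟨fun n hn g => by
    rw [mem_subgroupOf] at hn ⊢
    exact ce_conj (XR g.2) hn⟩
  obtain ⟨⟨v, vX⟩, hv1, hv2, hv3⟩ := exv hX ((Ce R).subgroupOf X)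
    (fun h => hXC (subgroupOf_eq_top.mp h))
  rw [mem_subgroupOf] at hv1 hv2
  have hv3' : ∀ x ∈ X, x * v * x⁻¹ * v⁻¹ ∈ Ce R := fun x hx => mem_subgroupOf.mp (hv3 ⟨x, hx⟩)
  have v2X := cjX v vX
  have v3X := cjX _ v2X
  have cj0 : ∀ g ∈ No X ⊓ No R, ∀ x ∈ X ⊓ Ce R, g * x * g⁻¹ ∈ X ⊓ Ce R := fun g hg x hx =>
    ⟨(mem_normalizer_iff.mp hg.1 x).mp hx.1, ce_conj hg.2 hx.2⟩
  have hw : v * (y * v * y⁻¹) * (y * y * v * (y * y)⁻¹) ∈ Ce R := by
    rw [yy]
    set w := v * (y * v * y⁻¹) * (y * (y * v * y⁻¹) * y⁻¹) with hwd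
    have wX : w ∈ X := mul_mem (mul_mem vX v2X) v3X
    have hy1 : y * w * y⁻¹ * w⁻¹ ∈ X ⊓ Ce R := by
      refine mem_inf.mpr ⟨mul_mem (cjX w wX) (inv_mem wX), ?_⟩
      have h1 := hv3' _ (mul_mem v2X v3X)
      have h2 : y * w * y⁻¹ = y * v * y⁻¹ * (y * (y * v * y⁻¹) * y⁻¹) * v := by
        nth_rewrite 3 [← y3c v]; rw [hwd]; group
      have h3 : y * w * y⁻¹ * w⁻¹ = y * v * y⁻¹ * (y * (y * v * y⁻¹) * y⁻¹) * v *
          (y * v * y⁻¹ * (y * (y * v * y⁻¹) * y⁻¹))⁻¹ * v⁻¹ := by rw [h2, hwd]; group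
      exact h3 ▸ h1
    have hA : IsPGroup 3 (zpowers y) := fun a => ⟨1, by
      obtain ⟨k, hk⟩ := mem_zpowers_iff.mp a.2
      apply Subtype.ext
      rw [pow_one, coe_pow, ← hk, ← zpow_natCast, ← zpow_mul, mul_comm, zpow_mul, zpow_natCast,
        y3, one_zpow, coe_one]⟩
    have hnd : ¬ 3 ∣ Nat.card ↥(X ⊓ Ce R) := by
      obtain ⟨n, hn⟩ := IsPGroup.iff_card.mp (hX.to_le (inf_le_left : X ⊓ Ce R ≤ X))
      rw [hn]; intro h
      exact absurd (Nat.prime_three.dvd_of_dvd_pow h) (by norm_num)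
    have hno : zpowers y ≤ normalizer ((X ⊓ Ce R : Subgroup G) : Set G) := by
      refine zpowers_le.mpr (mem_normalizer_iff.mpr fun x => ⟨cj0 y ⟨yX, yR⟩ x, fun h => ?_⟩)
      have := cj0 y⁻¹ (mem_inf.mpr ⟨inv_mem yX, inv_mem yR⟩) _ h
      simpa [mul_assoc] using this
    obtain ⟨n, hn, hnw⟩ := exists_mul_mem_centralizer hA hnd hno (y := w) (by
      intro a ha
      obtain ⟨k, rfl⟩ := (Submonoid.mem_powers_iff a y).mp (mem_powers_iff_mem_zpowers.mpr ha)
      clear ha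
      induction k with
      | zero => simp
      | succ k ih =>
        have e : ⁅y ^ (k + 1), w⁆ = y * ⁅y ^ k, w⁆ * y⁻¹ * (y * w * y⁻¹ * w⁻¹) := by
          simp only [commutatorElement_def]; group
        rw [e]; exact mul_mem (cj0 y ⟨yX, yR⟩ _ ih) hy1)
    have h1 : n * w ∈ X ⊓ C1 y := ⟨mul_mem hn.1 wX, mem_centralizer_iff.mpr fun g hg => by
      rw [Set.mem_singleton_iff.mp hg]; exact mem_centralizer_iff.mp hnw y (mem_zpowers y)⟩
    rw [hXy, mem_bot] at h1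
    rw [eq_inv_of_mul_eq_one_right h1]
    exact inv_mem hn.2
  obtain ⟨r, rR, r3, e1, e2, e3, hc⟩ := hN0 G R v y hR (hX.to_le (zpowers_le.mpr vX)) y3 (XR vX)
    yR hv2 hw hv1
  rw [yy] at e3
  have tr : ∀ {p q s : G}, p * q * p⁻¹ = s →
      y * p * y⁻¹ * (y * q * y⁻¹) * (y * p * y⁻¹)⁻¹ = y * s * y⁻¹ := by
    intro p q s h; rw [← h]; group
  have ci : ∀ s : G, y * s⁻¹ * y⁻¹ = (y * s * y⁻¹)⁻¹ := fun s => by group
  have tc : ∀ {p q : G}, Commute p q → Commute (y * p * y⁻¹) (y * q * y⁻¹) := fun h =>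
    h.map (MulAut.conj y)
  have r3' : r ^ 3 = 1 := by rw [← r3]; exact pow_orderOf_eq_one r
  have r1 : r ≠ 1 := fun h => by rw [h, orderOf_one] at r3; exact absurd r3 (by norm_num)
  have n1 : ∀ {s : G}, s ≠ 1 → y * s * y⁻¹ ≠ 1 := fun h h' => h (conj_eq_one_iff.mp h')
  have p3 : ∀ {s : G}, s ^ 3 = 1 → (y * s * y⁻¹) ^ 3 = 1 := fun h => by rw [conj_pow, h]; group
  have hbc := tc hc
  have hac := (tc hbc).symm
  rw [y3c] at hac
  have h1b := tr e3
  rw [y3c, ci] at h1b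
  have h3b := tr e2
  have h1c := tr h3b
  rw [y3c, ci, ci] at h1c
  rw [ci] at h3b
  have h2c := tr h1b
  rw [ci] at h2c
  obtain ⟨k1, k2, k3⟩ := core hR rR (cjR r rR) (cjR _ (cjR r rR)) r3 (p3 r3') (p3 (p3 r3'))
    (n1 r1) (n1 (n1 r1)) hc hac hbc e1 h1b h1c (tr e1) h2c e3 h3b (tr (tr e1))
  set b := y * r * y⁻¹ with hb
  set c := y * b * y⁻¹ with hc'
  have ca : y * c * y⁻¹ = r := y3c r
  have mB : r * b * c ∈ closure ({r, b, c} : Set G) :=
    mul_mem (mul_mem (subset_closure (by simp)) (subset_closure (by simp)))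
      (subset_closure (by simp))
  refine ⟨r * b * c, ⟨k2 mB, mem_centralizer_iff.mpr fun g hg => ?_⟩, ?_, fun h => k1 ?_,
    _, k2, k3, mB, ?_⟩
  · rw [Set.mem_singleton_iff.mp hg, ← mul_inv_eq_iff_eq_mul]
    calc y * (r * b * c) * y⁻¹ = b * c * r := by nth_rewrite 2 [← ca]; rw [hc', hb]; group
      _ = r * b * c := by rw [← (hc.mul_right hac).eq, mul_assoc r b c]
  · refine orderOf_eq_prime (k3.1.2 _ mB) fun h => k1 ?_
    rw [h]; group
  · rw [mem_centralizer_iff.mp h v vX]; group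
  · refine mem_normalizer_fintype fun x hx => ?_
    induction hx using closure_induction with
    | mem x hx =>
      rcases hx with rfl | rfl | rfl
      · exact subset_closure (by simp [← hb])
      · exact subset_closure (by simp [← hc'])
      · rw [ca]; exact subset_closure (by simp)
    | one => simp
    | mul x z _ _ h1 h2 =>
      have e : y * (x * z) * y⁻¹ = y * x * y⁻¹ * (y * z * y⁻¹) := by group
      rw [e]; exact mul_mem h1 h2
    | inv x _ h1 => rw [ci]; exact inv_mem h1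

end H63.DaN1
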