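import Cfsg.Agent.H48.DNASpec

/-! # S3275, chapter alpha: job S6a (coprime corrections of elements of `L`). -/

set_option autoImplicit false

namespace H63.DnS6a

open Subgroup Cfsg H98 H48.DP H57.DPC H48.DP2

universe u

theorem job : S6a.{u} := by
  intro G _ _ M Q L X P y z r h h7
  have : Fact (Nat.Prime 3) := ⟨Nat.prime_three⟩
  have : Fact (Nat.Prime 2) := ⟨Nat.prime_two⟩
  have hQ : IsPGroup 2 Q := h.o2 ▸ isPGroup_pCoreOf M
  have hMQ : M ≤ No Q := h.no.ge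
  have hQL : Q ≤ L := h7.QX.trans h7.XL
  have cj1 : ∀ l ∈ L, ∀ n ∈ Q, l⁻¹ * (n * l) ∈ Q := fun l hl n hn => by
    have := (mem_normalizer_iff.mp (inv_mem (hMQ (h7.LM hl))) n).mp hn
    rwa [inv_inv, mul_assoc] at this
  refine ⟨fun l hl => ?_, fun t ht hty => ?_⟩
  · have hP : IsPGroup 3 P := fun a => ⟨1, Subtype.ext (by simpa using h.lt.ex a a.2)⟩
    have hnd : ¬ 3 ∣ Nat.card Q := by
      obtain ⟨n, hn⟩ := IsPGroup.iff_card.mp hQ
      rw [hn]; intro e
      exact absurd (Nat.prime_three.dvd_of_dvd_pow e) (by norm_num)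
    obtain ⟨n, hn, hc⟩ := exists_mul_mem_centralizer hP hnd (h.PM.trans hMQ) (y := l)
      fun a ha => h7.PL a ha l hl
    exact ⟨n * l, mul_mem (hQL hn) hl, hc, cj1 l hl n hn⟩
  · have y3 : y ^ 3 = 1 := h.lt.y3 ▸ pow_orderOf_eq_one y
    have hY : IsPGroup 3 (zpowers y) := isPGroup_zpowers (k := 1) (by rwa [pow_one])
    have hn : zpowers y ≤ No Q := zpowers_le.2 (hMQ h.yM)
    have hS : IsSyl 3 (zpowers y) (zpowers y ⊔ Q) := by
      refine ⟨le_sup_left, hY, fun R hR h1 h2 => le_antisymm (fun g hg => ?_) h1⟩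
      obtain ⟨a, ha, b, hb, rfl⟩ := (mem_sup_left_norm hn).1 (h2 hg)
      have hb' : b ∈ R := by simpa using mul_mem (inv_mem (h1 ha)) hg
      have hd := IsPGroup.disjoint_of_ne 3 2 (by norm_num) R Q hR hQ
      rw [disjoint_def.1 hd hb' hb, mul_one]
      exact ha
    have hT : IsPGroup 3 (zpowers (t * y * t⁻¹)) :=
      isPGroup_zpowers (k := 1) (by rw [pow_one, conj_pow, y3]; group)
    obtain ⟨g, hg, hle⟩ := hS.exists_cj_le hT (zpowers_le.2 (sup_comm Q _ ▸ hty))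
    obtain ⟨a, ha, q, hq, rfl⟩ := (mem_sup_left_norm hn).1 hg
    have h1 : a * q * (t * y * t⁻¹) * (a * q)⁻¹ ∈ zpowers y := hle ⟨_, mem_zpowers _, rfl⟩
    have h2 : q * t * y * (q * t)⁻¹ ∈ zpowers y := by
      have := mul_mem (mul_mem (inv_mem ha) h1) ha
      convert this using 1
      group
    refine ⟨q * t, mul_mem (hQL hq) ht, mem_normalizer_fintype ?_, cj1 t ht q hq⟩
    rintro _ ⟨k, rfl⟩
    have := zpow_mem h2 k
    rwa [conj_zpow] at this

end H63.DnS6a
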