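/- PARROTT assembly, part 1: the two cases in coordinates. -/
import Cfsg.Agent.H63.OcSpec

set_option autoImplicit false
set_option linter.unusedSectionVars false
set_option linter.unusedSimpArgs false
set_option linter.unnecessarySeqFocus false

open Subgroup
open scoped commutatorElement

universe u v w

namespace H63.Oc.Asm

section Co
variable {K : Type*} [Field K] [CharP K 2] {T : TF K}

/-- the coordinates as a function -/
def coEquiv : Co T ≃ (Fin 12 → K) where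
  toFun c := ![c.a1, c.b2, c.a2, c.a3, c.b4, c.a4, c.a5, c.b6, c.a6, c.a7, c.b8, c.a8]
  invFun f := ⟨f 0, f 1, f 2, f 3, f 4, f 5, f 6, f 7, f 8, f 9, f 10, f 11⟩
  left_inv c := rfl
  right_inv f := by ext i; fin_cases i <;> rfl

theorem isPGroup_Co [Finite K] : IsPGroup 2 (Co T) := by
  have := Fintype.ofFinite K
  obtain ⟨n, -, hn⟩ := FiniteField.card K 2
  refine IsPGroup.of_card (n := n * 12) ?_
  rw [Nat.card_congr coEquiv, Nat.card_fun, Nat.card_eq_fintype_card, hn, ← pow_mul]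
  simp

theorem x4_mem (t : K) : x4 T t ∈ sZ T := by simp [mem_sZ, x4]
theorem eq_x4 {c : Co T} (h : c ∈ sZ T) : c = x4 T c.a4 := by
  rw [mem_sZ] at h; ext <;> simp [x4, h]
theorem ww_mem (s r : K) : ww T s r ∈ sW T := by simp [mem_sW, ww]
theorem eq_ww {c : Co T} (h : c ∈ sW T) : c = ww T c.a6 c.a4 := by
  rw [mem_sW] at h; ext <;> simp [ww, h]
theorem sZ_le_sW : sZ T ≤ sW T := fun c h => by rw [mem_sZ] at h; simp [mem_sW, h]
theorem x4_ne (t : K) (ht : t ≠ 0) : x4 T t ≠ 1 := fun h => ht (congrArg Co.a4 h)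
theorem x4_sq (t : K) : x4 T t * x4 T t = 1 := by ext <;> simp [x4] <;> grind
theorem x1_sq (t : K) : x1 T t * x1 T t = 1 := by ext <;> simp [x1] <;> grind
theorem y4_sq : y4 T 1 * y4 T 1 = x4 T 1 := by ext <;> simp [x4, y4] <;> grind
theorem x6_sq (t : K) : x6 T t * x6 T t = 1 := by ext <;> simp [x6] <;> grind
theorem x1_ww (c s r : K) : x1 T c * ww T s r * (x1 T c)⁻¹ = ww T s (r + c * s) := by
  ext <;> simp [x1, ww] <;> grind
theorem nu1_x4 (t : K) : (x4 T t).nu1 = ww T t 0 := by ext <;> simp [x4, ww, Co.nu1]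
theorem nu1_ww (s r : K) : (ww T s r).nu1 = ww T r s := by ext <;> simp [ww, Co.nu1]
theorem x4_eq_ww (t : K) : x4 T t = ww T 0 t := rfl
theorem x6_eq_ww (t : K) : x6 T t = ww T t 0 := rfl
theorem dg_x4 (a b t : K) : dg T a b (x4 T t) = x4 T (chi4 T a b * t) := by ext <;> simp [x4, dg, chi4]
theorem chi4_sl (a : Kˣ) : chi4 T ((a ^ 2 : Kˣ) : K) ((a⁻¹ : Kˣ) : K) = a := by
  have h : T.σ a ≠ 0 := (map_ne_zero _).2 a.ne_zero
  simp only [chi4, Units.val_pow_eq_pow_val, Units.val_inv_eq_inv_val, map_pow, map_inv₀]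
  field_simp

theorem mem_T0_w8 (p : Kˣ × Kˣ) : p * (w8 T p)⁻¹ ∈ T0 T := by
  have h : T.σ p.2 ≠ 0 := (map_ne_zero _).2 p.2.ne_zero
  have h' : T.σ p.1 ≠ 0 := (map_ne_zero _).2 p.1.ne_zero
  simp only [mem_T0, chi4, w8, Prod.fst_mul, Prod.snd_mul, Prod.fst_inv, Prod.snd_inv, Units.val_mul,
    Units.val_inv_eq_inv_val, Units.val_pow_eq_pow_val, Units.coe_map, MonoidHom.coe_coe, map_mul, map_pow,
    map_inv₀, T.sq, inv_inv]
  field_simp

end Co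

variable {K : Type v} [Field K] [Finite K] [CharP K 2] {T : TF K} {G : Type u} [Group G]

theorem τ_ne (D : CS T G) : D.τ ≠ 1 := fun h =>
  x4_ne (T := T) 1 one_ne_zero (D.inj (h.trans (map_one _).symm))

theorem τ_mem (D : CS T G) : D.τ ∈ D.im (sZ T) := ⟨_, x4_mem 1, rfl⟩

theorem cen_of_Z {D : CS T G} (bc : BC D) {z : G} (hz : z ∈ D.im (sZ T)) {c : G} (hc : c ∈ D.C) :
    c * z = z * c := by
  obtain ⟨x, hx, rfl⟩ := hz
  rw [eq_x4 hx]; exact bc.cenZ c hc _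

theorem Z_of_cen {D : CS T G} (bc : BC D) {z : G} (hz : z ∈ D.C) (h : ∀ c ∈ D.C, c * z = z * c) :
    z ∈ D.im (sZ T) := bc.cenQ z hz fun c _ => (h _ (D.ι_mem c)).symm

theorem mv_of_eq {D D' : CS T G} (bc : BC D) (bc' : BC D') (e : D'.C = D.C) (e' : D'.τ = D.τ)
    (h : Mv D) : Mv D' := by
  obtain ⟨g, h1, h2⟩ := h
  refine ⟨g, by rwa [e, e'], fun h3 => h2 (Z_of_cen bc h1 fun c hc => ?_)⟩
  rw [e'] at h3; exact cen_of_Z bc' h3 (e ▸ hc)

theorem caseI [Finite G] (hI : JobI.{u}) {D : CS T G} (hy : Hy D) (bc : BC D) (hm : ¬ Mv D) :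
    Cfsg.oddCore G ⊔ normalizer (D.C : Set G) = ⊤ := by
  have hnc : D.ι (x1 T 1) * D.ι (x6 T 1) ≠ D.ι (x6 T 1) * D.ι (x1 T 1) := fun h => by
    rw [← map_mul, ← map_mul] at h
    have := congrArg Co.a4 (D.inj h); simp [x1, x6] at this
  refine hI G D.C D.τ (D.ι (x6 T 1)) (D.ι (y4 T 1)) (τ_ne D) ?_ (fun c hc => bc.cenZ c hc 1) hy.nrm hy.odd
    hy.core ?_ ?_ (D.ι_mem _) ?_ (D.ι_mem _) ?_ ⟨_, D.ι_mem _, hnc⟩ ?_ ?_
  · rw [CS.τ, ← map_mul, x4_sq, map_one]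
  · refine le_antisymm ?_ ((closure_le _).2 fun c hc => hc.1)
    conv_lhs => rw [bc.gen]
    refine closure_mono ?_
    rintro _ (⟨c, rfl⟩ | rfl)
    · obtain ⟨k, hk⟩ := isPGroup_Co (T := T) c
      exact ⟨D.ι_mem c, k, by rw [← map_pow, hk, map_one]⟩
    · exact ⟨D.n8_mem, 1, by rw [pow_one, sq, D.n8_sq]⟩
  · intro z hz h
    obtain ⟨x, hx, rfl⟩ := Z_of_cen bc hz h
    rw [eq_x4 hx, ← map_mul, x4_sq, map_one]
  · rw [← map_mul, y4_sq]; rfl
  · rw [← map_mul, x6_sq, map_one]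
  · rintro N hN hn ⟨n, hnN, c, hc, hne⟩
    have hV := bc.nsub N hN hn fun h => hne (cen_of_Z bc (h hnN) hc)
    have h6 : D.ι (x6 T 1) ∈ N := hV ⟨_, by simp [mem_sV, x6], rfl⟩
    refine ⟨h6, ?_⟩
    have := commutator_mem_commutator h6 (D.ι_mem (x1 T 1))
    rw [← map_commutatorElement] at this
    suffices e : ⁅x6 T 1, x1 T 1⁆ = x4 T 1 by rwa [e] at this
    rw [commutatorElement_def]
    have e1 : x6 T 1 * x1 T 1 = ⟨1, 0, 0, 0, 0, 1, 0, 0, 1, 0, 0, 0⟩ := by ext <;> simp [x1, x6]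
    have e2 : (⟨1, 0, 0, 0, 0, 1, 0, 0, 1, 0, 0, 0⟩ : Co T) * (x6 T 1)⁻¹ =
        ⟨1, 0, 0, 0, 0, 1, 0, 0, 0, 0, 0, 0⟩ := by ext <;> simp [x6] <;> grind
    rw [e1, e2]; ext <;> simp [x1, x4] <;> grind
  · intro g hg c hc
    refine cen_of_Z bc ?_ hc
    by_contra h
    exact hm ⟨g, hg, h⟩

/-- over the field with two elements `C` is self-normalising -/
theorem nor_two {D : CS T G} (L : Loc D) (h2 : ∀ a : K, a = 0 ∨ a = 1) :
    normalizer (D.C : Set G) ≤ D.C := by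
  intro g hg
  obtain ⟨c, hc, hd⟩ := L.bh.frat g hg
  set d := c * g with hdd
  have hdC : d ∈ normalizer (D.C : Set G) := mul_mem (le_normalizer hc) hg
  suffices d ∈ D.C by
    have := mul_mem (inv_mem hc) this
    rwa [hdd, inv_mul_cancel_left] at this
  have hZ := L.bh.nS (sZ T) (by simp) hd
  have hW := L.bh.nS (sW T) (by simp) hd
  have h4 : d * D.τ * d⁻¹ = D.τ := by
    obtain ⟨x, hx, e⟩ := (mem_normalizer_iff.1 hZ _).1 (τ_mem D)
    rcases h2 x.a4 with h | h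
    · rw [eq_x4 hx, h] at e
      have e1 : x4 T (0 : K) = 1 := rfl
      rw [e1, map_one, eq_comm, conj_eq_one_iff] at e
      exact absurd e (τ_ne D)
    · rw [← e, eq_x4 hx, h]; rfl
  have h4' : ∀ t, d * D.ι (x4 T t) * d⁻¹ = D.ι (x4 T t) := fun t => by
    rcases h2 t with rfl | rfl
    · have e1 : x4 T (0 : K) = 1 := rfl
      rw [e1, map_one, mul_one, mul_inv_cancel]
    · exact h4
  obtain ⟨x, hx, e⟩ := (mem_normalizer_iff.1 hW (D.ι (x6 T 1))).1 ⟨_, ww_mem 1 0, rfl⟩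
  have h6 : x.a6 = 1 := by
    refine (h2 _).resolve_left fun h => ?_
    have : D.ι x ∈ D.im (sZ T) := ⟨x, by rw [eq_ww hx, h]; exact x4_mem _, rfl⟩
    rw [e] at this
    obtain ⟨y, hy, e'⟩ := (mem_normalizer_iff.1 hZ _).2 this
    have := congrArg Co.a6 (D.inj e')
    rw [eq_x4 hy] at this; simp [x4, x6] at this
  obtain ⟨r, hx'⟩ : ∃ r, x = x6 T 1 * x4 T r := ⟨x.a4, by
    rw [eq_ww hx, h6]; ext <;> simp [ww, x4, x6]⟩
  refine L.bh.sq d hdC (map_le_range _ _ |>.trans ?_ (L.cw (d * d) fun w hw => ?_))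
  · rintro _ ⟨c, rfl⟩; exact D.ι_mem c
  have k6 : d * d * D.ι (x6 T 1) * (d * d)⁻¹ = D.ι (x6 T 1) := by
    calc _ = d * (d * D.ι (x6 T 1) * d⁻¹) * d⁻¹ := by group
      _ = (d * D.ι (x6 T 1) * d⁻¹) * (d * D.ι (x4 T r) * d⁻¹) := by
        conv_lhs => rw [← e, hx', map_mul]
        group
      _ = _ := by rw [h4', ← e, hx', map_mul, mul_assoc, ← map_mul, x4_sq, map_one, mul_one]
  have k4 : ∀ t, d * d * D.ι (x4 T t) * (d * d)⁻¹ = D.ι (x4 T t) := fun t => by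
    calc _ = d * (d * D.ι (x4 T t) * d⁻¹) * d⁻¹ := by group
      _ = _ := by rw [h4', h4']
  rw [← mul_inv_eq_iff_eq_mul]
  rcases h2 w.a6 with h | h
  · rw [eq_ww hw, h]; exact k4 _
  · have : w = x6 T 1 * x4 T w.a4 := by rw [eq_ww hw, h]; ext <;> simp [ww, x4, x6]
    rw [this, map_mul]
    calc _ = (d * d * D.ι (x6 T 1) * (d * d)⁻¹) * (d * d * D.ι (x4 T w.a4) * (d * d)⁻¹) := by group
      _ = _ := by rw [k6, k4]

theorem h_nor (A : AD T G) (p : Kˣ × Kˣ) {g : G} (hg : g ∈ A.C) : A.h p * g * (A.h p)⁻¹ ∈ A.C := by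
  induction hg using closure_induction with
  | mem x hx =>
    rcases hx with (⟨c, rfl⟩ | ⟨p', rfl⟩) | rfl
    · rw [A.tor.h_conj]; exact A.ι_mem _
    · rw [← A.tor.h_h0, ← map_inv, ← map_mul, ← map_mul, mul_inv_cancel_comm, A.tor.h_h0]
      exact A.h0_mem _
    · have : A.h p * A.n8 * (A.h p)⁻¹ = A.h0 ⟨_, mem_T0_w8 p⟩ * A.n8 := by
        rw [← A.tor.h_h0, map_mul, map_inv, ← A.tor.n8_h]
        have e : A.n8⁻¹ = A.n8 := inv_eq_of_mul_eq_one_right A.n8_sq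
        simp only [mul_inv_rev, e, mul_assoc, A.n8_sq, mul_one]
      rw [this]; exact mul_mem (A.h0_mem _) A.n8_mem
  | one => simp
  | mul x y _ _ hx hy => simpa [mul_assoc] using mul_mem hx hy
  | inv x _ hx => simpa [mul_assoc] using inv_mem hx

theorem n1_inv (A : AD T G) : A.n1⁻¹ = A.n1 := inv_eq_of_mul_eq_one_right A.n1_sq

theorem n1_ww (A : AD T G) (s r : K) : A.n1 * A.ι (ww T s r) * A.n1⁻¹ = A.ι (ww T r s) := by
  rw [n1_inv, A.n1_conj _ (by simp [mem_sQ1, ww]), nu1_ww]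

theorem mv_AD (A : AD T G) : Mv A.toCS := by
  refine ⟨A.n1, ?_⟩
  rw [CS.τ, x4_eq_ww, n1_ww]
  refine ⟨A.ι_mem _, ?_⟩
  rintro ⟨x, hx, e⟩
  have := congrArg Co.a6 (A.inj e)
  rw [eq_x4 hx] at this; simp [x4, ww] at this

theorem mem_nor_of [Finite G] {X : Subgroup G} {g : G} (h : ∀ x ∈ X, g * x * g⁻¹ ∈ X) :
    g ∈ normalizer (X : Set G) := Subgroup.mem_normalizer_fintype h

theorem nor_W [Finite G] (A : AD T G) (L : Loc A.toCS) {f : K →+ K} (sp : Sp A.toCS f) {g : G}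
    (hg : g ∈ normalizer (A.im (sW T) : Set G)) :
    g ∈ normalizer (A.S : Set G) ∨ ∃ c, (A.ι (x1 T c) * A.n1)⁻¹ * g ∈ normalizer (A.S : Set G) := by
  have hn1 : A.n1 ∈ normalizer (A.im (sW T) : Set G) := mem_nor_of fun _ ⟨x, hx, e⟩ => by
    rw [← e, eq_ww hx, n1_ww]; exact ⟨_, ww_mem _ _, rfl⟩
  have hx1 : ∀ c, A.ι (x1 T c) ∈ normalizer (A.im (sW T) : Set G) := fun c =>
    mem_nor_of fun _ ⟨x, hx, e⟩ => by
      rw [← e, eq_ww hx, ← map_inv, ← map_mul, ← map_mul, x1_ww]; exact ⟨_, ww_mem _ _, rfl⟩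
  obtain ⟨c0, hc0⟩ : ∃ c0, ∀ t, f t + c0 * t = 0 := by
    rcases sp.all A.n1 fun t => by rw [x4_eq_ww, n1_ww]; exact ⟨_, ww_mem _ _, rfl⟩ with h | ⟨c, hc⟩
    · obtain ⟨x, hx, e⟩ := (mem_normalizer_iff.1 h _).1 (τ_mem A.toCS)
      rw [CS.τ, x4_eq_ww, n1_ww] at e
      have := congrArg Co.a6 (A.inj e)
      rw [eq_x4 hx] at this; simp [x4, ww] at this
    · refine ⟨c, fun t => ?_⟩
      obtain ⟨s, e⟩ := hc t
      rw [x4_eq_ww, n1_ww] at e
      have e1 := congrArg Co.a6 (A.inj e)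
      have e2 := congrArg Co.a4 (A.inj e)
      simp only [ww] at e1 e2
      rw [e1]; exact e2.symm
  rcases sp.all g fun t => (mem_normalizer_iff.1 hg _).1 ⟨_, sZ_le_sW (x4_mem t), rfl⟩ with h | ⟨c, hc⟩
  · exact Or.inl (L.bh.nZW g h hg)
  · refine Or.inr ⟨c + c0, L.bh.nZW _ (mem_nor_of ?_) (mul_mem (inv_mem (mul_mem (hx1 _) hn1)) hg)⟩
    rintro _ ⟨x, hx, rfl⟩
    obtain ⟨s, e⟩ := hc x.a4
    refine ⟨_, x4_mem s, ?_⟩
    have e1 : A.ι (x1 T (c + c0)) * A.n1 * A.ι (x4 T s) * (A.ι (x1 T (c + c0)) * A.n1)⁻¹ =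
        g * A.ι (x4 T x.a4) * g⁻¹ := by
      calc _ = A.ι (x1 T (c + c0)) * (A.n1 * A.ι (x4 T s) * A.n1⁻¹) * (A.ι (x1 T (c + c0)))⁻¹ := by group
        _ = _ := by
          rw [x4_eq_ww, n1_ww, ← map_inv, ← map_mul, ← map_mul, x1_ww, e]
          congr 2
          have := hc0 s
          grind
    rw [eq_x4 hx]
    calc _ = (A.ι (x1 T (c + c0)) * A.n1)⁻¹ * (g * A.ι (x4 T x.a4) * g⁻¹) * (A.ι (x1 T (c + c0)) * A.n1) := by
          rw [← e1]; group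
      _ = _ := by simp only [x4]; group

/-- the Levi factor `⟨S, S^{n₁}⟩` -/
def LL (A : AD T G) : Subgroup G := closure (Set.range A.ι ∪ Set.range fun c => A.n1 * A.ι c * A.n1⁻¹)

theorem n1_LL (A : AD T G) : A.n1 ∈ LL A := by
  have h1 : A.ι (x1 T 1) ∈ LL A := subset_closure (Or.inl ⟨_, rfl⟩)
  have h2 : A.n1 * A.ι (x1 T 1) * A.n1⁻¹ ∈ LL A := subset_closure (Or.inr ⟨_, rfl⟩)
  have h := A.rank1
  have : A.n1 = (A.ι (x1 T 1) * (A.n1 * A.ι (x1 T 1) * A.n1⁻¹) * A.ι (x1 T 1))⁻¹ := by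
    rw [eq_inv_iff_mul_eq_one, n1_inv, ← h]; simp only [pow_succ, pow_zero, one_mul, mul_assoc]
  rw [this]; exact inv_mem (mul_mem (mul_mem h1 h2) h1)

theorem conj_LL (A : AD T G) {d : G} (h1 : ∀ c, d * A.ι c * d⁻¹ ∈ LL A)
    (h2 : ∀ c, d * (A.n1 * A.ι c * A.n1⁻¹) * d⁻¹ ∈ LL A) {g : G} (hg : g ∈ LL A) : d * g * d⁻¹ ∈ LL A := by
  induction hg using closure_induction with
  | mem x hx => rcases hx with ⟨c, rfl⟩ | ⟨c, rfl⟩ <;> [exact h1 c; exact h2 c]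
  | one => simp
  | mul x y _ _ hx hy => simpa [mul_assoc] using mul_mem hx hy
  | inv x _ hx => simpa [mul_assoc] using inv_mem hx

theorem ι_LL (A : AD T G) (c : Co T) : A.ι c ∈ LL A := subset_closure (Or.inl ⟨_, rfl⟩)

theorem h_LL (A : AD T G) (a : Kˣ) : A.h (a ^ 2, a⁻¹) ∈ LL A := by
  have h := conj_LL A (d := A.h (a, 1)) (fun c => by rw [A.tor.h_conj]; exact ι_LL A _) (fun c => by
    have : A.h (a, 1) * (A.n1 * A.ι c * A.n1⁻¹) * (A.h (a, 1))⁻¹ =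
        A.n1 * ((A.n1 * A.h (a, 1) * A.n1) * A.ι c * (A.n1 * A.h (a, 1) * A.n1)⁻¹) * A.n1⁻¹ := by
      simp only [mul_inv_rev, n1_inv, ← mul_assoc, A.n1_sq, one_mul]
      simp only [mul_assoc, A.n1_sq, mul_one]
    rw [this, A.n1_h, A.tor.h_conj]; exact subset_closure (Or.inr ⟨_, rfl⟩)) (n1_LL A)
  have h' := mul_mem h (n1_LL A)
  have e : A.h (a, 1) * A.n1 * (A.h (a, 1))⁻¹ * A.n1 = A.h (a ^ 2, a⁻¹) := by
    rw [← map_inv, mul_assoc, mul_assoc, ← mul_assoc A.n1, A.n1_h, ← map_mul]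
    congr 1; simp [w1, sq]
  rwa [e] at h'

theorem C_le_G0 (A : AD T G) : A.C ≤ A.G0 := by
  refine (closure_le _).2 ?_
  rintro _ ((⟨c, rfl⟩ | ⟨p, rfl⟩) | rfl)
  · exact subset_closure (Or.inl (Or.inl ⟨c, rfl⟩))
  · rw [← A.tor.h_h0]; exact subset_closure (Or.inl (Or.inr ⟨_, rfl⟩))
  · exact subset_closure (Or.inr (by simp))

theorem G0_eq (A : AD T G) : A.G0 = A.C ⊔ LL A := by
  apply le_antisymm
  · refine (closure_le _).2 ?_
    rintro _ ((⟨c, rfl⟩ | ⟨p, rfl⟩) | rfl | rfl)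
    · exact mem_sup_left (A.ι_mem c)
    · have h0 : chi4 T p.1 p.2 ≠ 0 := by
        have h : T.σ p.2 ≠ 0 := (map_ne_zero _).2 p.2.ne_zero
        have h' : T.σ p.1 ≠ 0 := (map_ne_zero _).2 p.1.ne_zero
        simp [chi4, h, h']
      set a := Units.mk0 _ h0 with ha
      have hp : p * (a ^ 2, a⁻¹)⁻¹ ∈ T0 T := by
        have e := chi4_sl (T := T) a
        have h : T.σ a ≠ 0 := (map_ne_zero _).2 a.ne_zero
        have e' : (a : K) = chi4 T p.1 p.2 := rfl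
        have ha0 := a.ne_zero
        simp only [mem_T0, chi4, Prod.fst_mul, Prod.snd_mul, Prod.fst_inv, Prod.snd_inv, Units.val_mul,
          Units.val_inv_eq_inv_val, Units.val_pow_eq_pow_val, map_mul, map_pow, map_inv₀, inv_inv] at e' ⊢
        field_simp
        rw [e']; ring
      have : A.h p = A.h0 ⟨_, hp⟩ * A.h (a ^ 2, a⁻¹) := by
        rw [← A.tor.h_h0, ← map_mul, inv_mul_cancel_right]
      rw [this]; exact mul_mem (mem_sup_left (A.h0_mem _)) (mem_sup_right (h_LL A a))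
    · exact mem_sup_right (n1_LL A)
    · exact mem_sup_left A.n8_mem
  · refine sup_le (C_le_G0 A) ((closure_le _).2 ?_)
    have h1 : A.n1 ∈ A.G0 := subset_closure (Or.inr (by simp))
    rintro _ (⟨c, rfl⟩ | ⟨c, rfl⟩)
    · exact C_le_G0 A (A.ι_mem c)
    · exact mul_mem (mul_mem h1 (C_le_G0 A (A.ι_mem c))) (inv_mem h1)

theorem caseII [Finite G] (A : AD T G) (L : Loc A.toCS) {f : K →+ K} (sp : Sp A.toCS f)
    (cov : Cov A.toCS) : A.G0.Normal ∧ A.G0 ⊔ centralizer ({A.τ} : Set G) = ⊤ := by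
  have h1 : A.n1 ∈ A.G0 := subset_closure (Or.inr (by simp))
  have top : ∀ X : Subgroup G, A.G0 ≤ X → normalizer (A.S : Set G) ≤ X → X = ⊤ := fun X hX hS => by
    rw [eq_top_iff, ← cov.top, L.bh.nZ]
    refine sup_le (fun g hg => ?_) fun g hg => ?_
    · obtain ⟨c, hc, hd⟩ := L.bh.frat g hg
      simpa using mul_mem (inv_mem (hX (C_le_G0 A hc))) (hS hd)
    · rcases nor_W A L sp hg with h | ⟨c, h⟩
      · exact hS h
      · have := mul_mem (hX (mul_mem (C_le_G0 A (A.ι_mem (x1 T c))) h1)) (hS h)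
        rwa [mul_inv_cancel_left] at this
  refine ⟨normalizer_eq_top_iff.1 (top _ le_normalizer fun d hd => mem_nor_of fun g hg => ?_),
    top _ le_sup_left fun d hd => ?_⟩
  · have hS : ∀ {d}, d ∈ normalizer (A.S : Set G) → ∀ c, ∃ c', d * A.ι c * d⁻¹ = A.ι c' := fun hd c => by
      obtain ⟨c', e⟩ := (mem_normalizer_iff.1 hd _).1 ⟨c, rfl⟩
      exact ⟨c', e.symm⟩
    have hdZ := L.bh.nS (sZ T) (by simp) hd
    have hdW := L.bh.nS (sW T) (by simp) hd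
    have hn1 : A.n1 ∈ normalizer (A.im (sW T) : Set G) := mem_nor_of fun _ ⟨x, hx, e⟩ => by
      rw [← e, eq_ww hx, n1_ww]; exact ⟨_, ww_mem _ _, rfl⟩
    have hL : ∀ g ∈ LL A, d * g * d⁻¹ ∈ LL A := fun g hg => by
      refine conj_LL A (fun c => ?_) (fun c => ?_) hg
      · obtain ⟨c', e⟩ := hS hd c
        rw [e]; exact ι_LL A _
      · rcases nor_W A L sp (mul_mem hdW hn1) with h | ⟨c0, h⟩
        · obtain ⟨c', e⟩ := hS h c
          have : d * (A.n1 * A.ι c * A.n1⁻¹) * d⁻¹ = A.ι c' := by rw [← e]; group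
          rw [this]; exact ι_LL A _
        · obtain ⟨c', e⟩ := hS h c
          have : d * (A.n1 * A.ι c * A.n1⁻¹) * d⁻¹ =
              A.ι (x1 T c0) * (A.n1 * A.ι c' * A.n1⁻¹) * (A.ι (x1 T c0))⁻¹ := by rw [← e]; group
          rw [this]
          exact mul_mem (mul_mem (ι_LL A _) (subset_closure (Or.inr ⟨_, rfl⟩))) (inv_mem (ι_LL A _))
    rw [L.bh.nZ] at hdZ
    rw [G0_eq] at hg ⊢
    have : A.C ⊔ LL A ≤ (A.C ⊔ LL A).comap (MulAut.conj d).toMonoidHom :=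
      sup_le (fun x hx => mem_sup_left ((mem_normalizer_iff.1 hdZ x).1 hx))
        fun x hx => mem_sup_right (hL x hx)
    exact this hg
  · obtain ⟨x, hx, e⟩ := (mem_normalizer_iff.1 (L.bh.nS (sZ T) (by simp) hd) _).1 (τ_mem A.toCS)
    have h0 : x.a4 ≠ 0 := fun h => by
      rw [eq_x4 hx, h] at e
      have e1 : x4 T (0 : K) = 1 := rfl
      rw [e1, map_one, eq_comm, conj_eq_one_iff] at e
      exact τ_ne _ e
    set a := Units.mk0 _ h0
    have e2 : A.h (a ^ 2, a⁻¹) * A.τ * (A.h (a ^ 2, a⁻¹))⁻¹ = d * A.τ * d⁻¹ := by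
      rw [← e, CS.τ, A.tor.h_conj, dg_x4, chi4_sl, mul_one, eq_x4 hx]; rfl
    have h3 : A.h (a ^ 2, a⁻¹) ∈ A.G0 := subset_closure (Or.inl (Or.inr ⟨_, rfl⟩))
    have h4 : (A.h (a ^ 2, a⁻¹))⁻¹ * d ∈ centralizer ({A.τ} : Set G) := by
      rw [mem_centralizer_singleton_iff]
      calc _ = (A.h (a ^ 2, a⁻¹))⁻¹ * (d * A.τ * d⁻¹) * d := by group
        _ = _ := by rw [← e2]; group
    simpa using mul_mem (mem_sup_left h3) (mem_sup_right h4)

end H63.Oc.Asm
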