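/- PARROTT assembly, part 2: the theorem from the jobs. -/
import Cfsg.Agent.H63.OcAsm1
import Cfsg.Agent.H63.AdMat
import Cfsg.Agent.H68.Tits
import Cfsg.Agent.H2.PrimeCore

set_option autoImplicit false
set_option linter.unusedSectionVars false

open Subgroup Cfsg Cfsg.Lie

universe u v w

namespace H63.Oc.Asm

/-- all the slots -/
structure Jobs : Prop where
  bc : JobBC.{u, v}
  bc' : JobBC.{v, v}
  bh : JobBH.{u, v}
  ty : JobTY.{u, v}
  fu : JobFU.{u, v}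
  rig : JobRig.{u, v}
  sp : JobSp.{u, v}
  eq1 : JobEq.{u, v, u}
  eq2 : JobEq.{u, v, v}
  eq3 : JobEq.{v, v, v}
  torA : JobTorA.{u, v}
  torB : JobTorB.{u, v}
  am2 : JobAM2.{u, v}
  cI : JobI.{u}
  cE : JobE.{u, v}
  cov : JobCov.{u, v}
  tc2 : JobTC2.{u, v}
  br : JobBr.{u, v}
  id1 : JobId.{u, v, v}
  id2 : JobId.{v, v, v}
  model : JobModel.{v}

section
variable {K : Type v} [Field K] [Finite K] [CharP K 2] {T : TF K} {G : Type u} [Group G] [Finite G]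

theorem Jobs.loc (J : Jobs.{u, v}) {D : CS T G} (hy : Hy D) : Loc D := by
  have bc := J.bc K T G D
  have ty := J.ty K T G D bc
  have bh := J.bh K T G D bc ty hy
  have rg := J.rig K T G D bc ty
  exact ⟨hy, bc, bh, ty, J.fu K T G D bc ty hy bh, rg.1, rg.2 hy bh⟩

theorem Jobs.exists_AD (J : Jobs.{u, v}) {D : CS T G} (hy : Hy D) (hm : Mv D) :
    ∃ A : AD T G, A.C = D.C ∧ A.τ = D.τ := by
  have L := J.loc hy
  obtain ⟨f, sp⟩ := J.sp K T G D L hm
  by_cases h2 : ∀ a : K, a = 0 ∨ a = 1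
  · exact J.am2 J.bc J.eq1 K T G D f h2 L sp
  obtain ⟨D', h, e, e', tor⟩ := J.torA J.bc J.eq1 K T G D f L sp
  have L' := J.loc (hy.of_eq e e')
  obtain ⟨f', sp'⟩ := J.sp K T G D' L' (mv_of_eq L.bc L'.bc e e' hm)
  push Not at h2
  obtain ⟨A, rfl⟩ := J.torB K T G D' f' h h2 L' sp' tor
  exact ⟨A, e, e'⟩

theorem Jobs.caseII (J : Jobs.{u, v}) {D : CS T G} (hy : Hy D) (hm : Mv D) {G' : Type v} [Group G']
    (A' : AD T G') (hb : A'.Braid) (ht : A'.G0 = ⊤) : ∃ N : Subgroup G, N.Normal ∧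
      N.index = D.C.relIndex (centralizer ({D.τ} : Set G)) ∧ Nonempty (N ≃* G') := by
  obtain ⟨A, e, e'⟩ := J.exists_AD hy hm
  have L := J.loc (hy.of_eq e e')
  obtain ⟨f, sp⟩ := J.sp K T G _ L (mv_AD A)
  have cov := J.cov K T G A L (J.cE K T G A L)
  have br := J.br K T G A L cov fun h2 => J.tc2 K T G A h2 L.bc
  obtain ⟨h1, h2⟩ := J.id1 J.eq2 K T G A L.bc br
  obtain ⟨φ⟩ := h2 G' A' (J.bc' K T G' _) hb
  obtain ⟨hn, htop⟩ := Asm.caseII A L sp cov
  refine ⟨A.G0, hn, ?_, ⟨φ.trans ((MulEquiv.subgroupCongr ht).trans topEquiv)⟩⟩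
  rw [← e, ← e', ← relIndex_top_right, ← htop, relIndex_sup_left, ← inf_relIndex_right]
  congr 1
  refine le_antisymm (fun g hg => h1 g hg.1 (mem_centralizer_singleton_iff.1 hg.2)) fun g hg =>
    ⟨C_le_G0 A hg, mem_centralizer_singleton_iff.2 (L.bc.cenZ g hg 1)⟩

theorem exists_h (A : AD T G) {x : Co T} (hx : x ∈ sZ T) (h1 : A.ι x ≠ 1) :
    ∃ p, A.h p * A.ι x * (A.h p)⁻¹ = A.τ := by
  have h0 : x.a4 ≠ 0 := fun h => h1 (by rw [eq_x4 hx, h]; exact map_one A.ι)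
  refine ⟨((Units.mk0 _ h0)⁻¹ ^ 2, (Units.mk0 _ h0)⁻¹⁻¹), ?_⟩
  obtain ⟨t, rfl⟩ : ∃ t, x = x4 T t := ⟨_, eq_x4 hx⟩
  rw [A.tor.h_conj, dg_x4, chi4_sl, CS.τ]
  exact congrArg (fun s => A.ι (x4 T s)) (by simpa [x4] using inv_mul_cancel₀ h0)

/-- transport of the coordinates of the model -/
theorem exists_CS {G' : Type v} [Group G'] [Finite G'] (A : AD T G') (bc : BC A.toCS)
    (hc : ∀ g, g * A.τ = A.τ * g → g ∈ A.C)
    (hs : ∀ P : Subgroup G', IsPGroup 2 P → ∃ g, ∀ x ∈ P, g * x * g⁻¹ ∈ A.S) (U : Sylow 2 G') {z : G'}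
    (hz : z ≠ 1) (hzU : z ∈ (U : Subgroup G')) (hzc : ∀ u ∈ (U : Subgroup G'), u * z = z * u)
    {C : Subgroup G} {τ : G} (hτ : τ ∈ C) (hτ1 : τ ≠ 1) (hC : ∀ c ∈ C, c * τ = τ * c)
    (e : C ≃* centralizer ({z} : Set G')) : ∃ D : CS T G, D.C = C ∧ D.τ = τ := by
  obtain ⟨g, hg⟩ := hs U U.isPGroup'
  have hU : (A.S.comap (MulAut.conj g).toMonoidHom) = U :=
    U.is_maximal' (((isPGroup_Co (T := T)).of_surjective _ A.ι.rangeRestrict_surjective).comap_of_injective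
      _ (MulAut.conj g).injective) hg
  have hzS := hg z hzU
  have hzZ : g * z * g⁻¹ ∈ A.im (sZ T) := by
    obtain ⟨c, hc'⟩ := hzS
    refine bc.cenQ _ (hc' ▸ A.ι_mem c) fun d _ => ?_
    have : g⁻¹ * A.ι d * g ∈ (U : Subgroup G') := by
      rw [← hU]; exact ⟨d, by simp [mul_assoc]⟩
    calc _ = g * (z * (g⁻¹ * A.ι d * g)) * g⁻¹ := by group
      _ = _ := by rw [← hzc _ this]; group
  obtain ⟨x, hx, ex⟩ := hzZ
  obtain ⟨p, hp⟩ := exists_h A hx (by rw [ex]; simpa using hz)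
  set g1 := A.h p * g with hg1
  have e1 : g1 * z * g1⁻¹ = A.τ := by rw [← hp, ex, hg1]; group
  have m1 : ∀ y, y ∈ centralizer ({z} : Set G') ↔ g1 * y * g1⁻¹ ∈ A.C := fun y => by
    rw [mem_centralizer_singleton_iff]
    refine ⟨fun h => hc _ ?_, fun h => ?_⟩
    · rw [← e1]
      calc _ = g1 * (y * z) * g1⁻¹ := by group
        _ = _ := by rw [h]; group
    · have := bc.cenZ _ h 1
      change _ * A.τ = A.τ * _ at this
      rw [← e1] at this
      calc _ = g1⁻¹ * (g1 * y * g1⁻¹ * (g1 * z * g1⁻¹)) * g1 := by group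
        _ = _ := by rw [this]; group
  set t : G' := (e ⟨τ, hτ⟩ : G') with ht
  have htZ : g1 * t * g1⁻¹ ∈ A.im (sZ T) := by
    refine Z_of_cen bc ((m1 _).1 (e ⟨τ, hτ⟩).2) fun c hc' => ?_
    have h1 : g1⁻¹ * c * g1 ∈ centralizer ({z} : Set G') := (m1 _).2 (by simpa [mul_assoc] using hc')
    have h2 : e.symm ⟨_, h1⟩ * ⟨τ, hτ⟩ = ⟨τ, hτ⟩ * e.symm ⟨_, h1⟩ := Subtype.ext (hC _ (e.symm ⟨_, h1⟩).2)
    have h3 := congrArg (fun y => ((e y : centralizer ({z} : Set G')) : G')) h2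
    simp only [map_mul, MulEquiv.apply_symm_apply, Subgroup.coe_mul, ← ht] at h3
    calc _ = g1 * (g1⁻¹ * c * g1 * t) * g1⁻¹ := by group
      _ = _ := by rw [h3]; group
  obtain ⟨x', hx', ex'⟩ := htZ
  obtain ⟨p', hp'⟩ := exists_h A hx' (by
    rw [ex', ne_eq, conj_eq_one_iff]
    intro h
    exact hτ1 (congrArg Subtype.val (e.injective (a₁ := ⟨τ, hτ⟩) (a₂ := 1)
      (by rw [map_one]; exact Subtype.ext h))))
  set g2 := A.h p' * g1 with hg2
  have e2 : g2 * t * g2⁻¹ = A.τ := by rw [← hp', ex', hg2]; group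
  have m2 : ∀ y, y ∈ centralizer ({z} : Set G') ↔ g2 * y * g2⁻¹ ∈ A.C := fun y => by
    rw [m1]
    refine ⟨fun h => by simpa [hg2, mul_assoc] using h_nor A p' h, fun h => ?_⟩
    simpa [hg2, mul_assoc] using h_nor A p'⁻¹ h
  let ψ : A.C →* centralizer ({z} : Set G') :=
    ((MulAut.conj g2⁻¹).toMonoidHom.comp A.C.subtype).codRestrict _ fun c =>
      (m2 _).2 (by simp [mul_assoc])
  have hψ : Function.Injective ψ := fun a b h => by
    simpa [ψ] using congrArg Subtype.val h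
  refine ⟨A.toCS.map (C.subtype.comp (e.symm.toMonoidHom.comp ψ))
    (C.subtype_injective.comp (e.symm.injective.comp hψ)), ?_, ?_⟩
  · rw [CS.map_C]
    refine le_antisymm (by rintro _ ⟨c, rfl⟩; exact (e.symm (ψ c)).2) fun c hc' => ?_
    refine ⟨⟨_, (m2 _).1 (e ⟨c, hc'⟩).2⟩, ?_⟩
    have : ψ ⟨_, (m2 _).1 (e ⟨c, hc'⟩).2⟩ = e ⟨c, hc'⟩ := Subtype.ext (by simp [ψ, mul_assoc])
    simp [this]
  · have : ψ (A.ιC (x4 T 1)) = e ⟨τ, hτ⟩ := Subtype.ext (by
      change g2⁻¹ * A.τ * g2⁻¹⁻¹ = t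
      rw [← e2]; group)
    simp [CS.τ, CS.map_ι, this]

end

theorem main (J : Jobs.{u, v}) {G : Type u} [Group G] [Finite G]
    (τ : G) (hτ : orderOf τ = 2) (S : Sylow 2 G) (hτc : ∀ s ∈ (S : Subgroup G), s * τ = τ * s)
    {K : Type v} [Field K] [Fintype K] (m : ℕ) (hK : Fintype.card K = 2 ^ (2 * m + 1))
    (U : Sylow 2 (twistedF4 K (2 ^ m))) (z : twistedF4 K (2 ^ m)) (hz : orderOf z = 2)
    (hzU : z ∈ (U : Subgroup (twistedF4 K (2 ^ m))))
    (hzc : ∀ u ∈ (U : Subgroup (twistedF4 K (2 ^ m))), u * z = z * u)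
    (C : Subgroup G) (hCle : C ≤ centralizer ({τ} : Set G))
    (hCn : (C.subgroupOf (centralizer ({τ} : Set G))).Normal) (ρ : ℕ) (hρ : Odd ρ)
    (hCi : C.relIndex (centralizer ({τ} : Set G)) = ρ)
    (e : C ≃* centralizer ({z} : Set (twistedF4 K (2 ^ m))))
    (hO : oddCore (centralizer ({τ} : Set G)) = ⊥) :
    (1 ≤ m → oddCore G ≠ ⊥ ∨
        (oddCore G = ⊥ ∧ ∃ E : Subgroup G, E ≠ ⊥ ∧ E.Normal ∧ E ≤ C ⊓ centralizer (C : Set G)) ∨
        (∃ N : Subgroup G, N.Normal ∧ N.index = ρ ∧ Nonempty (N ≃* twistedF4 K (2 ^ m)))) ∧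
      (m = 0 → oddCore G ⊔ C = ⊤ ∨ Nonempty (G ≃* twistedF4 K (2 ^ m))) := by
  have : CharP K 2 := charP_of_card_eq_prime_pow hK
  obtain ⟨T, A', hb, ht, hs⟩ := J.model K m hK
  have bc' := J.bc' K T _ A'.toCS
  have hτ1 : τ ≠ 1 := by rintro rfl; simp at hτ
  have hττ : τ * τ = 1 := by rw [← sq, ← hτ, pow_orderOf_eq_one]
  have hτC : τ ∈ C := by
    have hm : τ ∈ centralizer ({τ} : Set G) := mem_centralizer_singleton_iff.2 rfl
    have h1 := pow_index_mem (H := C.subgroupOf (centralizer ({τ} : Set G))) ⟨τ, hm⟩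
    obtain ⟨k, hk⟩ := hρ
    rw [← relIndex, hCi, hk, mem_subgroupOf] at h1
    simpa [pow_succ, pow_mul, sq, hττ] using h1
  obtain ⟨D, rfl, rfl⟩ := exists_CS A' bc' (fun g => (J.id2 J.eq3 K T _ A' bc' hb).1 g (ht ▸ mem_top g)) hs U
    (by rintro rfl; simp at hz) hzU hzc hτC hτ1 (fun c hc => mem_centralizer_singleton_iff.1 (hCle hc)) e
  have hy : Hy D := by
    refine ⟨fun g hg => ?_, ?_, hO⟩
    · exact (normal_subgroupOf_iff_le_normalizer hCle).1 hCn (mem_centralizer_singleton_iff.2 hg)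
    · rw [← relIndex_mul_index hCle, hCi]
      refine hρ.mul (Odd.of_dvd_nat ?_ (index_dvd_of_le (H := S) fun s hs =>
        mem_centralizer_singleton_iff.2 (hτc s hs)))
      exact Nat.odd_iff.2 (Nat.two_dvd_ne_zero.1 S.not_dvd_index)
  have L := J.loc hy
  have h2 : m = 0 → ∀ a : K, a = 0 ∨ a = 1 := by
    rintro rfl a
    have := FiniteField.pow_card a
    rw [hK] at this
    have e : a * (a - 1) = 0 := by linear_combination this
    exact (mul_eq_zero.1 e).imp_right sub_eq_zero.1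
  by_cases hm : Mv D
  · obtain ⟨N, hN, hi, ⟨φ⟩⟩ := J.caseII hy hm A' hb ht
    refine ⟨fun _ => Or.inr (Or.inr ⟨N, hN, hi.trans hCi, ⟨φ⟩⟩), fun h0 => Or.inr ⟨?_⟩⟩
    rw [relIndex_eq_one.2 fun g hg => nor_two L (h2 h0) (hy.nrm g (mem_centralizer_singleton_iff.1 hg)),
      index_eq_one] at hi
    exact (topEquiv.symm.trans (MulEquiv.subgroupCongr hi.symm)).trans φ
  · have h := caseI J.cI hy L.bc hm
    refine ⟨fun _ => or_iff_not_imp_left.2 fun h0 => Or.inl ⟨not_not.1 h0, D.C ⊓ centralizer (D.C : Set G),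
      fun hb => hτ1 ?_, ?_, le_rfl⟩, fun h0 => Or.inl ?_⟩
    · rw [← mem_bot, ← hb]
      exact ⟨hτC, fun c hc => mem_centralizer_singleton_iff.1 (hCle hc)⟩
    · rw [not_not.1 h0, bot_sup_eq, normalizer_eq_top_iff] at h
      infer_instance
    · rwa [le_antisymm (nor_two L (h2 h0)) le_normalizer] at h

theorem map_mem_F4 {F K : Type*} [Field F] [Field K] (φ : F →+* K) (e : ℕ) {g : GL chevF4.Idx F}
    (hg : g ∈ twistedF4 F e) : Matrix.GeneralLinearGroup.map φ g ∈ twistedF4 K e := by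
  refine (closure_le (K := (twistedF4 K e).comap (Matrix.GeneralLinearGroup.map φ))).2 ?_ hg
  rintro g ⟨w, hw, hg⟩
  refine subset_closure ⟨w.map fun p => (p.1, φ p.2), ?_, ?_⟩
  · rcases hw with ⟨t, rfl | rfl⟩ | ⟨t, s, rfl | rfl⟩
    · exact Or.inl ⟨φ t, Or.inl (by simp [f4PairWord])⟩
    · exact Or.inl ⟨φ t, Or.inr (by simp [f4PairWord])⟩
    · exact Or.inr ⟨φ t, φ s, Or.inl (by simp [b2ClassWord])⟩
    · exact Or.inr ⟨φ t, φ s, Or.inr (by simp [b2ClassWord])⟩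
  · change φ.mapMatrix (Units.val g) = _
    rw [hg, ChevalleyDatum.wordMat, ChevalleyDatum.wordMat, map_list_prod, List.map_map, List.map_map]
    congr 2
    funext p
    exact H65.X_map chevF4 φ p.1 p.2

theorem not_perfect {K : Type*} [Field K] [Fintype K] (hK : Fintype.card K = 2 ^ (2 * 0 + 1)) :
    commutator (twistedF4 K (2 ^ 0)) ≠ ⊤ := by
  intro h
  have : CharP K 2 := charP_of_card_eq_prime_pow hK
  let φ : ZMod 2 ≃+* K := ZMod.ringEquivOfPrime K Nat.prime_two hK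
  let f : twistedF4 K 1 →* twistedF4 (ZMod 2) 1 :=
    ((Matrix.GeneralLinearGroup.map φ.symm.toRingHom).comp (Subgroup.subtype _)).codRestrict _
      fun g => map_mem_F4 _ 1 g.2
  have hf : Function.Surjective f := fun g =>
    ⟨⟨_, map_mem_F4 φ.toRingHom 1 g.2⟩, Subtype.ext (Units.ext (by ext i j; simp [f]))⟩
  have h1 := map_commutator_eq (G := twistedF4 K 1) f
  rw [show commutator (twistedF4 K 1) = ⊤ from h, map_top_of_surjective _ hf,
    MonoidHom.range_eq_top.2 hf, ← commutator_def] at h1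
  have := H68.index_Tits
  rw [← h1, index_top] at this
  omega

theorem simple_of {G : Type*} [Group G] [Finite G] {τ : G} (hτ : orderOf τ = 2)
    {K : Type*} [Field K] [Fintype K] {m : ℕ} (hK : Fintype.card K = 2 ^ (2 * m + 1))
    {C : Subgroup G} (hCle : C ≤ centralizer ({τ} : Set G)) {ρ : ℕ} (hsimp : IsSimpleGroup G)
    (hna : ¬ IsMulCommutative G)
    (h : (1 ≤ m → oddCore G ≠ ⊥ ∨
        (oddCore G = ⊥ ∧ ∃ E : Subgroup G, E ≠ ⊥ ∧ E.Normal ∧ E ≤ C ⊓ centralizer (C : Set G)) ∨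
        (∃ N : Subgroup G, N.Normal ∧ N.index = ρ ∧ Nonempty (N ≃* twistedF4 K (2 ^ m)))) ∧
      (m = 0 → oddCore G ⊔ C = ⊤ ∨ Nonempty (G ≃* twistedF4 K (2 ^ m)))) :
    1 ≤ m ∧ Nonempty (G ≃* twistedF4 K (2 ^ m)) := by
  have hO : oddCore G = ⊥ := by
    refine (hsimp.eq_bot_or_eq_top_of_normal _ inferInstance).resolve_right fun h => ?_
    have h1 := H2.odd_card_oddCore G
    rw [h, card_top] at h1
    have := Odd.of_dvd_nat h1 (hτ ▸ orderOf_dvd_natCard τ)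
    exact absurd this (by decide)
  have hC : C ≠ ⊤ := fun h => by
    have h1 : τ ∈ center G := mem_center_iff.2 fun g =>
      mem_centralizer_singleton_iff.1 (hCle (h ▸ mem_top g))
    rcases hsimp.eq_bot_or_eq_top_of_normal (center G) inferInstance with h2 | h2
    · rw [h2, mem_bot] at h1; simp [h1] at hτ
    · exact hna ⟨⟨fun a b => (mem_center_iff.1 (h2 ▸ mem_top b) a)⟩⟩
  rcases Nat.eq_zero_or_pos m with rfl | hm
  · rcases h.2 rfl with h | ⟨⟨φ⟩⟩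
    · rw [hO, bot_sup_eq] at h; exact absurd h hC
    · refine absurd ?_ (not_perfect hK)
      have h1 : commutator G = ⊤ :=
        (hsimp.eq_bot_or_eq_top_of_normal _ inferInstance).resolve_left fun h =>
          hna ⟨⟨fun a b => commutatorElement_eq_one_iff_mul_comm.1
            (mem_bot.1 (h ▸ commutator_mem_commutator (mem_top a) (mem_top b)))⟩⟩
      have h2 := map_commutator_eq (G := G) φ.toMonoidHom
      rwa [h1, map_top_of_surjective _ φ.surjective, MonoidHom.range_eq_top.2 φ.surjective,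
        ← commutator_def, eq_comm] at h2
  refine ⟨hm, ?_⟩
  rcases h.1 hm with h | ⟨-, E, h1, h2, h3⟩ | ⟨N, h1, -, ⟨φ⟩⟩
  · exact absurd hO h
  · rw [(hsimp.eq_bot_or_eq_top_of_normal E h2).resolve_left h1] at h3
    exact absurd (top_le_iff.1 (h3.trans inf_le_left)) hC
  · rcases hsimp.eq_bot_or_eq_top_of_normal N h1 with rfl | rfl
    · have h2 := Nat.card_congr φ.toEquiv
      rw [card_bot, H68.card_F4 hK] at h2
      have h3 : 2 ∣ 1 := by
        rw [h2]; simp only [mul_assoc]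
        exact dvd_mul_of_dvd_left (dvd_pow (dvd_pow_self 2 (by omega)) (by omega)) _
      omega
    · exact ⟨topEquiv.symm.trans φ⟩

end H63.Oc.Asm
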