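/- Parrott's theorem: all the pieces. -/
import Cfsg.Agent.H63.OcAsm2
import Cfsg.Agent.H63.OcSp
import Cfsg.Agent.H14.OcBC
import Cfsg.Agent.H19.ParTYB
import Cfsg.Agent.H55.OcB
import Cfsg.Agent.H55.OcC
import Cfsg.Agent.H67.OcRig
import Cfsg.Agent.H62.ParTorA
import Cfsg.Agent.H66.ParT2
import Cfsg.Agent.H65.PaAM2
import Cfsg.Agent.H7.ParI
import Cfsg.Agent.H4.PaE2
import Cfsg.Agent.H49.OcCov
import Cfsg.Agent.H38.OcTC2
import Cfsg.Agent.H4.PaB2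
import Cfsg.Agent.H78.ParId
import Cfsg.Agent.H54.ParModel

set_option autoImplicit false

universe u v

namespace H63.Oc.Asm

theorem jobs : Jobs.{u, v} :=
  ⟨H14.Oc.jobBC, H14.Oc.jobBC, H55.Oc.jobBH, H19.ParTY.jobTY, H55.Oc.jobFU, H67.Oc.jobRig, SpP.jobSp,
    H14.Oc.jobEq, H14.Oc.jobEq, H14.Oc.jobEq, H62.Par.jobTorA, H66.Par.jobTorB, H65.PA.jobAM2, H7.Par.jobI,
    H4.Pa.jobE, H49.Oc.jobCov, H38.OcTC.jobTC2, H4.Pb.jobBr, H78.Par.jobId, H78.Par.jobId,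
    H54.Par.jobModel⟩

end H63.Oc.Asm
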