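import Cfsg.Agent.H63.Cusp1
import Cfsg.Agent.H33.PermChar
import Cfsg.Agent.H33.HallCompl
import Cfsg.Agent.H33.IndSpan
import Cfsg.Agent.S0164

/-! Green's theorem on the Brauer lift, and its Möbius inverse `D` as a generalized character. -/

set_option autoImplicit false
set_option linter.unusedSectionVars false

noncomputable section

namespace H63.Cusp

open Module Polynomial LinearMap H53 Finset Cfsg H28 MulAction
open scoped Classical ComplexConjugate

universe u

section Green

variable {K M G : Type*} [Field K] [Fintype K] [AddCommGroup M] [Module K M] [Finite M] [Group G]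

/-- the automorphism given by a representation -/
def req (σ : G →* End K M) (g : G) : M ≃ₗ[K] M :=
  GeneralLinearGroup.toLinearEquiv (σ.toHomUnits g)

theorem req_apply (σ : G →* End K M) (g : G) (v : M) : req σ g v = σ g v := rfl

theorem sim_rep (σ : G →* End K M) (g h : G) : Sim (σ g) (σ (h * g * h⁻¹)) :=
  ⟨req σ h, fun v => by
    rw [req_apply, req_apply, ← End.mul_apply, ← End.mul_apply, ← map_mul, ← map_mul,
      inv_mul_cancel_right]⟩

theorem exists_binom (N m : ℕ) : ∃ r : ℕ, (N + 1) ^ m = 1 + N * m + N ^ 2 * r := by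
  induction m with
  | zero => exact ⟨0, by simp⟩
  | succ m ih => obtain ⟨r, h⟩ := ih; exact ⟨m + r + N * r, by rw [pow_succ, h]; ring⟩

variable [Fintype G]

theorem green_cop (σ : G →* End K M) (θ : Kˣ →* ℂˣ) (hG : Nat.card G ∣ Nat.card Kˣ) :
    IsGeneralizedCharacter G fun g => ∑ c : Kˣ, (θ c : ℂ) * finrank K ((σ g).eigenspace c) := by
  let τ : G × Kˣ →* End K M :=
    { toFun γ := γ.2⁻¹ • σ γ.1
      map_one' := by simp
      map_mul' a b := by
        simp only [Prod.snd_mul, Prod.fst_mul, map_mul, Units.smul_def, smul_mul_smul_comm, mul_inv,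
          Units.val_mul] }
  let := MulAction.compHom M τ
  let m : G × Kˣ → ℕ := fun γ => finrank K ((σ γ.1).eigenspace γ.2)
  have hN : Nat.card K = Nat.card Kˣ + 1 := by
    rw [Nat.card_units]; have := Nat.card_pos (α := K); omega
  have hπ : IsCharacter (G × Kˣ) fun γ => ((Nat.card K ^ m γ : ℕ) : ℂ) := by
    convert isCharacter_perm (G := G × Kˣ) M with γ
    rw [← natCard_eq_pow_finrank]
    exact Nat.card_congr (Equiv.subtypeEquivRight fun v => End.mem_eigenspace_iff.trans
      (inv_smul_eq_iff (g := γ.2)).symm)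
  have hm : ∀ g h c, m (h * g * h⁻¹, c) = m (g, c) := fun g h c =>
    Nat.pow_right_injective (Finite.one_lt_card (α := K)) (Nat.cast_injective (R := ℂ)
      (by simpa using hπ.isClassFunction (g, c) (h, 1)))
  refine H28.Cfsg.IsClassFunction.isGeneralizedCharacter_of_int (fun g h => sum_congr rfl fun c _ =>
    congrArg (fun k : ℕ => (θ c : ℂ) * k) (hm g h c)) fun χ hχ => ?_
  let I : (G × Kˣ → ℂ) → ℂ := fun f => classInner (f * fun γ : G × Kˣ => (θ γ.2 : ℂ))
    fun γ => χ γ.1
  have h0 : (Nat.card Kˣ : ℂ) ≠ 0 := Nat.cast_ne_zero.2 Nat.card_pos.ne'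
  have h0' : (Nat.card G : ℂ) ≠ 0 := Nat.cast_ne_zero.2 Nat.card_pos.ne'
  have hI : ∀ f, I f = (Nat.card G * Nat.card Kˣ : ℂ)⁻¹ *
      ∑ γ : G × Kˣ, f γ * (θ γ.2 * conj (χ γ.1)) := fun f => by
    simp [I, classInner, mul_assoc]
  have hA : ∀ j, ∃ k : ℕ, I ((fun γ => ((Nat.card K ^ m γ : ℕ) : ℂ)) ^ j) = k := fun j => by
    have h1 : IsCharacter (G × Kˣ) fun γ => (θ γ.2 : ℂ) := isCharacter_of_hom (θ.comp (MonoidHom.snd G Kˣ))
    have h2 : IsCharacter (G × Kˣ) fun γ => χ γ.1 := hχ.isCharacter.comp (MonoidHom.fst G Kˣ)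
    exact ((hπ.pow j).mul h1).classInner_nat h2
  choose A hA using hA
  have hB : classInner (fun g => ∑ c : Kˣ, (θ c : ℂ) * finrank K ((σ g).eigenspace c)) χ =
      Nat.card Kˣ * I fun γ => m γ := by
    rw [hI, Fintype.sum_prod_type, classInner]
    simp only [sum_mul]
    field_simp
    exact sum_congr rfl fun g _ => sum_congr rfl fun c _ => by ring
  rw [hB]
  refine (IsIntegral.exists_int_iff_exists_rat ?_).1 ?_
  · choose r hr using exists_binom (Nat.card Kˣ)
    obtain ⟨k, hk⟩ := hG
    have : Nat.card Kˣ * (I fun γ => m γ) = A 1 - A 0 - k *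
        ∑ γ : G × Kˣ, (r (m γ) : ℂ) * ((θ γ.2 : ℂ) * conj (χ γ.1)) := by
      have hk' : (Nat.card Kˣ : ℂ) = Nat.card G * k := by rw [hk, Nat.cast_mul]
      rw [← hA, ← hA, hI, hI, hI]
      simp only [hN, hr, pow_one, pow_zero, Pi.one_apply]
      push_cast
      simp only [add_mul, sum_add_distrib, mul_assoc, ← mul_sum]
      field_simp
      rw [hk']; ring
    rw [this]
    exact ((isIntegral_natCast _).sub (isIntegral_natCast _)).sub ((isIntegral_natCast _).mul
      (IsIntegral.sum _ fun γ _ => (isIntegral_natCast _).mul (((isCharacter_of_hom θ).isIntegral _).mul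
        (hχ.isCharacter.conj.isIntegral _))))
  · let P := Lagrange.interpolate (range (finrank K M + 1)) (fun i => ((Nat.card K ^ i : ℕ) : ℚ)) (↑)
    have hP : ∀ γ, (m γ : ℂ) = ∑ j ∈ range (P.natDegree + 1),
        (P.coeff j : ℂ) * ((Nat.card K ^ m γ : ℕ) : ℂ) ^ j := fun γ => by
      have := Lagrange.eval_interpolate_at_node (s := range (finrank K M + 1))
        (v := fun i => ((Nat.card K ^ i : ℕ) : ℚ)) (↑) (fun i _ j _ h => Nat.pow_right_injective
          (Finite.one_lt_card (α := K)) (Nat.cast_injective h))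
        (mem_range.2 (Nat.lt_succ_of_le (show m γ ≤ _ from Submodule.finrank_le _)))
      rw [eval_eq_sum_range] at this
      exact_mod_cast congrArg (Rat.cast : ℚ → ℂ) this.symm
    refine ⟨Nat.card Kˣ * ∑ j ∈ range (P.natDegree + 1), P.coeff j * A j, ?_⟩
    push_cast
    simp only [← hA, hI, hP, sum_mul, mul_sum, Pi.pow_apply]
    rw [sum_comm]
    exact sum_congr rfl fun _ _ => sum_congr rfl fun _ _ => by ring

theorem rootMultiplicity_eq (f : End K M) (c : K) {j : ℕ} (hj : finrank K M ≤ j) :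
    f.charpoly.rootMultiplicity c = finrank K ((f ^ Nat.card K ^ j).eigenspace c) := by
  obtain ⟨p, _⟩ := CharP.exists K
  obtain ⟨n, hp, hn⟩ := FiniteField.card K p
  have := Fact.mk hp
  have h1 : (f - c • 1) ^ Nat.card K ^ j = f ^ Nat.card K ^ j - c • 1 := by
    have := congrArg (aeval f) (sub_pow_char_pow (X : K[X]) (C c) (n * j))
    rw [pow_mul, ← hn, ← C_pow, FiniteField.pow_card_pow, ← Nat.card_eq_fintype_card] at this
    simpa [Algebra.algebraMap_eq_smul_one] using this
  rw [← finrank_maxGenEigenspace_eq, End.maxGenEigenspace_eq_genEigenspace_finrank,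
    ← End.genEigenspace_eq_genEigenspace_finrank_of_le f c
      (hj.trans (Nat.lt_pow_self (Finite.one_lt_card (α := K))).le), End.genEigenspace_nat, h1,
    End.eigenspace_def]

/-- Green's theorem. -/
theorem green (σ : G →* End K M) (θ : Kˣ →* ℂˣ) {j : ℕ} (hG : Nat.card G ∣ Nat.card Kˣ * Nat.card K ^ j) :
    IsGeneralizedCharacter G fun g => ∑ c : Kˣ, (θ c : ℂ) * (σ g).charpoly.rootMultiplicity (c : K) := by
  have hN : Nat.card K = Nat.card Kˣ + 1 := by
    rw [Nat.card_units]; have := Nat.card_pos (α := K); omega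
  have hc : (Nat.card Kˣ).Coprime (Nat.card K ^ j) := (by rw [hN]; exact (Nat.coprime_self_add_right.2 (Nat.coprime_one_right _))
    : (Nat.card Kˣ).Coprime _).pow_right j
  refine Agent.S0164.result _ (fun g h => by rw [← (sim_rep σ g h).charpoly_eq]) fun E _ hq hE => ?_
  have hE' := (Subgroup.card_subgroup_dvd_card E).trans hG
  have hd : Nat.card K ^ j ∣ Nat.card K ^ (j + finrank K M) := pow_dvd_pow _ (by omega)
  let r : E →* E := MonoidHom.mk' (· ^ Nat.card K ^ (j + finrank K M))
    (H33.mul_pow_of_isElementary hq hE hc hE' (by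
      simpa only [one_pow] using (show Nat.card K ≡ 1 [MOD Nat.card Kˣ] by
        rw [hN]; exact Nat.add_modEq_left).pow _) hd)
  have := Fintype.ofFinite r.range
  convert (green_cop (σ.comp (E.subtype.comp r.range.subtype)) θ (Nat.Coprime.dvd_of_dvd_mul_right
    (Nat.coprime_of_dvd fun l hl h1 h2 => ?_) ((Subgroup.card_subgroup_dvd_card _).trans hE'))).comp
    r.rangeRestrict with g c
  · rw [rootMultiplicity_eq _ _ (Nat.le_add_left _ j), ← map_pow]; rfl
  · have := Fact.mk hl
    obtain ⟨⟨_, x, rfl⟩, hx⟩ := exists_prime_orderOf_dvd_card' l h1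
    refine hl.one_lt.ne' (Nat.eq_one_of_dvd_coprimes hc (hx ▸ orderOf_dvd_of_pow_eq_one (Subtype.ext ?_)) h2)
    exact (pow_mul x _ _).symm.trans (orderOf_dvd_iff_pow_eq_one.1 ((orderOf_dvd_natCard x).trans
      (hE'.trans (mul_comm (Nat.card Kˣ) _ ▸ mul_dvd_mul_left _ hd))))

theorem isGen_sum {X : Type*} [MulAction G X] [Fintype X] (f : G → X → ℂ)
    (h1 : ∀ a g y, f (a⁻¹ * g * a) y = f g (a • y)) (h2 : ∀ g y, g • y ≠ y → f g y = 0)
    (h3 : ∀ y, IsGeneralizedCharacter (stabilizer G y) fun h => f h y) :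
    IsGeneralizedCharacter G fun g => ∑ y, f g y := by
  have := Fintype.ofFinite (orbitRel.Quotient G X)
  convert isGeneralizedCharacter_sum univ fun (ω : orbitRel.Quotient G X) _ =>
    H33.isGeneralizedCharacter_indFun _ (h3 ω.out) using 1
  funext g
  rw [Finset.sum_apply, ← sum_fiberwise univ fun y : X => (Quotient.mk'' y : orbitRel.Quotient G X)]
  refine sum_congr rfl fun ω _ => ?_
  rw [H33.indFun_apply, sum_congr rfl (g := fun a : G => f g (a • ω.out)) fun a _ => ?_,
    H33.sum_smul_eq ω.out (f g), ← mul_assoc, inv_mul_cancel₀ (H33.natCard_ne_zero _), one_mul]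
  · refine sum_congr (filter_congr fun y _ => ?_) fun _ _ => rfl
    rw [← orbitRel_apply, ← Quotient.eq'', Quotient.out_eq']
  · by_cases h : a⁻¹ * g * a ∈ stabilizer G ω.out
    · rw [H33.ext0_of_mem _ _ h, h1]
    · rw [H33.ext0_of_not_mem _ _ h, ← h1, h2 _ _ h]

end Green

variable {F : Type u} [Field F] [Fintype F] {b : F[X] → ℂ}

theorem d_map {V W : Type u} [AddCommGroup V] [Module F V] [Finite V] [AddCommGroup W] [Module F W]
    [Finite W] {g : End F V} {g' : End F W} (e : V ≃ₗ[F] W) (he : ∀ v, e (g v) = g' (e v))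
    (U : Submodule F V) : d b g' (U.map e.toLinearMap) = d b g U := by
  by_cases h : Iv g U
  · rw [d, d, dif_pos h, ← d, ← d_eq (g := g') (ι := e.toLinearMap ∘ₗ U.subtype)
      (e.injective.comp U.injective_subtype) fun v => he v, range_comp, U.range_subtype]
  · rw [d_neg h, d_neg fun h' => h fun x hx => ?_]
    obtain ⟨y, hy, e'⟩ := h' _ ⟨x, hx, rfl⟩
    exact e.injective (e'.trans (he x).symm) ▸ hy

theorem isGen_D {N : ℕ} (hb : ∀ (G : Type u) [Group G] [Fintype G] (V : Type u) [AddCommGroup V]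
    [Module F V] [Finite V] (ρ : G →* End F V), Nat.card G ∣ N →
      IsGeneralizedCharacter G fun g => b (ρ g).charpoly) (n : ℕ) :
    ∀ {G : Type u} [Group G] [Fintype G] {V : Type u} [AddCommGroup V] [Module F V] [Finite V]
      (ρ : G →* End F V), finrank F V = n → Nat.card G ∣ N →
      IsGeneralizedCharacter G fun g => D b (ρ g) := by
  induction n using Nat.strong_induction_on with | _ n ih =>
  rintro G _ _ V _ _ _ ρ rfl hG
  let : MulAction G (Submodule F V) :=
    { smul g U := U.map (req ρ g).toLinearMap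
      one_smul U := (congrArg (U.map ·) (map_one ρ)).trans U.map_id
      mul_smul g h U := (congrArg (U.map ·) (map_mul ρ g h)).trans (U.map_comp ..) }
  simp only [D_eq (ρ _)]
  refine (hb G V ρ hG).sub (isGen_sum _ (fun a g U => if_congr (Submodule.map_eq_top_iff).symm rfl
    (d_map (req ρ a) (fun v => ?_) U).symm) (fun g U h => ?_) fun U => ?_)
  · rw [req_apply, req_apply, ← End.mul_apply, ← End.mul_apply, ← map_mul, ← map_mul, mul_assoc,
      mul_inv_cancel_left]
  · rw [d_neg (g := ρ g) fun h' => h (Submodule.eq_of_le_of_finrank_eq (Submodule.map_le_iff_le_comap.2 h')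
      ((req ρ g).finrank_map_eq U)), ite_self]
  split_ifs with hU
  · exact isGeneralizedCharacter_zero
  have hi : ∀ h : stabilizer G U, Iv (ρ h) U := fun h x hx => h.2.le ⟨x, hx, rfl⟩
  have := Fintype.ofFinite (stabilizer G U)
  convert ih _ (Submodule.finrank_lt hU) (G := stabilizer G U)
    { toFun h := (ρ h).restrict (hi h)
      map_one' := by ext; simp
      map_mul' _ _ := by ext; simp } rfl ((Subgroup.card_subgroup_dvd_card _).trans hG) using 2 with h
  exact dif_pos (hi h)

end H63.Cusp
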