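/- FS tower (S1144), chapter O8, slot G: the amalgam of the parabolic subgroups. -/
import Cfsg.Agent.H54.O8Kit

set_option autoImplicit false
set_option linter.unusedSectionVars false
set_option linter.unusedSimpArgs false

namespace H63.O8G

open H12.BN H63.Oc H54.Par H54.O8 Subgroup

variable {G : Type} [Group G] [Finite G] {x : MP 8 G} {K : Type} [Field K] [CharP K 2] {T : TF K}
  (Y : Y8 x T) {g g' : G} {a b : K}

/-- `n₁` -/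
noncomputable abbrev n1 : G := x.mu 1 (Y.X 1 1)
/-- `n₈` -/
noncomputable abbrev n8 : G := x.mu 8 (Y.X 8 1)

theorem od (k : ℤ) (h1 : 1 ≤ k := by omega) (h2 : k ≤ 9 := by omega) (h3 : k % 2 = 1 := by omega) :
    H21.BN.Co (Y.X k) (x.U k) := Y.od k h1 h2 h3

theorem ev (k : ℤ) (h1 : 0 ≤ k := by omega) (h2 : k ≤ 8 := by omega) (h3 : k % 2 = 0 := by omega) :
    H21.BN.Co (Y.X k) (V x k) := Y.ev k h1 h2 h3

theorem rf1 : Rf x 10 (n1 Y) := rf_mu ((od Y 1).mem' 1) ((od Y 1).ne_one one_ne_zero) 10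
theorem rf8 : Rf x 8 (n8 Y) := rf_mu ((ev Y 8).mem' 1).1 ((ev Y 8).ne_one one_ne_zero) 8

omit Y in
theorem mu_mem {i : ℤ} (h : g ∈ x.U i) (h1 : g ≠ 1) : x.mu i g ∈ iSup x.U :=
  mul_mem (mul_mem (le_iSup x.U _ (x.ka_mem h h1)) (le_iSup x.U _ h)) (le_iSup x.U _ (x.la_mem h h1))

theorem n1_mem : n1 Y ∈ iSup x.U := mu_mem ((od Y 1).mem' 1) ((od Y 1).ne_one one_ne_zero)
theorem n8_mem : n8 Y ∈ iSup x.U := mu_mem ((ev Y 8).mem' 1).1 ((ev Y 8).ne_one one_ne_zero)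

theorem fm_mem (c : Co T) : Y.fm c ∈ iSup x.U := by
  have k := fun i => le_iSup x.U i
  have y := fun i h1 h2 h3 t => k i (Y.y_mem i h1 h2 h3 t)
  exact mul_mem (mul_mem (mul_mem (mul_mem (mul_mem (mul_mem (mul_mem (k 1 ((od Y 1).mem' _))
    (mul_mem (y 2 (by omega) (by omega) (by omega) _) (k 2 ((ev Y 2).mem' _).1))) (k 3 ((od Y 3).mem' _)))
    (mul_mem (y 4 (by omega) (by omega) (by omega) _) (k 4 ((ev Y 4).mem' _).1))) (k 5 ((od Y 5).mem' _)))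
    (mul_mem (y 6 (by omega) (by omega) (by omega) _) (k 6 ((ev Y 6).mem' _).1))) (k 7 ((od Y 7).mem' _)))
    (mul_mem (y 8 (by omega) (by omega) (by omega) _) (k 8 ((ev Y 8).mem' _).1))

theorem X0 : Y.X 1 0 = 1 ∧ Y.X 2 0 = 1 ∧ Y.X 3 0 = 1 ∧ Y.X 4 0 = 1 ∧ Y.X 5 0 = 1 ∧ Y.X 6 0 = 1 ∧
    Y.X 7 0 = 1 ∧ Y.X 8 0 = 1 :=
  ⟨(od Y 1).zero, (ev Y 2).zero, (od Y 3).zero, (ev Y 4).zero, (od Y 5).zero, (ev Y 6).zero,
    (od Y 7).zero, (ev Y 8).zero⟩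

theorem tor_fm (ha : a ≠ 0) (hb : b ≠ 0) (h : H54.O8.Tor x T Y.X g a b) (c : Co T) :
    g⁻¹ * Y.fm c * g = Y.fm (dg T a b c) := by
  have k := Y.y_tor g a b ha hb h
  simp only [Y8.fm, dg, ← h.t1, ← h.t2, ← h.t3, ← h.t4, ← h.t5, ← h.t6, ← h.t7, ← h.t8,
    ← (k _).1, ← (k _).2.1, ← (k _).2.2.1, ← (k _).2.2.2]
  simp only [mul_assoc, mul_inv_cancel_left]

omit Y in
theorem cj3 {n : G} (h : n⁻¹ = n) (g u : G) :
    (n * g * n)⁻¹ * u * (n * g * n) = n * (g⁻¹ * (n * u * n) * g) * n := by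
  simp only [mul_inv_rev, h, mul_assoc]

omit Y in
theorem flip {n u v : G} (h : n⁻¹ = n) (e : n⁻¹ * u * n = v) : n * u * n = v ∧ n * v * n = u :=
  ⟨by rw [← e, h], by rw [← e]; nth_rw 3 [← h]; group⟩

variable (A : A8 x)
include A

theorem i1 : (n1 Y)⁻¹ = n1 Y := (A.muU ((od Y 1).mem' 1) ((od Y 1).ne_one one_ne_zero)).2.1
theorem i8 : (n8 Y)⁻¹ = n8 Y := (A.muV ((ev Y 8).mem' 1) ((ev Y 8).ne_one one_ne_zero)).2.1

theorem c1 (j k : ℤ) (t : K) (h : j + k = 10 ∧ 1 ≤ j ∧ 1 ≤ k ∧ j ≠ 5 := by omega) :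
    n1 Y * Y.X j t * n1 Y = Y.X k t := (flip (i1 Y A) (Y.n1 j k h.1 h.2.1 h.2.2.1 h.2.2.2 t)).1

theorem c8 (j k : ℤ) (t : K) (h : j + k = 8 ∧ 0 ≤ j ∧ 0 ≤ k := by omega) :
    n8 Y * Y.X j t * n8 Y = Y.X k t := (flip (i8 Y A) (Y.n8 j k h.1 h.2.1 h.2.2 t)).1

theorem tor_n1 (ha : a ≠ 0) (hb : b ≠ 0) (h : H54.O8.Tor x T Y.X g a b) :
    H54.O8.Tor x T Y.X (n1 Y * g * n1 Y) a⁻¹ (a * b) := by
  have s := (map_ne_zero T.σ).2 ha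
  refine Y.tor_of _ _ _ (inv_ne_zero ha) (mul_ne_zero ha hb) (i1 Y A ▸ (rf1 Y).nk h.nk :) (fun t => ?_) ?_
  · rw [cj3 (i1 Y A), c1 Y A 4 6, h.t6, c1 Y A 6 4, map_mul, map_inv₀]
    congr 1; field_simp
  · rw [cj3 (i1 Y A), c1 Y A 6 4, h.t4, c1 Y A 4 6, map_mul, map_inv₀]
    congr 1; field_simp

theorem tor_n8 (ha : a ≠ 0) (hb : b ≠ 0) (h : H54.O8.Tor x T Y.X g a b) :
    H54.O8.Tor x T Y.X (n8 Y * g * n8 Y) (a * (b ^ 2 * T.σ b)) b⁻¹ := by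
  have s := (map_ne_zero T.σ).2 hb
  refine Y.tor_of _ _ _ (mul_ne_zero ha (mul_ne_zero (pow_ne_zero 2 hb) s)) (inv_ne_zero hb)
    (i8 Y A ▸ (rf8 Y).nk h.nk :) (fun t => ?_) ?_
  · rw [cj3 (i8 Y A), c8 Y A 4 4, h.t4, c8 Y A 4 4, map_mul, map_mul, map_pow, T.sq, map_inv₀]
    congr 1; field_simp
  · rw [cj3 (i8 Y A), c8 Y A 6 2, h.t2, c8 Y A 2 6, map_mul, map_mul, map_pow, T.sq, map_inv₀]
    congr 1; field_simp

theorem rank1 : (n1 Y * Y.X 1 1) ^ 3 = 1 := by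
  have h1 := (od Y 1).mem' 1
  have h2 := (od Y 1).ne_one one_ne_zero
  have h3 := ka_mem h1 h2 9
  obtain ⟨k1, k2, k3⟩ := ka_ka h1 h2 9
  have h4 := A.sqU 1 rfl _ h1
  have e1 : n1 Y = x.ka 1 (Y.X 1 1) * Y.X 1 1 * x.ka 1 (Y.X 1 1) := by
    rw [n1, MP.mu, (A.muU h1 h2).1, inv_of_sq (A.sqU 9 rfl _ h3)]
  have e2 : n1 Y = Y.X 1 1 * x.ka 1 (Y.X 1 1) * Y.X 1 1 := by
    rw [n1, ← k3, MP.mu, ← inv_inv (x.ka 9 _), ← (A.muU h3 k1).1, k2, inv_of_sq h4]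
  calc _ = (Y.X 1 1 * x.ka 1 (Y.X 1 1)) ^ 3 := by rw [e2, mul_assoc, h4, mul_one]
    _ = n1 Y * n1 Y := by nth_rw 1 [e2]; rw [e1]; simp only [pow_succ, pow_zero, one_mul, mul_assoc]
    _ = 1 := (A.muU h1 h2).2.2

theorem braid : (n1 Y * n8 Y) ^ 8 = 1 := by
  have o := fun k h1 h2 h3 => (od Y k h1 h2 h3).ne_one one_ne_zero
  have e7 := ((rf8 Y).mu ((od Y 1).mem' 1) ((od Y 1).ne_one one_ne_zero) 7).2.2
  have e3 := ((rf1 Y).mu ((od Y 7).mem' 1) ((od Y 7).ne_one one_ne_zero) 3).2.2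
  have e5 := ((rf8 Y).mu ((od Y 3).mem' 1) ((od Y 3).ne_one one_ne_zero) 5).2.2
  have e := ((rf1 Y).mu ((od Y 5).mem' 1) ((od Y 5).ne_one one_ne_zero) 5).2.2
  rw [Y.n15, i1 Y A] at e
  rw [i8 Y A, c8 Y A 1 7] at e7
  rw [i1 Y A, c1 Y A 7 3, e7] at e3
  rw [i8 Y A, c8 Y A 3 5, e3] at e5
  rw [← (A.muU ((od Y 5).mem' 1) ((od Y 5).ne_one one_ne_zero)).2.2]
  nth_rw 1 [e]
  rw [e5]
  simp only [pow_succ, pow_zero, one_mul, mul_assoc]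

variable (H : Y.Hom)
include H

omit A in
theorem all {P : G → Prop} (h : ∀ c, P (Y.fm c)) (h1 : ∀ u, P u → P ((n1 Y)⁻¹ * u * n1 Y))
    (h8 : ∀ u, P u → P ((n8 Y)⁻¹ * u * n8 Y)) (k : ℤ) : ∀ u ∈ x.U k, P u := by
  have r : ∀ {s n}, Rf x s n → (∀ u, P u → P (n⁻¹ * u * n)) → ∀ j k, j + k = s →
      (∀ u ∈ x.U j, P u) → ∀ u ∈ x.U k, P u := fun r h j k e h' u hu => by
    simpa [mul_assoc] using h _ (h' _ (r.inv.U hu j))
  have b : ∀ j : ℕ, 1 ≤ j → j ≤ 8 → ∀ u ∈ x.U j, P u := fun j h1 h2 u hu => by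
    obtain ⟨b, a, rfl⟩ := (H.mem j h1 h2 u).1 hu
    exact h _
  rcases Int.emod_two_eq_zero_or_one k with e | e
  · exact ind2 (j := 2) (r (rf1 Y) h1) (r (rf8 Y) h8) (b 2 (by omega) (by omega)) k
  · exact ind2 (j := 1) (r (rf1 Y) h1) (r (rf8 Y) h8) (b 1 (by omega) (by omega)) k

omit A in
theorem uniq (S : IsSimpleGroup (iSup x.U : Subgroup G)) (h1 : g ∈ iSup x.U) (h2 : g' ∈ iSup x.U)
    (h3 : Nk x g) (h4 : Nk x g') (h : ∀ c, g⁻¹ * Y.fm c * g = g'⁻¹ * Y.fm c * g') : g = g' := by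
  have n := h3.mul h4.inv
  have m := mul_mem h1 (inv_mem h2)
  have e : ∀ c, (g * g'⁻¹)⁻¹ * Y.fm c * (g * g'⁻¹) = Y.fm c := fun c => by
    calc _ = g' * (g⁻¹ * Y.fm c * g) * g'⁻¹ := by group
      _ = _ := by rw [h]; group
  rw [← mul_inv_eq_one]
  generalize g * g'⁻¹ = z at *
  have e1 := (n.mu ((od Y 1).mem' 1) ((od Y 1).ne_one one_ne_zero)).2.2
  have e8 := (n.mu ((ev Y 8).mem' 1).1 ((ev Y 8).ne_one one_ne_zero)).2.2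
  rw [show z⁻¹ * Y.X 1 1 * z = Y.X 1 1 by simpa [Y8.fm, x1, X0 Y, Y.y_zero] using e (x1 T 1)] at e1
  rw [show z⁻¹ * Y.X 8 1 * z = Y.X 8 1 by simpa [Y8.fm, x8, X0 Y, Y.y_zero] using e (x8 T 1)] at e8
  have r : ∀ {n}, n = z⁻¹ * n * z → ∀ u, z⁻¹ * u * z = u → z⁻¹ * (n⁻¹ * u * n) * z = n⁻¹ * u * n :=
    fun {n} e u hu => by
      conv_rhs => rw [e, ← hu]
      group
  have c : iSup x.U ≤ centralizer {z} := iSup_le fun k u hu => mem_centralizer_singleton_iff.2 (by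
    rw [← mul_inv_cancel_left z (u * z), ← mul_assoc z⁻¹, all Y H e (r e1) (r e8) k u hu])
  rcases S.eq_bot_or_eq_top_of_normal (center _) inferInstance with k | k
  · exact congrArg Subtype.val (mem_bot.1 (k ▸ mem_center_iff.2 fun u =>
      Subtype.ext (mem_centralizer_singleton_iff.1 (c u.2)) : (⟨z, m⟩ : (iSup x.U : Subgroup G)) ∈ ⊥))
  · have := congrArg Subtype.val (mem_center_iff.1 (k.ge (mem_top ⟨_, n8_mem Y⟩))
      ⟨_, le_iSup x.U 1 ((od Y 1).mem' 1)⟩)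
    refine absurd (x.disj 1 _ ((od Y 1).mem' 1) (toI (k := 7) ?_)) ((od Y 1).ne_one one_ne_zero)
    simpa [mul_assoc, show Y.X 1 1 * n8 Y = n8 Y * Y.X 1 1 from this] using (rf8 Y).U ((od Y 1).mem' 1) 7

omit A in
theorem fm_one : Y.fm 1 = 1 := map_one (MonoidHom.mk' Y.fm H.mul)

omit A in
theorem conj_fm {n : G} (h : n⁻¹ = n) {Q : Subgroup (Co T)} {ν : Co T → Co T} (h1 : ν 1 = 1)
    (h2 : ∀ {c d}, c ∈ Q → d ∈ Q → ν (c * d) = ν c * ν d) {c : Co T} (h3 : ∀ k < 12,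
      gn T k (H54.Par.co k c) ∈ Q ∧
        n * Y.fm (gn T k (H54.Par.co k c)) * n = Y.fm (ν (gn T k (H54.Par.co k c)))) :
    n * Y.fm c * n = Y.fm (ν c) :=
  (mem_of_gn
    { carrier := {c | c ∈ Q ∧ n * Y.fm c * n = Y.fm (ν c)}
      one_mem' := ⟨one_mem _, by
        rw [h1, fm_one Y H, mul_one]; nth_rw 1 [← h]; exact inv_mul_cancel n⟩
      mul_mem' := fun hc hd => ⟨mul_mem hc.1 hd.1, by
        rw [h2 hc.1 hd.1, H.mul, H.mul, ← hc.2, ← hd.2]; nth_rw 5 [← h]; group⟩ } c h3).2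

theorem n8_conj (D : D8 x) {c : Co T} (hc : c ∈ sQ T) : n8 Y * Y.fm c * n8 Y = Y.fm c.nu8 := by
  have h1 := (ev Y 8).mem' 1
  have h2 := (ev Y 8).ne_one one_ne_zero
  have y4 : ∀ t, n8 Y * Y.y 4 t * n8 Y = Y.y 4 t := fun t => by
    have m := Y.y_mem 4 (by omega) (by omega) (by omega) t
    have k : Commute (Y.y 4 t) _ := D.k4 8 4 rfl (.inr rfl) _ h1 h2 _ m
    have : Commute (Y.y 4 t) (n8 Y) := by
      rw [n8, MP.mu, (A.muV h1 h2).1]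
      exact (k.mul_right (V.cm h1 m)).mul_right k.inv_right
    rw [← this.eq, mul_assoc, (A.muV h1 h2).2.2, mul_one]
  refine conj_fm Y H (i8 Y A) (Q := sQ T) (by ext <;> simp [Co.nu8]) nu8_mul fun k hk => ?_
  have y2 := fun t => flip (i8 Y A) (Y.y62 t)
  have q1 : c.b8 = 0 := hc.1
  have q2 : c.a8 = 0 := hc.2
  interval_cases k <;> simp [mem_sQ, gn, H54.Par.co, Y8.fm, Co.nu8, X0 Y, Y.y_zero, q1, q2, y4, y2,
    c8 Y A 1 7, c8 Y A 7 1, c8 Y A 2 6, c8 Y A 6 2, c8 Y A 3 5, c8 Y A 5 3, c8 Y A 4 4, (A.muV h1 h2).2.2]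

theorem n1_conj {c : Co T} (hc : c ∈ sQ1 T) : n1 Y * Y.fm c * n1 Y = Y.fm c.nu1 := by
  refine conj_fm Y H (i1 Y A) (Q := sQ1 T) (by ext <;> simp [Co.nu1]) nu1_mul fun k hk => ?_
  have y2 := fun t => flip (i1 Y A) (Y.y28 t)
  have y6 := fun t => flip (i1 Y A) (Y.y64 t)
  have x5 := fun t => flip (i1 Y A) (Y.n15 t)
  have q1 : c.a1 = 0 := hc
  interval_cases k <;> simp [mem_sQ1, gn, H54.Par.co, Y8.fm, Co.nu1, X0 Y, Y.y_zero, q1, y2, y6, x5,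
    c1 Y A 2 8, c1 Y A 8 2, c1 Y A 3 7, c1 Y A 7 3, c1 Y A 4 6, c1 Y A 6 4,
    (A.muU ((od Y 1).mem' 1) ((od Y 1).ne_one one_ne_zero)).2.2]

theorem exists_h (S : IsSimpleGroup (iSup x.U : Subgroup G)) : ∃ h : Kˣ × Kˣ →* G,
    (∀ p, h p ∈ iSup x.U ∧ H54.O8.Tor x T Y.X (h p)⁻¹ p.1 p.2) ∧
    ∀ (p : Kˣ × Kˣ) g, g ∈ iSup x.U → H54.O8.Tor x T Y.X g⁻¹ p.1 p.2 → g = h p := by
  choose g g1 g2 using fun p : Kˣ × Kˣ => Y.tor_ex p.1 p.2 p.1.ne_zero p.2.ne_zero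
  have t := fun p => tor_fm Y p.1.ne_zero p.2.ne_zero (g2 p)
  refine ⟨.mk' (fun p => (g p)⁻¹) fun p p' => ?_, fun p => ⟨inv_mem (g1 p), by simpa using g2 p⟩,
    fun p k k1 k2 => inv_injective (uniq Y H S (inv_mem k1) (by simpa using g1 p) k2.nk
      (by simpa using (g2 p).nk) fun c => by
        simpa using (tor_fm Y p.1.ne_zero p.2.ne_zero k2 c).trans (t p c).symm)⟩
  rw [← mul_inv_rev, inv_inj]
  refine uniq Y H S (g1 _) (mul_mem (g1 p') (g1 p)) (g2 _).nk ((g2 p').nk.mul (g2 p).nk) fun c => ?_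
  rw [t, Prod.fst_mul, Prod.snd_mul, Units.val_mul, Units.val_mul, ← dg_dg, ← t, ← t]
  group

omit A H in
theorem exists_T0 (n : Nk x g) (h : ∀ t, g⁻¹ * Y.X 4 t * g = Y.X 4 t) :
    ∃ p : T0 T, H54.O8.Tor x T Y.X g p.1.1 p.1.2 := by
  obtain ⟨s, hs⟩ := ((ev Y 6).mem _).1 (n.V ((ev Y 6).mem' 1))
  have s0 : s ≠ 0 := by
    rintro rfl
    exact cj_ne ((ev Y 6).ne_one one_ne_zero) g (hs.trans (ev Y 6).zero)
  have s1 := (map_ne_zero T.σ).2 s0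
  have s2 : s ^ 2 / T.σ s ≠ 0 := div_ne_zero (pow_ne_zero 2 s0) s1
  have e : chi4 T s⁻¹ (s ^ 2 / T.σ s) = 1 := by
    rw [chi4, map_inv₀, map_div₀, map_pow, T.sq]; field_simp
  refine ⟨⟨(.mk0 _ (inv_ne_zero s0), .mk0 _ s2), e⟩, Y.tor_of _ s⁻¹ (s ^ 2 / T.σ s) (inv_ne_zero s0)
    s2 n (fun t => by rw [h, ← chi4, e, one_mul]) ?_⟩
  rw [hs, map_inv₀, map_div₀, map_pow, T.sq]
  congr 1; field_simp

omit A H in
theorem jobG : JobG := fun G _ _ x _ A D K _ _ _ T Y H S => by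
  obtain ⟨h, h1, h2⟩ := exists_h Y A H S
  have hc : ∀ (p : Kˣ × Kˣ) c, h p * Y.fm c * (h p)⁻¹ = Y.fm (dg T p.1 p.2 c) := fun p c => by
    simpa using tor_fm Y p.1.ne_zero p.2.ne_zero (h1 p).2 c
  have h8 : ∀ p, n8 Y * h p * n8 Y = h (w8 T p) := fun p =>
    h2 _ _ (mul_mem (mul_mem (n8_mem Y) (h1 p).1) (n8_mem Y)) (by
      simpa [i8 Y A, w8, mul_assoc] using tor_n8 Y A p.1.ne_zero p.2.ne_zero (h1 p).2)
  have u8 : ∀ g ∈ x.U 8, ∃ u ∈ sU8 T, g = Y.fm u := fun g hg => by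
    obtain ⟨b, a, e⟩ := (H.mem 8 (by omega) le_rfl g).1 hg
    exact ⟨_, by simp [mem_sU8, blk], e⟩
  refine ⟨{
    ι := .mk' Y.fm H.mul
    inj := H.inj
    n8 := n8 Y
    h0 := h.comp (T0 T).subtype
    h0_conj := fun p => hc p
    n8_sq := (A.muV ((ev Y 8).mem' 1) ((ev Y 8).ne_one one_ne_zero)).2.2
    n8_conj := fun c => n8_conj Y A H D
    n8_h0 := fun p => (h8 p).trans ((congrArg h ?_).trans (map_inv h p.1))
    rank8 := fun u hu u1 => ?_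
    h := h
    n1 := n1 Y
    tor := ⟨fun _ => rfl, hc, h8⟩
    n1_sq := (A.muU ((od Y 1).mem' 1) ((od Y 1).ne_one one_ne_zero)).2.2
    n1_conj := fun c => n1_conj Y A H
    n1_h := fun p => h2 _ _ (mul_mem (mul_mem (n1_mem Y) (h1 p).1) (n1_mem Y)) (by
      simpa [i1 Y A, w1, mul_assoc] using tor_n1 Y A p.1.ne_zero p.2.ne_zero (h1 p).2)
    rank1 := by simpa [Y8.fm, x1, X0 Y, Y.y_zero] using rank1 Y A }, braid Y A,
    le_antisymm ((closure_le _).2 ?_) (iSup_le fun k => all Y H (P := (· ∈ _)) ?_ ?_ ?_ k)⟩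
  · obtain ⟨⟨a, b⟩, e⟩ := p
    refine Prod.ext (eq_inv_of_mul_eq_one_left (Units.ext ?_)) rfl
    have e1 : (a : K) ^ 2 * T.σ a * (b ^ 3 * T.σ b ^ 2) = 1 := e
    have e2 := congrArg T.σ e1
    simp only [map_mul, map_pow, T.sq, map_one] at e2
    change (a : K) * (b ^ 2 * T.σ b) * a = 1
    linear_combination ((a : K) ^ 2 * T.σ a * (b ^ 3 * T.σ b ^ 2) + 1) * e1 -
      (a : K) * (b ^ 2 * T.σ b) * a * e2
  · have m : Y.fm u ∈ x.U 8 := (H.mem 8 (by omega) le_rfl _).2 ⟨u.b8, u.a8, congrArg _ (by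
      obtain ⟨k1, k2, k3, k4, k5, k6, k7, k8, k9, k10⟩ := (mem_sU8 T).1 hu
      ext <;> simp [blk, *])⟩
    have m0 := (rf8 Y).U m 0
    have m1 := cj_ne (fun e => u1 (H.inj (e.trans (fm_one Y H).symm))) (n8 Y)
    rw [i8 Y A] at m0 m1
    obtain ⟨u', k1, k2⟩ := u8 _ (inv_mem (ka_mem m0 m1 8))
    obtain ⟨u'', k3, k4⟩ := u8 _ (inv_mem (la_mem m0 m1 8))
    obtain ⟨p, hp⟩ := exists_T0 Y ((rf_mu m0 m1 8).mul (rf8 Y)).inv fun t => by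
      rw [inv_inv, mul_inv_rev, ← mul_assoc, mul_assoc _ (n8 Y), mul_assoc _ (n8 Y * _), i8 Y A,
        c8 Y A 4 4, mul_inv_eq_iff_eq_mul, ← mul_inv_cancel_left (x.mu 0 _) (Y.X 4 t * _),
        ← mul_assoc _ (Y.X 4 t), mu_cmV m0 m1 ((ev Y 4).mem' t)]
    refine ⟨u', k1, u'', k3, p, ?_⟩
    change n8 Y * Y.fm u * n8 Y = Y.fm u' * h p * n8 Y * Y.fm u''
    rw [← h2 p _ (mul_mem (mu_mem m0 m1) (n8_mem Y)) hp, ← k2, ← k4, MP.mu]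
    generalize n8 Y * Y.fm u * n8 Y = w
    nth_rw 2 [← i8 Y A]
    group
  · rintro _ ((⟨c, rfl⟩ | ⟨p, rfl⟩) | rfl | rfl)
    exacts [fm_mem Y c, (h1 p).1, n1_mem Y, n8_mem Y]
  · exact fun c => subset_closure (.inl (.inl ⟨c, rfl⟩))
  · exact fun u hu => mul_mem (mul_mem (inv_mem (subset_closure (.inr (.inl rfl)))) hu)
      (subset_closure (.inr (.inl rfl)))
  · exact fun u hu => mul_mem (mul_mem (inv_mem (subset_closure (.inr (.inr rfl)))) hu)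
      (subset_closure (.inr (.inr rfl)))

end H63.O8G
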