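import Cfsg.Agent.H9.CKASpec
import Cfsg.Agent.S2244

/-! CKS (S2193), slot CCh: condition (C) for the exceptional Chevalley groups. -/

set_option autoImplicit false

namespace H63.CKC

open Cfsg Cfsg.Lie H63 H64 H67 H9.CK Cfsg.Agent.S2244
open scoped commutatorElement

section
variable {D : ChevalleyDatum} [RS D] {F : Type*} [Field F] {G : Type*} [Group G] {x : ℕ → F → G}
  {big : Bool} {L : List (ℕ × ℕ × ℕ)}

theorem of_wc (h : StB D x) (hA : wcA D big L = true) (h2 : ∃ a : F, a ≠ 0 ∧ a ≠ 1)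
    (h3 : big = true → ∃ a b : F, a ≠ 0 ∧ a ≠ 1 ∧ b ≠ 0 ∧ b ≠ 1 ∧ a ≠ b)
    (b : Rt D) (hb : Pos b) (hbs : ∀ k, b ≠ simpleR k) (s : F) : x b s ∈ ⁅h.rgd.U, h.rgd.U⁆ := by
  obtain ⟨A, _, π, h4, h5⟩ := exists_ab_fun (Q := h.rgd.U) le_rfl fun q hq m hm =>
    H98.conj_mem_of_mem_normalizer (H98.le_normalizer_commutator Subgroup.le_normalizer
      Subgroup.le_normalizer hq) hm
  refine (h5 _ (le_gen (XR D x) (S := {r | Pos r}) hb (x_mem_XR D x b s))).1
    (wc_nonsimple h hA h2 h3 ∅ π (by rwa [RGD.UJ_empty]) (by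
      rw [RGD.UJ_empty]
      exact fun a ha => (h5 a (Subgroup.commutator_le_self _ ha)).2 ha) b hb (fun hJ => ?_) hbs s)
  exact rt_ne_zero b (funext fun k => H64.mem_PhiJ_iff.1 hJ k id)

theorem of_one (h : StB D x) (hA : wcA D big L = true)
    (hL : L.all (fun p => decide ((D.commTerms p.2.1 p.2.2).length = 1)) = true)
    (b : Rt D) (hb : Pos b) (hbs : ∀ k, b ≠ simpleR k) (s : F) : x b s ∈ ⁅h.rgd.U, h.rgd.U⁆ := by
  simp only [wcA, Bool.and_eq_true, List.all_eq_true, List.mem_range, Bool.or_eq_true,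
    Bool.not_eq_true', decide_eq_false_iff_not, List.any_eq_true, decide_eq_true_eq] at hA hL
  obtain ⟨⟨b', r, s'⟩, hp, hpb⟩ : ∃ p ∈ L, p.1 = b := by
    rcases hA.2 b b.2 with (h1 | ⟨i, hi, h1⟩) | h1
    · exact absurd ((isPosRoot_iff b).2 hb) h1
    · exact absurd (Fin.ext h1.symm) (hbs ⟨i, hi⟩)
    · exact h1
  have hc := hA.1 _ hp
  obtain ⟨y, hy⟩ := List.length_eq_one_iff.1 (hL _ hp)
  simp only at hpb hy
  subst hpb
  simp only [wcOne, Bool.and_eq_true, decide_eq_true_eq, hy] at hc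
  obtain ⟨⟨⟨hr, hs⟩, hrs⟩, hc⟩ := hc
  obtain ⟨r, rfl⟩ : ∃ r' : Rt D, (r' : ℕ) = r := ⟨⟨r, hr.1⟩, rfl⟩
  obtain ⟨s', rfl⟩ : ∃ r' : Rt D, (r' : ℕ) = s' := ⟨⟨s', hs.1⟩, rfl⟩
  rw [isPosRoot_iff] at hr hs
  obtain ⟨c, rfl, hc1⟩ : ∃ c : ℤ, y = (b.1, c, 1, 1) ∧ c * c = 1 := by
    rw [List.filter_singleton] at hc
    cases e : decide (y.1 ≤ b.1) <;> rw [e] at hc
    · simp at hc
    · obtain ⟨y1, c, i, j⟩ := y
      split at hc
      · rename_i e'
        simp only [cond_true, List.cons.injEq, Prod.mk.injEq, and_true] at e'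
        simp only [Bool.and_eq_true, decide_eq_true_eq] at hc
        obtain ⟨rfl, rfl, rfl, rfl⟩ := e'
        exact ⟨_, by rw [hc.1], hc.2⟩
      all_goals simp_all
  have e := h.toSt.commutator_eq (r := r) (s := s') (fun e => hrs (congrArg _ e))
    (fun e => by rw [e, pos_negR] at hs; exact hs hr) (-c) s
  have hc' : (c : F) * c = 1 := by rw [← Int.cast_mul, hc1, Int.cast_one]
  simp only [ChevalleyDatum.commWord, hy, List.map_cons, List.map_nil, wd_cons, wd_nil, neg_neg,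
    pow_one, hc', one_mul, mul_one] at e
  rw [← e]
  exact Subgroup.commutator_mem_commutator
    (le_gen (XR D x) (S := {r | Pos r}) hs (x_mem_XR D x _ _))
    (le_gen (XR D x) (S := {r | Pos r}) hr (x_mem_XR D x _ _))

end

theorem hasC (D : ChevalleyDatum) [RS D] [H65.Tab D] [H65.Comm D] (p : ℕ) [Fact p.Prime] (F : Type)
    [Field F] [Finite F] [CharP F p]
    (h : ∀ b : Rt D, Pos b → (∀ k, b ≠ simpleR k) → ∀ s : F, H65.xU D F b s ∈
      ⁅(H68.stB_xU (D := D) (K := F)).rgd.U, (H68.stB_xU (D := D) (K := F)).rgd.U⁆) :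
    HasC p (D.group F) := by
  refine ⟨H54.lieChev D F p, fun r hr hs g hg => ?_⟩
  obtain ⟨t, ht⟩ := (H54.mem_lieChev_X D F p).1 hg
  have e : (H54.lieChev D F p).T.U.map (D.group F).subtype = (H68.stB_xU (D := D) (K := F)).rgd.U := by
    have e1 := H54.grdRes_U (H54.ofRGD (H68.mat D F).T) (D.group F) H68.mat_Gp.symm
    have e2 : (H54.ofRGD (H68.mat D F).T).U ≤ D.group F :=
      (H54.ofRGD (H68.mat D F).T).U_le_Gp.trans H68.mat_Gp.le
    exact (congrArg (Subgroup.map (D.group F).subtype) e1).trans (Subgroup.map_subgroupOf_eq_of_le e2)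
  have h1 := h r hr hs t
  rw [← e, ← Subgroup.map_commutator, ← ht] at h1
  obtain ⟨y, hy, e'⟩ := h1
  exact Subtype.ext e' ▸ hy

theorem wcA_F4' : wcA chevF4 false [(26, 24, 25), (28, 25, 27), (29, 24, 28), (30, 27, 25),
    (31, 24, 30), (32, 25, 31), (34, 27, 33), (35, 25, 34), (36, 24, 35), (37, 27, 35), (38, 24, 37),
    (39, 25, 38), (40, 27, 39), (41, 33, 30), (42, 24, 41), (43, 25, 42), (44, 27, 43), (45, 27, 43),
    (46, 25, 45), (47, 24, 46)] = true := by decide +kernel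

theorem jobCCh : JobCCh := fun p _ F _ _ _ => by
  classical
  have key : ∀ S : Finset F, S.card < Fintype.card F → ∃ a, a ∉ S := fun S hS => by
    by_contra! e
    rw [Finset.eq_univ_of_forall e, Finset.card_univ] at hS
    exact lt_irrefl _ hS
  have k2 (h : 3 ≤ Fintype.card F) : ∃ a : F, a ≠ 0 ∧ a ≠ 1 := by
    simpa using key {0, 1} (lt_of_le_of_lt Finset.card_le_two h)
  refine ⟨fun h => ?_, fun h => ?_, ?_, ?_, ?_⟩
  · obtain ⟨_, _, _⟩ := H65.of_mem (D := chevG2) (by simp)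
    obtain ⟨a, ha⟩ := k2 (by omega)
    obtain ⟨b, hb⟩ := key {0, 1, a} (lt_of_le_of_lt Finset.card_le_three h)
    simp only [Finset.mem_insert, Finset.mem_singleton, not_or] at hb
    exact hasC _ p F (of_wc _ wcA_G2 ⟨a, ha⟩ fun _ => ⟨a, b, ha.1, ha.2, hb.1, hb.2.1, Ne.symm hb.2.2⟩)
  · obtain ⟨_, _, _⟩ := H65.of_mem (D := chevF4) (by simp)
    exact hasC _ p F (of_wc _ wcA_F4' (k2 h) (by simp))
  · obtain ⟨_, _, _⟩ := H65.of_mem (D := chevE6) (by simp)
    exact hasC _ p F (of_one _ wcA_E6 (by decide +kernel))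
  · obtain ⟨_, _, _⟩ := H65.of_mem (D := chevE7) (by simp)
    exact hasC _ p F (of_one _ wcA_E7 (by decide +kernel))
  · obtain ⟨_, _, _⟩ := H65.of_mem (D := chevE8) (by simp)
    exact hasC _ p F (of_one _ wcA_E8 (by decide +kernel))

end H63.CKC
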