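import Cfsg.Agent.H63.A8F0
import Cfsg.Agent.H67.SAAsm

/-! A8S: the assembly of the slots in the configuration `G = F₀ ⟨t⟩`. -/

set_option autoImplicit false
set_option linter.unusedSectionVars false

namespace H63.A8

open H64.SG (O2 Syl Cz Cs Ns cjs Is2 Inv2 UF IsO2 fx mem_Cs mem_Cz Cfg Cov)
open Matrix H57 Subgroup Cfsg H67.SA

universe u

/-- All slots used by the assembly. -/
structure Slots8 : Prop where
  ab : J8AB.{u}
  ja : J8JA.{u}
  pl : J8PL.{u}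
  tr : J8TR.{u}
  wd : J8WD.{u}
  wn : J8WN.{u}
  wh : J8WH.{u}
  p2b : J8P2b.{u}
  a5 : J8A5.{u}
  a6 : J8A6.{u}
  h : J8H.{u}
  st : J8ST.{u}
  fu : J8FU.{u}
  nf : J8NF.{u}
  ef : J8EF.{u}
  w0 : J8W0.{u}
  wu : J8WU.{u}
  nw : J8NW.{u}
  nq : J8NQ.{u}
  w1 : J8W1.{u}
  we : J8WE.{u}
  hm : J8HM.{u}
  hc : J8HC.{u}
  ht : J8HT.{u}
  hb : J8HB.{u}
  hs : J8HS.{u}
  hq : J8HQ.{u}
  hf : J8HF.{u}
  iso : J8Iso
  fq : J8FQ
  sy : JSy.{u}
  j11 : J11.{u}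
  l4 : JL4
  j10 : J10.{u}

theorem Slots8.ch (S : Slots8.{u}) : J8CH.{u} := by
  intro n F _ _ _ hp G _ _ e t h
  obtain ⟨β, h1, h2, h3⟩ := S.pl n F hp G e t h
  obtain ⟨W, hW⟩ := S.wd n F hp G _ t h1 (S.tr n F hp G _ t h1 h3)
  obtain ⟨w, hw⟩ := S.wn n F hp G _ t W h1 hW
  rcases S.wh n F hp G _ t W w h1 hW hw with h4 | h4
  · obtain ⟨A, hA⟩ := S.p2b n F hp G e t h (h2 h4)
    exact Or.inl (S.a6 n F hp G e t A h hA (S.a5 n F hp G e t A h hA))
  · exact Or.inr ⟨β, h4⟩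

section Core

variable {n : ℕ} {F : Type} [Field F] [Finite F] [CharP F 2] {G : Type u} [Group G] [Finite G]
  {F₀ L : Subgroup G} {t : G}

theorem Slots8.core (S : Slots8.{u}) (hp : Par8 n F) {e : SLn n F →* G}
    (hk : e.ker ≤ center (SLn n F)) (h : Cfg F₀ e.range t) :
    (∃ (K : Type) (_ : Field K) (_ : Finite K) (_ : CharP K 2),
      Nonempty (F₀ ≃* ProjectiveSpecialLinearGroup (Fin (n + 1)) K)) ∨
    (Spor.IsoHS F₀ ∧ t ∉ F₀) ∨ Nonempty (F₀ ≃* alternatingGroup (Fin 10)) := by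
  have hn := hp.two_le
  have b0 : B0 e t := ⟨⟨hk, h.inv, h.tL, h.ct⟩, h.cyc⟩
  have t2 : orderOf t = 2 := orderOf_eq_prime (by rw [pow_two, h.inv.1]) h.inv.2
  have i0 := range_ne_bot hn hk
  have h1 : ∃ s, IsConj t s ∧ s ≠ t ∧ s * t = t * s := by
    by_contra hc
    push Not at hc
    have hO : oddCore G = ⊥ := h.normal_eq_bot fun h1 => i0.2 ((H64.SG.is2_of_sq i0.1).eq_one
      (H64.SG.odd_orderOf_of_mem H99.odd_card_oddCore (h1 (h.le ⟨_, rfl⟩))))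
    have h2 := H84.zstar_center H14.zstarThm hO ⟨t2, fun g hg => by
      by_contra h3
      exact hc _ (isConj_iff.2 ⟨g, rfl⟩) h3 hg.symm⟩
    exact h.inv.2 (mem_bot.1 (h.cent ▸ fun a _ => mem_center_iff.1 h2 a))
  by_cases hz : ∃ c : F, c ≠ 0 ∧ IsConj t (t * e (x 0 (la n) c))
  swap
  · right; right
    obtain ⟨φ, hφ⟩ := S.iso n F hp
    have nr := ((S.ab n F hp G e t).1 b0).nr
    have hr : (e.comp φ.toMonoidHom).range = e.range := by
      ext g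
      exact ⟨fun ⟨a, ha⟩ => ⟨φ a, ha⟩, fun ⟨a, ha⟩ => ⟨φ.symm a, by simpa using ha⟩⟩
    have inj : Function.Injective e := (MonoidHom.ker_eq_bot_iff e).1
      (eq_bot_iff.2 ((S.fq n F hp).cen ▸ hk))
    have pa : PA (e.comp φ.toMonoidHom) t := ⟨inj.comp φ.injective, h.inv, hr ▸ h.tL, hr ▸ h.ct,
      hr ▸ h.cyc, fun a ha => nr _ (hφ a ha), fun a ha hc => by
        obtain ⟨p, c, c0, e1⟩ := hφ a ha
        refine hz ⟨c, c0, hc.trans (isConj_iff.2 ⟨(e p)⁻¹, ?_⟩)⟩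
        change _ * (t * e (φ a)) * _ = _
        rw [e1, map_mul, map_mul, map_inv, ← mul_assoc, ← mul_assoc, ← mul_assoc, ← map_inv,
          ← b0.comm, map_inv]
        group⟩
    obtain ⟨s, s1, s2, s3⟩ := h1
    exact S.j10 S.sy S.j11 S.l4 G _ t pa F₀ (hr ▸ h) ⟨s, mem_Cz.2 s3.symm, s1, s2⟩
  have ev : Even (Nat.card (Cs e.range)) := even_iff_two_dvd.2 (t2 ▸ orderOf_dvd_natCard _ h.tL)
  have h2 : Ns (Cs e.range) ≤ Ns (e.range : Subgroup G) := fun g hg => by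
    by_contra h3
    have h4 := h.te g h3
    rw [show cjs g (Cs e.range) = Cs e.range from mem_St_iff_map.1 (conj_mem_St.2 hg), inf_idem] at h4
    exact Nat.not_even_iff_odd.2 h4 ev
  have ca := S.ja n F hp G e t b0
    ⟨ev, fun g hg => h.te g fun h3 => hg (H98.normalizer_le_normalizer_centralizer _ h3)⟩ h2 hz
  have gen : Gen t := fun A _ V g => by
    have h3 : F₀ ≤ V.ker := by
      by_contra h3
      have h4 : e (x 0 (la n) 1) ∈ V.ker := hom_eq_one hn (V.comp e) (fun _ _ => mul_comm _ _) _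
      exact i0.2 (mem_bot.1 (h.normal_eq_bot h3 ▸ h4))
    rcases h.top g with h4 | h4
    · exact Or.inl (h3 h4)
    · have h5 : V g * V t = 1 := by rw [← map_mul]; exact h3 h4
      have h6 : V t * V t = 1 := by rw [← map_mul, h.inv.1, map_one]
      exact Or.inr (mul_right_cancel (h5.trans h6.symm))
  rcases S.h S.ch n F hp G e t ca with bl | ⟨β, w₁, w₂, w₃, hc⟩
  swap
  · have ce : CE (tw e β) t := ca.toCE.twe β
    obtain ⟨φ, hφ⟩ := S.hm n F hp G _ t w₁ w₂ w₃ ce.toB1 hc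
    have hr : (tw e β).range = e.range := range_twe
    exact Or.inr (Or.inl (S.hf S.hq n F hp G _ t w₁ w₂ w₃ φ ce hc hφ
      (S.hs S.hc S.ht S.hb n F hp G _ t w₁ w₂ w₃ φ ce hc hφ) F₀ (hr ▸ h)))
  rcases S.st n F hp G e t b0.toB1 bl with ⟨K, _, _, _, ι, σ, Φ, c⟩ | ⟨e₁, e₂, c⟩
  · have gf := S.fu n F hp G e t K ι σ Φ ca.toCE c
    have h3 := S.ef n F hp G e t K ι σ Φ ca.toCE c gf (S.nf n F hp G e t K ι σ Φ ca.toCE c gf) gen
    have : Φ.range.Normal := normalizer_eq_top_iff.1 h3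
    have h4 : Φ.range = F₀ := le_antisymm (range_le_F0 hn h Φ) (by
      by_contra h4
      exact i0.2 (mem_bot.1 (h.normal_eq_bot h4 ▸ c.le ⟨_, rfl⟩)))
    have h5 : center (SLn n K) = Φ.ker := le_antisymm (fun s hs => mem_bot.1 (by
      rw [← h.cent, ← h4]; exact (e_mem_Cs hn c.ker).2 hs)) c.ker
    exact Or.inl ⟨K, _, ‹_›, ‹_›, ⟨((QuotientGroup.quotientMulEquivOfEq h5).trans
      ((QuotientGroup.quotientKerEquivRange Φ).trans (MulEquiv.subgroupCongr h4))).symm⟩⟩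
  · exfalso
    have w0 := S.w0 n F hp G e t e₁ e₂ ca.toCE c
    have gw := S.wu n F hp G e t e₁ e₂ ca.toCE c w0
    have h3 := S.nq n F hp G e t e₁ e₂ ca.toCE c gw (S.nw n F hp G e t e₁ e₂ ca.toCE c gw)
    have h4 := S.we n F hp G e t e₁ e₂ ca.toCE c gw fun W w1 w2 w3 =>
      (S.w1 n F hp G e t e₁ e₂ ca.toCE c gw W w1 w2 w3).trans h3
    have : (G12 e₁ e₂).Normal := normalizer_eq_top_iff.1 h4
    have i1 := range_ne_bot hn c.ker
    have h5 : F₀ ≤ G12 e₁ e₂ := by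
      by_contra h5
      exact i1.2 (mem_bot.1 (h.normal_eq_bot h5 ▸ mem_sup_left ⟨_, rfl⟩))
    have h6 := range_le_F0 hn h e₁
    rcases h.simple.eq_bot_or_eq_top_of_normal (e₁.range.subgroupOf F₀)
      ((normal_subgroupOf_iff_le_normalizer h6).2 (h5.trans c.G12_le_Ns)) with h7 | h7
    · exact i1.2 (mem_bot.1 ((subgroupOf_eq_bot.1 h7).eq_bot ▸
        (⟨⟨_, rfl⟩, h6 ⟨_, rfl⟩⟩ : _ ∈ e₁.range ⊓ F₀)))
    · exact (range_ne_bot hn c.ker₂).2 (mem_bot.1 (h.cent ▸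
        centralizer_le (subgroupOf_eq_top.1 h7) (c.le_Cs ⟨_, rfl⟩)))

end Core

/-- The `L₄(2)` case. -/
theorem Slots8.main {G : Type u} [Group G] [Finite G] (S : Slots8.{u})
    (hF : IsSimpleGroup ↥(generalizedFittingSubgroup G))
    (hF' : ¬ IsMulCommutative ↥(generalizedFittingSubgroup G)) (L : Subgroup G)
    (hL : IsStandardSubgroup L)
    (hR : ∀ R : Sylow 2 ↥(Subgroup.centralizer (L : Set G)),
      IsCyclic ↥(R : Subgroup ↥(Subgroup.centralizer (L : Set G))))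
    {F : Type} [Field F] [Fintype F] (hFq : Fintype.card F = 2)
    (ε : (↥L ⧸ oddCore ↥L) ≃* ProjectiveSpecialLinearGroup (Fin 4) F) :
    Nonempty (↥L ≃* ProjectiveSpecialLinearGroup (Fin 4) F) ∧
    (IsLieTypeChar 2 ↥(generalizedFittingSubgroup G) ∨
      (Spor.IsoHS ↥(generalizedFittingSubgroup G) ∧ generalizedFittingSubgroup G ≠ ⊤) ∨
      Nonempty (↥(generalizedFittingSubgroup G) ≃* alternatingGroup (Fin 10))) := by
  have : CharP F 2 := by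
    obtain ⟨p, hp⟩ := CharP.exists F
    obtain ⟨k, p1, p2⟩ := FiniteField.card F p
    rw [hFq] at p2
    have := (Nat.Prime.eq_one_or_self_of_dvd Nat.prime_two p
      (p2 ▸ dvd_pow_self p k.ne_zero)).resolve_left p1.ne_one
    exact this ▸ hp
  have hp : Par8 3 F := ⟨rfl, Nat.card_eq_fintype_card.trans hFq⟩
  obtain ⟨H, t, h1, h2, cfg⟩ := exists_cfg hF hF' L hL hR
  obtain ⟨c⟩ := exists_cov hL.1 h1 (psl_isSimpleGroup_of_three_le (by simp)) (fun h => by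
    have := hom_eq_one hp.two_le (QuotientGroup.mk' (center (SLn 3 F)))
      (fun a b => h.is_comm.comm _ _) (x 0 (la 3) 1)
    exact one_ne_zero ((x_mem_center (zero_ne_la (by omega))).1 ((QuotientGroup.eq_one_iff _).1 this)))
    ε cfg.perf
  obtain ⟨e, hk, he⟩ := exists_e hp.two_le c cfg.perf
  have h5 : center (SLn 3 F) = e.ker := le_antisymm ((S.fq 3 F hp).cen ▸ bot_le) hk
  have ι := (subgroupOfEquivOfLe h2).symm
  refine ⟨⟨(subgroupOfEquivOfLe h1).symm.trans ((QuotientGroup.quotientMulEquivOfEq h5).trans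
      ((QuotientGroup.quotientKerEquivRange e).trans (MulEquiv.subgroupCongr he))).symm⟩, ?_⟩
  rcases S.core hp hk (he ▸ cfg) with ⟨K, _, _, _, ⟨k⟩⟩ | ⟨⟨k⟩, k1⟩ | ⟨⟨k⟩⟩
  · let _ : Fintype K := Fintype.ofFinite K
    exact Or.inl (Or.inl ⟨K, _, ‹_›, ‹_›, 4, by omega, by omega, ⟨ι.trans k⟩⟩)
  · exact Or.inr (Or.inl ⟨⟨ι.trans k⟩, fun h => k1 (by rw [mem_subgroupOf, h]; trivial)⟩)
  · exact Or.inr (Or.inr ⟨ι.trans k⟩)

end H63.A8
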