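import Cfsg.Agent.H63.A8Def
import Cfsg.Agent.H76.SAFB
import Cfsg.Agent.H3.SaFC2
import Cfsg.Agent.H3.SaFE

/-! A8S: the facts `FA`, `FB8`, `FC8`, `FE` for `SL₄(2)`. -/

set_option autoImplicit false
set_option linter.unusedSectionVars false

namespace H63.A8

open H64.SG (O2 Syl Cz Cs Ns cjs Is2 Inv2 UF IsO2 fx mem_fx mem_Cz)
open Matrix H57 Subgroup H67.SA
open scoped commutatorElement

theorem jobFA : J8FA := fun n F _ _ _ hp => by
  have hn := hp.two_le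
  have p := Nat.pow_le_pow_right (one_lt_card (F := F)).le hn
  exact ⟨fa_ctS hn, fa_ctM hn, fa_ctK hn, fun β h => Mk_one (n := n) (F := F) ▸
    fa_ctK hn 1 le_rfl (by omega) β (Qk_one (n := n) (F := F) ▸ h), fa_n2 hn, fa_nz hn, fa_fz hn,
    fa_exU hn, fa_nu hn, commutator_le.2 fun a ha b hb => ner0 hn (out_of_comm ha).1
      (out_of_comm hb).1 (out_of_comm ha).2 (out_of_comm hb).2, commutator_le.2 fun a ha b hb => by
      obtain ⟨s, s1, s2⟩ := mem_cI.1 (ner0 hn (St_gam ⟨gam_Er.2, gam_Er.1⟩ (out_of_comm ha).1)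
        (St_gam ⟨gam_Er.2, gam_Er.1⟩ (out_of_comm hb).1) ((out_conj_eq ..).trans (out_of_comm ha).2)
        ((out_conj_eq ..).trans (out_of_comm hb).2))
      refine mem_cI.2 ⟨gam n F s, (gam_Pr.1 s).1 s1, ?_⟩
      have : cm a b = (gam n F)⁻¹ * MulAut.conj s * gam n F := by
        rw [← s2]; simp only [cm]; group
      rw [← cm_eq, this, inv_eq_of_mul_eq_one_right gam_mul_self]
      ext1 u; simp [gam_gam],
    fun β _ => sl_index hn (Row_le_Cs 0) (fun _ => sq_Row) (fun _ h c => sc_mem (uni_Row 0) (sq_Row h) h c)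
      (card_Er (n := n) (F := F) ▸ p),
    fun β _ => sl_index hn (Col_le_Cs _) (fun _ => sq_Col) (fun _ h c => sc_mem (uni_Col _) (sq_Col h) h c)
      (card_Ec (n := n) (F := F) ▸ p)⟩

section
open H76.SAFB

theorem jobFB : J8FB := fun n F _ _ _ hp => by
  have hn := hp.two_le
  have : Fact (Nat.Prime 2) := ⟨Nat.prime_two⟩
  refine ⟨ic hn, root_iff hn, roota hn, fun k _ k2 => qk k2, fun g Q hg hQ y hy y2 => ?_,
    fun g w hg hr hw hc => ?_, fun g hg => ?_, lin hn⟩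
  · obtain ⟨h, k, k1, k2, e⟩ := ic hn g hg
    have e1 : Cz g = cjs h⁻¹ (Cz (xk F n k)) := by rw [H64.SG.cj_Cz, ← e]; congr 1; group
    have h1 : cjs h⁻¹ (Qk n F k) ≤ Q := hQ.2.2.2 _ (e1 ▸ H98.cj_mono _ (Qk_le_C k2))
      (by rw [e1, ← H64.SG.cj_Ns]; exact H98.cj_mono _ (C_le_Ns k2)) ((qk k2).2.2.1.map _)
    have h2 : h * y * h⁻¹ ∈ Cs (Qk n F k) := by
      have : y ∈ Cs (cjs h⁻¹ (Qk n F k)) := centralizer_le h1 hy
      rwa [← H64.SG.cj_Cs, H98.mem_cj, inv_inv] at this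
    have h3 := mem_Mk_of_cs hn k1 k2 h2 (y2.conj h)
    refine ⟨h1 (H98.mem_cj.2 (by rw [inv_inv]; exact Ml_le_Qk k (Mk_le_Ml le_rfl (by omega) h3))), ?_⟩
    simpa [conj_mul] using sq_Mk k2 h3
  · obtain ⟨h, k, k1, k2, e⟩ := ic hn g hg
    have hk := two_le hn k1 k2 e hr
    have h3 : h * w * h⁻¹ ∈ Cs (Cz (xk F n k)) := by
      rw [← e, ← H64.SG.cj_Cz, ← H64.SG.cj_Cs]; exact H98.conj_mem_cj hc
    have hy' := inv2_cj hw h
    have hM := mem_Mk_of_cs hn k1 k2 (centralizer_le (Qk_le_C k2) h3) (H64.SG.is2_of_sq hy'.1)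
    obtain ⟨c, d, h4⟩ := H76.SAFB.form hk k2 hM (centralizer_le inf_le_right h3)
    by_cases h5 : c = 0
    · exfalso
      subst h5
      obtain ⟨o, ho⟩ : ∃ o : Fin (n + 1), o.val = 1 := ⟨⟨1, by omega⟩, rfl⟩
      obtain ⟨z, hz⟩ := exists_sh (a := 0) k2 (by simp; omega)
      have hz' : z.val + k = n + 1 := by simpa using hz
      obtain ⟨v, hv⟩ := exists_sh (a := o) k2 (by omega)
      have e0 : o ≠ 0 := by rw [Ne, Fin.ext_iff]; simp; omega
      have h0 := zero_ne_la (n := n) (by omega)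
      have h6 := (corner k2 hM e0 hv hz (h3 _ (pr_mem_C k2 e0 hv hz 1))).1 (la n)
      rw [if_neg h0.symm, if_neg (by rw [Fin.ext_iff]; simp; omega), add_zero, eq_x hn h4,
        x_apply_same h0] at h6
      exact hy'.2 (by rw [eq_x hn h4, h6, x_zero])
    · exact ((isConj_iff.2 ⟨_, e⟩).trans (conj_of_form hn hk k2 hy' h5 h4)).trans
        (isConj_iff.2 ⟨_, rfl⟩ : IsConj w _).symm
  · have l2 : 2 * ((n + 1) / 2) ≤ n + 1 := by omega
    have hQ := isP_UU.to_le (Qk_le_UU (n := n) (F := F) ((n + 1) / 2))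
    by_cases h1 : g = 1
    · exact ⟨_, fun a _ => mem_Cz.2 (by simp [h1]), hQ, card_Qk_bg.ge⟩
    obtain ⟨h, k, k1, k2, e⟩ := ic hn g ⟨hg, h1⟩
    refine ⟨cjs h⁻¹ (Qk n F ((n + 1) / 2)), ?_, hQ.map _, by rw [H98.card_cj, card_Qk_bg]⟩
    rw [show Cz g = cjs h⁻¹ (Cz (xk F n k)) by rw [H64.SG.cj_Cz, ← e]; congr 1; group]
    exact H98.cj_mono _ fun a ha => mem_Cz.2 (Qk_le_Cs l2 ha _ (Mk_mono (by omega) (xk_mem_Mk k2)))

end

section
open H3.SA

variable {n : ℕ} {F : Type} [Field F] [Finite F] [CharP F 2]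

theorem pfr8 (hp : Par8 n F) : Pr n F ≤ ⁅Pr n F, Pr n F⁆ := by
  refine Pat_le.2 fun a b hab hs c => ?_
  have h2 := hp.two_le
  by_cases hk : ∃ k, k ∉ ({0, a, b} : Finset (Fin (n + 1)))
  · obtain ⟨k, hk⟩ := hk
    simp only [Finset.mem_insert, Finset.mem_singleton, not_or] at hk
    exact x_mem_cm (Ne.symm hk.2.1) hk.2.2 hab (xPr a hk.1) (xPr k hs) c
  have h4 : ∀ s : Finset (Fin (n + 1)), {0, a, b} ⊆ s → n + 1 ≤ s.card := fun s hs => by
    by_contra r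
    obtain ⟨k, r⟩ := exists_idx (not_le.1 r)
    exact hk ⟨k, fun e => r (hs e)⟩
  have a0 : 0 ≠ a := by
    rintro rfl
    have := (h4 {0, b} (by simp)).trans Finset.card_le_two
    omega
  have := (h4 _ le_rfl).trans Finset.card_le_three
  have := hp.three
  omega

theorem pfc8 (hp : Par8 n F) : Pc n F ≤ ⁅Pc n F, Pc n F⁆ := by
  rw [← gam_Pc, ← map_commutator]
  exact map_mono (pfr8 hp)

theorem jobFC : J8FC := fun n F _ _ _ hp =>
  have A := jobFA n F hp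
  have hn := hp.two_le
  have hn' : 1 ≤ n := by omega
  { qz := fun _ hv h _ hz => qz hn' hv h hz
    tv := fun _ hE h hc => eq_Er_Ec (fun u hu => (h u hu).elim (fun e => .inl (e ▸ one_mem _))
      (root_Q hn' (hE hu))) hc
    trr := fun _ hv _ hw v1 w1 => trr hn hv hw v1 w1
    trc := fun _ hv _ hw v1 w1 => trc hn hv hw v1 w1
    cpr := fun _ hc => cpr hn' hc
    pfr := pfr8 hp
    pfc := pfc8 hp
    top := top hn
    qc := fun _ h1 h2 h3 _ ha _ hy h4 h => qc hn h1 h2 h3 ha hy h4 h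
    z2 := fun _ hy => z2 hn' hy
    nzn := fun _ h1 h2 _ h3 h4 => nzn hn A h1 h2 h3 h4
    si1 := fun _ h1 => si1 hn A h1 }

theorem jobFE : J8FE := fun _ _ _ _ _ hp =>
  { cz := fun _ h => cz hp.two_le h
    c2 := fun _ h => c2 hp.two_le h
    hu := hu hp.two_le
    sem := fun hq _ h H => ⟨sem_row hp.two_le hq h H, sem_col hp.two_le hq h H⟩ }

end

end H63.A8
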