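import Cfsg.Agent.H63.A8Asm
import Cfsg.Agent.H63.A8Wr
import Cfsg.Agent.H11.Wr0
import Cfsg.Agent.H55.BNU
import Cfsg.Agent.S1754
import Cfsg.Agent.S0296

/-! A8S: row S3152 from the slots. -/

set_option autoImplicit false
set_option linter.unusedSectionVars false

namespace H63.A8

open Subgroup Cfsg
open H64.SG (Cz Cs Ns Inv2)

universe u

theorem quot_prod (A : Type*) [Group A] : Nonempty ((A × A) ⧸ center (A × A) ≃*
    (A ⧸ center A) × (A ⧸ center A)) :=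
  ⟨(QuotientGroup.quotientMulEquivOfEq (by
    ext x
    simp only [MonoidHom.mem_ker, Prod.ext_iff, MonoidHom.coe_prodMap, Prod.map_fst,
      QuotientGroup.mk'_apply, Prod.fst_one, QuotientGroup.eq_one_iff, Prod.map_snd, Prod.snd_one,
      mem_center_iff, Prod.fst_mul, Prod.snd_mul]
    exact ⟨fun h => ⟨fun g => (h (g, 1)).1, fun g => (h (1, g)).2⟩,
      fun h g => ⟨h.1 _, h.2 _⟩⟩)).trans
  (QuotientGroup.quotientKerEquivOfSurjective
    (MonoidHom.prodMap (QuotientGroup.mk' (center A)) (QuotientGroup.mk' (center A)))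
    ((QuotientGroup.mk'_surjective _).prodMap (QuotientGroup.mk'_surjective _)))⟩

theorem not_simple_prod {X Y : Type*} [Group X] [Group Y] [Nontrivial X] (e : X × X ≃* Y) :
    ¬ IsSimpleGroup Y := fun h => by
  have := e.isSimpleGroup
  obtain ⟨a, ha⟩ := exists_ne (1 : X)
  rcases IsSimpleGroup.eq_bot_or_eq_top_of_normal (MonoidHom.fst X X).ker inferInstance with h4 | h4
  · exact absurd (congrArg Prod.snd (mem_bot.1 (h4 ▸ rfl : ((1, a) : X × X) ∈ (⊥ : Subgroup _)))) ha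
  · exact absurd (h4 ▸ mem_top _ : ((a, 1) : X × X) ∈ (MonoidHom.fst X X).ker) ha

theorem core_eq_center {X : Type*} [Group X] [Finite X] (hX : IsQuasisimple X)
    (hZ : Odd (Nat.card (center X))) : oddCore X = center X := by
  refine le_antisymm ((H14.quasi_normal hX _).resolve_left fun h => ?_) (H99.le_oddCore hZ)
  have h1 := H99.odd_card_oddCore (G := X)
  rw [show pPrimeCore 2 X = ⊤ from h, card_top] at h1
  have h2 := Cfsg.Agent.S1347.two_dvd ((H14.quasi_congr topEquiv).2 hX)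
  rw [card_top] at h2
  exact absurd (h1.of_dvd_nat h2) (by decide)

variable {G : Type u} [Group G] [Finite G] {A : Subgroup G} {t : G}

theorem red (hO : oddCore G = ⊥) (hA : IsStandardSubgroup A) (hnA : ¬ A.Normal)
    (ht : orderOf t = 2) (htA : t ∈ centralizer (A : Set G)) :
    Nonempty (layer G ≃* A × A) ∨ AS2 (layer G) A t ∧ ¬ IsMulCommutative ↥(layer G) ∧
      generalizedFittingSubgroup G = layer G := by
  rcases Cfsg.Agent.S1347.result A hA hO t ht htA with h | ⟨X, -, -, ⟨e⟩, a, b, c, -⟩ | ⟨h, s, nc⟩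
  · exact (hnA h).elim
  · obtain ⟨f, -⟩ := H89.exists_prodEquiv_sup X _ (disjoint_iff.2 b) a
    have e' : X ≃* X.map (MulAut.conj t).toMonoidHom :=
      X.equivMapOfInjective _ (MulAut.conj t).injective
    exact Or.inl ⟨((MulEquiv.subgroupCongr c).symm.trans f.symm).trans
      (e.prodCongr (e'.symm.trans e))⟩
  have := H14.layer_normal G
  have hc : centralizer (layer G : Set G) = ⊥ := by
    rw [eq_bot_iff, ← hO]
    refine H99.le_oddCore ?_
    by_contra ho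
    refine hnA (normalizer_eq_top_iff.1 (hA.2.2.2.trans (eq_top_iff.2 fun g _ => ?_)))
    by_contra hg
    refine ho ((hA.2.1.2 g hg).of_dvd_nat (card_dvd_of_le (le_inf (centralizer_le h) ?_)))
    intro x hx
    refine ⟨g⁻¹ * x * g, centralizer_le h ?_, by simp [mul_assoc]⟩
    simpa using (inferInstance : (centralizer (layer G : Set G)).Normal).conj_mem x hx g⁻¹
  exact Or.inr ⟨⟨this, s, hc, h, hA.1, ⟨by rw [← pow_two, ← ht, pow_orderOf_eq_one], by
    rintro rfl; simp at ht⟩, htA, (Cfsg.Agent.S1754.result A hA t ht htA).1⟩, nc,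
    le_antisymm (sup_le le_rfl (H14.fitting_le_centralizer_layer.trans (hc ▸ bot_le))) le_sup_left⟩

theorem AS2.outer {F₀ : Subgroup G} (s : AS2 F₀ A t) (h : t ∉ F₀) :
    ¬ ∃ e : G, e ∈ F₀ ∧ ∀ x ∈ F₀, t * x * t⁻¹ = e * x * e⁻¹ := by
  rintro ⟨e, he, h2⟩
  have h1 : e⁻¹ * t ∈ Cs F₀ := fun x hx => by
    have := h2 x hx
    calc x * (e⁻¹ * t) = e⁻¹ * (e * x * e⁻¹) * t := by group
      _ = e⁻¹ * (t * x * t⁻¹) * t := by rw [this]
      _ = e⁻¹ * t * x := by group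
  rw [s.cent, mem_bot, inv_mul_eq_one] at h1
  exact h (h1 ▸ he)

/-- The reduction slots. -/
structure Wrap : Prop where
  rows : JRows.{u}
  ni : JNI.{u}
  ti : JTi.{u}
  fi : JFi.{u}
  fia : JFiA.{u}
  hsa : JHSA.{u}
  nrm : JNrm.{u}

theorem s3152_of (S : Slots8.{u}) (W : Wrap.{u}) (R : Row3129.{u}) (hO : oddCore G = ⊥)
    (hB : HasStrongBProperty G)
    (hstar : IsQuasisimple ↥A → Odd (Nat.card ↥(center ↥A)) → Star (↥A ⧸ center ↥A) →
      IsStandardSubgroup A → oddCore G = ⊥ →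
      (∀ R : Sylow 2 ↥(centralizer (A : Set G)), IsCyclic ↥(R : Subgroup ↥(centralizer (A : Set G)))) →
      A.Normal ∨ Nonempty (↥(layer G) ≃* ↥A × ↥A) ∨
        IsLieTypeChar 2 (↥(layer G) ⧸ center ↥(layer G)) ∨ Lie.IsoTits (↥(layer G) ⧸ center ↥(layer G)) ∨
        (∃ (F : Type) (_ : Field F) (_ : Fintype F), Fintype.card F = 2 ∧
          Nonempty (↥A ≃* POmega F (quadFormPlus 4 F)) ∧ Spor.IsoFi22 ↥(layer G)))
    (hA : IsStandardSubgroup A) (hZ : Odd (Nat.card ↥(center ↥A)))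
    (hAX : Rk3 (↥A ⧸ center ↥A))
    (hR : ∀ R : Sylow 2 ↥(centralizer (A : Set G)), IsCyclic ↥(R : Subgroup ↥(centralizer (A : Set G))))
    (ht : orderOf t = 2) (htA : t ∈ centralizer (A : Set G)) :
    A ≤ layer G ∧
    (t ∈ center G ∨
      Nonempty ((↥(layer G) ⧸ center ↥(layer G)) ≃* (↥A ⧸ center ↥A) × (↥A ⧸ center ↥A)) ∨
      ((IsLieTypeChar 2 (↥(layer G) ⧸ center ↥(layer G)) ∨ Lie.IsoTits (↥(layer G) ⧸ center ↥(layer G))) ∧ ¬ (∃ e : G, e ∈ layer G ∧ ∀ x ∈ layer G, t * x * t⁻¹ = e * x * e⁻¹)) ∨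
      (∃ (F : Type) (_ : Field F) (_ : Fintype F), Fintype.card F = 2 ∧ Nonempty (↥A ≃* Matrix.ProjectiveSpecialLinearGroup (Fin 4) F) ∧
        Nonempty (G ≃* MulAut ↥Spor.HS)) ∨
      (∃ (F : Type) (_ : Field F) (_ : Fintype F), Fintype.card F = 2 ∧ Nonempty ((↥A ⧸ center ↥A) ≃* POmega F (quadFormPlus 4 F)) ∧
        Nonempty (G ≃* MulAut Spor.Fi22)) ∨
      (∃ (F : Type) (_ : Field F) (_ : Fintype F), Fintype.card F = 2 ∧ Nonempty ((↥A ⧸ center ↥A) ≃* Matrix.ProjectiveSpecialLinearGroup (Fin 4) F) ∧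
        Nonempty ((↥(layer G) ⧸ center ↥(layer G)) ≃* ↥(alternatingGroup (Fin 10))))) := by
  refine ⟨H11.Wr.std_le_layer hA hO, ?_⟩
  by_cases hnA : A.Normal
  · exact Or.inl (W.nrm G hO A hnA hR t htA ht)
  right
  rcases red hO hA hnA ht htA with ⟨⟨e⟩⟩ | ⟨s, nc, fs⟩
  · obtain ⟨f⟩ := quot_prod A
    exact Or.inl ⟨(H55.quotCenterCongr e).trans f⟩
  right
  have sim := s.simple
  have z0 : center ↥(layer G) = ⊥ :=
    (sim.eq_bot_or_eq_top_of_normal _ inferInstance).resolve_right fun h =>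
      nc (center_eq_top_iff.1 h)
  have ε := H55.quotCenterEquivSelf z0
  have lie : IsLieTypeChar 2 ↥(layer G) → (IsLieTypeChar 2 (↥(layer G) ⧸ center ↥(layer G)) ∨
      Lie.IsoTits (↥(layer G) ⧸ center ↥(layer G))) ∧
      ¬ (∃ e : G, e ∈ layer G ∧ ∀ x ∈ layer G, t * x * t⁻¹ = e * x * e⁻¹) := fun h =>
    ⟨Or.inl (H55.BNU.lieType_congr ε h), s.outer (W.ni G _ A t s h)⟩
  have hF : IsSimpleGroup ↥(generalizedFittingSubgroup G) := fs ▸ sim
  have hF' : ¬ IsMulCommutative ↥(generalizedFittingSubgroup G) := fs ▸ nc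
  rcases W.rows R G hF hF' hB A hA hZ hR hAX with h | h | ⟨F, _, _, hc, ⟨e⟩⟩
  · exact Or.inl (lie (fs ▸ h))
  · rcases hstar hA.1 hZ h hA hO hR with h1 | ⟨⟨e⟩⟩ | h1 | ⟨⟨e⟩⟩ | ⟨F, _, _, hc, ⟨e⟩, h1⟩
    · exact (hnA h1).elim
    · have := H14.quasi_nontrivial hA.1
      exact (not_simple_prod e.symm sim).elim
    · exact Or.inl (lie (H55.BNU.lieType_congr ε.symm h1))
    · refine (W.ti.2 ?_).elim
      rw [← Nat.card_congr (ε.symm.trans e).toEquiv]
      exact ((W.ti.1 _ h).trans (card_quotient_dvd_card _)).trans (card_dvd_of_le s.le)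
    · have h2 := W.fi G _ A t s F hc ⟨e⟩ h1
      have h3 : center ↥A = ⊥ := by
        have := Cfsg.Agent.S0296.result (F := F) 4 le_rfl
        have := e.isSimpleGroup
        refine (IsSimpleGroup.eq_bot_or_eq_top_of_normal _ inferInstance).resolve_right fun h => ?_
        have h4 := H14.quasi_sub_commutator_ne_bot hA.1
        exact h4 (H14.commutator_eq_bot_iff_comm.2 fun a ha b hb => congrArg Subtype.val
          ((center_eq_top_iff.1 h).is_comm.comm (⟨a, ha⟩ : A) ⟨b, hb⟩))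
      exact Or.inr (Or.inr (Or.inl ⟨F, _, ‹_›, hc, ⟨(H55.quotCenterEquivSelf h3).trans e⟩,
        W.fia G _ s.normal s.cent (fun h => h2 (h ▸ mem_top t)) h1⟩))
  · obtain ⟨k, h | ⟨h1, h2⟩ | ⟨⟨f⟩⟩⟩ := S.main hF hF' A hA hR hc
      ((QuotientGroup.quotientMulEquivOfEq (core_eq_center hA.1 hZ)).trans e)
    · exact Or.inl (lie (fs ▸ h))
    · exact Or.inr (Or.inl ⟨F, _, ‹_›, hc, k, W.hsa G _ s.normal s.cent (fs ▸ h2) (fs ▸ h1)⟩)
    · exact Or.inr (Or.inr (Or.inr ⟨F, _, ‹_›, hc, ⟨e⟩,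
        ⟨(ε.trans (MulEquiv.subgroupCongr fs.symm)).trans f⟩⟩))

end H63.A8
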