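import Cfsg.Agent.H53.Sim

/-! Möbius inversion of an additive function of the characteristic polynomial over the lattice of
invariant subspaces; the result is killed by all unipotent radicals. -/

set_option autoImplicit false
set_option linter.unusedSectionVars false

noncomputable section

namespace H63.Cusp

open Module Polynomial LinearMap H53 Finset
open scoped Classical

universe u

variable {F : Type u} [Field F]

scoped instance (priority := high) finHom {V W : Type u} [AddCommGroup V] [Module F V]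
    [AddCommGroup W] [Module F W] [Finite V] [Finite W] : Fintype (V →ₗ[F] W) :=
  have : Finite (V →ₗ[F] W) := DFunLike.finite _
  Fintype.ofFinite _

scoped instance (priority := high) finSub {V : Type u} [AddCommGroup V] [Module F V] [Finite V] :
    Fintype (Submodule F V) := Fintype.ofFinite _

abbrev Iv {V : Type u} [AddCommGroup V] [Module F V] (g : End F V) (U : Submodule F V) : Prop :=
  ∀ x ∈ U, g x ∈ U

def D (b : F[X] → ℂ) {V : Type u} [AddCommGroup V] [Module F V] [Finite V] (g : End F V) : ℂ :=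
  b g.charpoly - ∑ U : {U : Submodule F V // Iv g U ∧ U ≠ ⊤}, D b (g.restrict U.2.1)
termination_by finrank F V
decreasing_by exact Submodule.finrank_lt U.2.2

variable {b : F[X] → ℂ} {V W W' : Type u} [AddCommGroup V] [Module F V] [Finite V]
  [AddCommGroup W] [Module F W] [Finite W] [AddCommGroup W'] [Module F W'] [Finite W']

variable (b) in
def d (g : End F V) (U : Submodule F V) : ℂ := if h : Iv g U then D b (g.restrict h) else 0

theorem d_neg {g : End F V} {U : Submodule F V} (h : ¬ Iv g U) : d b g U = 0 := dif_neg h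

theorem D_eq (g : End F V) : D b g = b g.charpoly - ∑ U, if U = ⊤ then 0 else d b g U := by
  rw [D, ← sum_filter_add_sum_filter_not univ fun U => Iv g U ∧ U ≠ ⊤,
    sum_eq_zero (s := filter (fun U => ¬ _) _), add_zero, sum_subtype _ (p := fun U => Iv g U ∧ U ≠ ⊤)
      (by simp)]
  · congr 1
    exact sum_congr rfl fun U _ => by rw [if_neg U.2.2, d, dif_pos U.2.1]
  · intro U hU
    split_ifs with h
    · rfl
    · exact d_neg fun h' => (mem_filter.1 hU).2 ⟨h', h⟩

theorem D_sim_aux (n : ℕ) : ∀ {V W : Type u} [AddCommGroup V] [Module F V] [Finite V]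
    [AddCommGroup W] [Module F W] [Finite W] {g : End F V} {g' : End F W}, finrank F V = n →
    Sim g g' → D b g = D b g' := by
  induction n using Nat.strong_induction_on with | _ n ih =>
  rintro V W _ _ _ _ _ _ g g' rfl h
  rw [D_eq, D_eq, h.charpoly_eq]
  obtain ⟨e, he⟩ := h
  congr 1
  refine Fintype.sum_equiv (Submodule.orderIsoMapComap e).toEquiv _ _ fun U => ?_
  change _ = if U.map e.toLinearMap = ⊤ then 0 else d b g' (U.map e.toLinearMap)
  by_cases hU : U = ⊤
  · simp [hU]
  rw [if_neg hU, if_neg (by simpa using hU)]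
  by_cases h : Iv g U
  · have h' : Iv g' (U.map e.toLinearMap) := by
      rintro _ ⟨x, hx, rfl⟩
      exact ⟨_, h x hx, he x⟩
    rw [d, d, dif_pos h, dif_pos h']
    exact ih _ (Submodule.finrank_lt hU) rfl ⟨e.submoduleMap U, fun v => Subtype.ext (he v)⟩
  · rw [d_neg h, d_neg fun h' => h fun x hx => ?_]
    obtain ⟨y, hy, e'⟩ := h' _ ⟨x, hx, rfl⟩
    exact e.injective (e'.trans (he x).symm) ▸ hy

theorem D_sim {g : End F V} {g' : End F W} (h : Sim g g') : D b g = D b g' := D_sim_aux _ rfl h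

theorem d_eq {g : End F V} {a : End F W} {ι : W →ₗ[F] V} (hι : Function.Injective ι)
    (h : ∀ w, ι (a w) = g (ι w)) : d b g (range ι) = D b a := by
  have h' : Iv g (range ι) := by
    rintro _ ⟨x, rfl⟩
    exact ⟨_, h x⟩
  rw [d, dif_pos h']
  exact (D_sim (g := a) (g' := g.restrict h') ⟨LinearEquiv.ofInjective ι hι, fun v => Subtype.ext (h v)⟩).symm

theorem sum_d (g : End F V) : ∑ U, d b g U = b g.charpoly := by
  have := d_eq (b := b) (g := g) (a := g) (ι := LinearMap.id) (fun _ _ h => h) fun _ => rfl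
  rw [range_id, D_eq, eq_sub_iff_add_eq] at this
  rw [← this, ← add_sum_erase _ _ (mem_univ ⊤), ← add_sum_erase _ _ (mem_univ ⊤), if_pos rfl, zero_add]
  congr 1
  exact sum_congr rfl fun U hU => (if_neg (ne_of_mem_erase hU)).symm

/-- additive functions of monic polynomials -/
def Ad (b : F[X] → ℂ) : Prop := ∀ P Q : F[X], P.Monic → Q.Monic → b (P * Q) = b P + b Q

theorem Ad.one (hb : Ad b) : b 1 = 0 := by simpa using hb 1 1 monic_one monic_one

theorem D_triv (hb : Ad b) [Subsingleton V] (g : End F V) : D b g = 0 := by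
  rw [D_eq, g.charpoly_monic.natDegree_eq_zero.1 (g.charpoly_natDegree.trans finrank_zero_of_subsingleton),
    hb.one, sum_eq_zero fun U _ => if_pos (Subsingleton.elim _ _), sub_zero]

theorem d_bot (hb : Ad b) (g : End F V) : d b g ⊥ = 0 := by
  rw [d]; split_ifs
  exacts [D_triv hb _, rfl]

/-- block triangular maps -/
def blk {U U' : Type u} [AddCommGroup U] [Module F U] [AddCommGroup U'] [Module F U']
    (a : U →ₗ[F] W) (c : U' →ₗ[F] W) (e : U' →ₗ[F] W') : U × U' →ₗ[F] W × W' :=
  (a.coprod c).prod (e ∘ₗ snd F U U')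

@[simp] theorem blk_apply {U U' : Type u} [AddCommGroup U] [Module F U] [AddCommGroup U'] [Module F U']
    (a : U →ₗ[F] W) (c : U' →ₗ[F] W) (e : U' →ₗ[F] W') (x : U × U') :
    blk a c e x = (a x.1 + c x.2, e x.2) := rfl

theorem charpoly_blk (a : End F W) (c : W' →ₗ[F] W) (e : End F W') :
    (blk a c e).charpoly = a.charpoly * e.charpoly := by
  let B := Free.chooseBasis F W
  let B' := Free.chooseBasis F W'
  rw [← charpoly_toMatrix _ (B.prod B'), ← charpoly_toMatrix _ B, ← charpoly_toMatrix _ B',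
    ← Matrix.charpoly_fromBlocks_zero₂₁ _ (toMatrix B' B c)]
  congr 1
  ext (i | i) (j | j) <;> simp [toMatrix_apply]

/-- the subspace with intersection `U`, projection `U'` and slope `s` -/
def gr (U : Submodule F W) (U' : Submodule F W') (s : U' →ₗ[F] W) : Submodule F (W × W') :=
  range (blk U.subtype s U'.subtype)

theorem mem_gr {U : Submodule F W} {U' : Submodule F W'} {s : U' →ₗ[F] W} {x : W × W'} :
    x ∈ gr U U' s ↔ ∃ h : x.2 ∈ U', x.1 - s ⟨_, h⟩ ∈ U :=
  ⟨by rintro ⟨y, rfl⟩; exact ⟨y.2.2, by simp⟩, fun ⟨h, h'⟩ => ⟨(⟨_, h'⟩, ⟨_, h⟩), by simp⟩⟩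

theorem blk_inj (U : Submodule F W) (U' : Submodule F W') (s : U' →ₗ[F] W) :
    Function.Injective (blk U.subtype s U'.subtype) := (injective_iff_map_eq_zero _).2 fun x h => by
  have h2 : x.2 = 0 := Subtype.ext (congrArg Prod.snd h)
  exact Prod.ext (Subtype.ext (by simpa [h2] using congrArg Prod.fst h)) h2

theorem comap_gr (U : Submodule F W) (U' : Submodule F W') (s : U' →ₗ[F] W) :
    (gr U U' s).comap (inl F W W') = U := by
  ext x
  rw [Submodule.mem_comap, mem_gr]
  exact ⟨fun ⟨_, h⟩ => by simpa using (sub_zero x ▸ map_zero s ▸ h : x ∈ U),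
    fun h => ⟨U'.zero_mem, ((congrArg (x - ·) (map_zero s)).trans (sub_zero x)).symm ▸ h⟩⟩

theorem map_gr (U : Submodule F W) (U' : Submodule F W') (s : U' →ₗ[F] W) :
    (gr U U' s).map (snd F W W') = U' := by
  ext x
  exact ⟨fun ⟨y, h, e⟩ => e ▸ (mem_gr.1 h).1, fun h => ⟨(s ⟨x, h⟩, x), mem_gr.2 ⟨h, by simp⟩, rfl⟩⟩

theorem card_gr (T : Submodule F (W × W')) (U : Submodule F W) (U' : Submodule F W') :
    (univ.filter fun s => gr U U' s = T).card =
      if T.comap (inl F W W') = U ∧ T.map (snd F W W') = U' then Fintype.card (U' →ₗ[F] U) else 0 := by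
  split_ifs with h
  · obtain ⟨rfl, rfl⟩ := h
    obtain ⟨σ, hσ⟩ := exists_rightInverse_of_surjective ((snd F W W').submoduleMap T)
      (range_eq_top.2 (submoduleMap_surjective _ _))
    let s₀ := fst F W W' ∘ₗ T.subtype ∘ₗ σ
    have h0 : ∀ y, (s₀ y, y.1) ∈ T := fun y => by
      have : (σ y).1.2 = y.1 := congrArg Subtype.val (LinearMap.congr_fun hσ y)
      rw [← this]; exact (σ y).2
    have key : ∀ s : T.map (snd F W W') →ₗ[F] W, gr (T.comap (inl F W W')) _ s = T ↔
        ∀ y, (s - s₀) y ∈ T.comap (inl F W W') := fun s =>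
      ⟨fun h y => by simpa using T.sub_mem (h.le (mem_gr.2 (⟨y.2, by simp⟩ : ∃ h : (s y, y.1).2 ∈ _, _))) (h0 y),
        fun h => Submodule.ext fun x => mem_gr.trans ⟨fun ⟨h1, h2⟩ => by
          simpa using T.add_mem (T.add_mem h2 (h ⟨_, h1⟩)) (h0 ⟨_, h1⟩), fun hx =>
          ⟨⟨x, hx, rfl⟩, by
            convert T.sub_mem (T.sub_mem hx (h ⟨_, x, hx, rfl⟩)) (h0 ⟨_, x, hx, rfl⟩) using 1
            exact Iff.of_eq (congrArg (· ∈ T) (Prod.ext (by simp; abel) (by simp)))⟩⟩⟩
    refine (card_nbij (fun t => s₀ + Submodule.subtype _ ∘ₗ t) (fun t _ => ?_) (fun t _ t' _ e => ?_)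
      fun s hs => ?_).symm
    · exact mem_filter.2 ⟨mem_univ _, (key _).2 fun y => by rw [add_sub_cancel_left]; exact (t y).2⟩
    · exact LinearMap.ext fun y => Subtype.ext (LinearMap.congr_fun (add_left_cancel e) y)
    · exact ⟨(s - s₀).codRestrict _ ((key s).1 (mem_filter.1 hs).2), mem_univ _, by ext; simp⟩
  · exact card_eq_zero.2 (filter_eq_empty_iff.2 fun s _ e => h (e ▸ ⟨comap_gr .., map_gr ..⟩))

theorem sum_gr (φ : Submodule F (W × W') → ℂ) : ∑ T, φ T =
    ∑ U : Submodule F W, ∑ U' : Submodule F W', (Fintype.card (U' →ₗ[F] U) : ℂ)⁻¹ * ∑ s, φ (gr U U' s) := by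
  have : ∀ (U : Submodule F W) (U' : Submodule F W'), (Fintype.card (U' →ₗ[F] U) : ℂ)⁻¹ *
      ∑ s, φ (gr U U' s) = ∑ T, if T.comap (inl F W W') = U ∧ T.map (snd F W W') = U' then φ T else 0 := by
    intro U U'
    rw [← sum_fiberwise univ (gr U U'), mul_sum]
    refine sum_congr rfl fun T _ => ?_
    rw [sum_congr rfl fun s hs => congrArg φ (mem_filter.1 hs).2, sum_const, card_gr]
    split_ifs <;> simp
  simp only [this]
  simp only [sum_comm (t := (univ : Finset (Submodule F (W × W')))), ite_and]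
  simp

theorem sum_fib {A B : Type*} [AddGroup A] [AddGroup B] [Fintype A] [Fintype B] (r : A →+ B)
    (hr : Function.Surjective r) (τ : B → B) :
    ∑ s, (univ.filter fun x => r x = τ s).card = Fintype.card A := by
  rw [← card_univ, card_eq_sum_card_fiberwise (f := r) (t := univ) (by simp)]
  exact sum_congr rfl fun s _ => by convert AddMonoidHom.card_fiber_eq_of_mem_range r (hr _) (hr _)

theorem iv_of_gr {a : End F W} {c : W' →ₗ[F] W} {e : End F W'} {U : Submodule F W} {U' : Submodule F W'}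
    {s : U' →ₗ[F] W} (h : Iv (blk a c e) (gr U U' s)) : Iv a U ∧ Iv e U' :=
  ⟨fun x hx => (comap_gr U U' s).le (by simpa using h (x, 0) ((comap_gr U U' s).ge hx)),
    fun x hx => (mem_gr.1 (h (s ⟨x, hx⟩, x) (mem_gr.2 ⟨hx, by simp⟩))).1⟩

theorem sum_d_gr {a : End F W} {e : End F W'} {U : Submodule F W} {U' : Submodule F W'} (h : Iv a U)
    (h' : Iv e U') : ∑ s, ∑ c, d b (blk a c e) (gr U U' s) =
      Fintype.card (W' →ₗ[F] W) * ∑ c, D b (blk (a.restrict h) c (e.restrict h')) := by
  have key : ∀ s c, d b (blk a c e) (gr U U' s) = ∑ c' : U' →ₗ[F] U, if c.domRestrict U' =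
      U.subtype ∘ₗ c' - a ∘ₗ s + s ∘ₗ e.restrict h' then D b (blk (a.restrict h) c' (e.restrict h')) else 0 := by
    intro s c
    by_cases h0 : ∃ c' : U' →ₗ[F] U, c.domRestrict U' = U.subtype ∘ₗ c' - a ∘ₗ s + s ∘ₗ e.restrict h'
    · obtain ⟨c', h0⟩ := h0
      rw [sum_eq_single c' (fun c'' _ h1 => if_neg fun h2 => h1 (LinearMap.ext fun y => Subtype.ext
        (by simpa using LinearMap.congr_fun (h2.symm.trans h0) y))) (by simp), if_pos h0]
      refine d_eq (blk_inj U U' s) fun x => Prod.ext ?_ rfl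
      have : c x.2 = _ := LinearMap.congr_fun h0 x.2
      simp [this]; abel
    · rw [sum_eq_zero fun c' _ => if_neg fun h1 => h0 ⟨c', h1⟩, d_neg fun h1 => h0
        ⟨(c.domRestrict U' + a ∘ₗ s - s ∘ₗ e.restrict h').codRestrict U fun y => ?_, by ext; simp; abel⟩]
      obtain ⟨_, h2⟩ := mem_gr.1 (h1 (s y, y) (mem_gr.2 ⟨y.2, by simp⟩))
      rw [add_comm (c.domRestrict U')]; exact h2
  rw [mul_sum, sum_congr rfl fun s _ => (sum_congr rfl fun c _ => key s c).trans sum_comm, sum_comm]
  refine sum_congr rfl fun c' _ => ?_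
  rw [← sum_fib (lcomp F W U'.subtype).toAddMonoidHom (fun t => t.exists_extend)
    fun s => U.subtype ∘ₗ c' - a ∘ₗ s + s ∘ₗ e.restrict h', Nat.cast_sum, sum_mul]
  exact sum_congr rfl fun s _ => by rw [← sum_filter, sum_const, nsmul_eq_mul]; congr

theorem avg_one {ι : Type*} {_ : Fintype ι} [Subsingleton ι] (i : ι) (f : ι → ℂ) :
    (Fintype.card ι : ℂ)⁻¹ * ∑ j, f j = f i := by
  rw [Fintype.card_eq_one_iff.2 ⟨i, fun _ => Subsingleton.elim _ _⟩, Fintype.sum_subsingleton _ i]; simp

theorem prim_aux (hb : Ad b) (n : ℕ) : ∀ {W W' : Type u} [AddCommGroup W] [Module F W] [Finite W]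
    [AddCommGroup W'] [Module F W'] [Finite W'] [Nontrivial W] [Nontrivial W'] (a : End F W)
    (e : End F W'), finrank F W + finrank F W' = n → ∑ c, D b (blk a c e) = 0 := by
  induction n using Nat.strong_induction_on with | _ n ih =>
  rintro W W' _ _ _ _ _ _ _ _ a e rfl
  have key : ∀ (U : Submodule F W) (U' : Submodule F W'), ∑ c, (Fintype.card (U' →ₗ[F] U) : ℂ)⁻¹ *
      ∑ s, (if gr U U' s = ⊤ then 0 else d b (blk a c e) (gr U U' s)) = Fintype.card (W' →ₗ[F] W) *
        ((if U' = ⊥ then d b a U else 0) + if U = ⊥ then d b e U' else 0) := by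
    intro U U'
    by_cases ht : U = ⊤ ∧ U' = ⊤
    · obtain ⟨rfl, rfl⟩ := ht
      have : ∀ s, gr (⊤ : Submodule F W) (⊤ : Submodule F W') s = ⊤ := fun s =>
        eq_top_iff.2 fun x _ => mem_gr.2 ⟨trivial, trivial⟩
      simp [this]
    have hn : ∀ s, gr U U' s ≠ ⊤ := fun s h => ht ⟨by rw [← comap_gr U U' s, h, Submodule.comap_top],
      by rw [← map_gr U U' s, h, Submodule.map_top, Submodule.range_snd]⟩
    simp only [if_neg (hn _)]
    rw [← mul_sum, sum_comm]
    by_cases hi : Iv a U ∧ Iv e U'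
    swap
    · rw [sum_eq_zero fun s _ => sum_eq_zero fun c _ => d_neg fun h => hi (iv_of_gr h)]
      by_cases h1 : U' = ⊥ <;> by_cases h2 : U = ⊥
      · simp [h1, h2, d_bot hb]
      · simp [h1, h2, d_neg fun h => hi ⟨h, by simp [h1, Iv]⟩]
      · simp [h1, h2, d_neg fun h => hi ⟨by simp [h2, Iv], h⟩]
      · simp [h1, h2]
    rw [sum_d_gr hi.1 hi.2, mul_left_comm]
    congr 1
    by_cases h1 : U' = ⊥
    · subst h1
      rw [if_pos rfl, d_bot hb, ite_self, add_zero, avg_one 0, d, dif_pos hi.1]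
      exact D_sim ⟨LinearEquiv.prodUnique, fun x => by simp [Subsingleton.elim x.2 0]⟩
    by_cases h2 : U = ⊥
    · subst h2
      rw [if_neg h1, if_pos rfl, zero_add, avg_one 0, d, dif_pos hi.2]
      exact D_sim ⟨LinearEquiv.uniqueProd, fun x => by simp⟩
    have := Submodule.nontrivial_iff_ne_bot.2 h1
    have := Submodule.nontrivial_iff_ne_bot.2 h2
    rw [if_neg h1, if_neg h2, ih _ ?_ _ _ rfl, mul_zero, add_zero]
    have := U.finrank_le
    have := U'.finrank_le
    rcases not_and_or.1 ht with h | h <;> have := Submodule.finrank_lt h <;> omega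
  rw [sum_congr rfl fun c _ => (D_eq (blk a c e)).trans (congrArg₂ (· - ·) ((congrArg b (charpoly_blk a c e)).trans
    (hb _ _ (charpoly_monic _) (charpoly_monic _))) (sum_gr _)), sum_sub_distrib,
    sum_comm, sum_congr rfl fun U _ => sum_comm.trans (sum_congr rfl fun U' _ => key U U')]
  simp only [← mul_sum, sum_add_distrib]
  rw [sum_comm (f := fun U U' => if U = ⊥ then _ else _)]
  simp [sum_d, mul_add]

/-- the sum of `D` over a coset of a unipotent radical vanishes -/
theorem prim (hb : Ad b) [Nontrivial W] [Nontrivial W'] (a : End F W) (e : End F W') :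
    ∑ c, D b (blk a c e) = 0 := prim_aux hb _ a e rfl

end H63.Cusp
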