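import Cfsg.Agent.H57.U2CSpec
import Cfsg.Agent.H77.DpuHH
import Cfsg.Agent.H48.DP3Kit

/-! # S3275, chapter U2F: job CT (the standing situation). -/

set_option autoImplicit false

namespace H63.DpvCT

open Subgroup Cfsg H98 H48.DP H57.DPC H48.DP2 H57.U2C H77.DpuHH

universe u

variable {G : Type u} [Group G] [Finite G] {M Q T R : Subgroup G} {y t : G}

theorem tr (ha : Am M T R y t) : T ≤ No R := fun g hg => mem_normalizer_of_cj_le <| by
  rintro _ ⟨r, hr, rfl⟩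
  show g * r * g⁻¹ ∈ R
  by_cases gR : g ∈ R
  · exact mul_mem (mul_mem gR hr) (inv_mem gR)
  · exact am_mul ha _ (mul_mem hg (ha.RT hr)) _ (inv_mem hg)
      (fun h => gR ((mul_mem_cancel_right hr).1 h)) fun h => gR (inv_mem_iff.1 h)

theorem pm (ha : Am M T R y t) : ∀ e ∈ T ⊔ zpowers y, ∃ s ∈ T, e = s ∨ e = y * s ∨ e = y⁻¹ * s := by
  have y3 : y * y = y⁻¹ := by
    rw [eq_inv_iff_mul_eq_one, ← pow_three', ← ha.y3, pow_orderOf_eq_one]
  have c1 : ∀ r ∈ R, y * r * y⁻¹ ∈ T := fun r hr => ha.RT (conj_mem_of_mem_normalizer ha.yR hr)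
  have c2 : ∀ r ∈ R, y⁻¹ * r * y ∈ T := fun r hr => by
    simpa using ha.RT (conj_mem_of_mem_normalizer (inv_mem ha.yR) hr)
  have ty' : t * y⁻¹ * t⁻¹ = y :=
    calc t * y⁻¹ * t⁻¹ = (t * y * t⁻¹)⁻¹ := by group
      _ = y := by rw [ha.ty, inv_inv]
  have kT : ∀ x ∈ T, ∀ e : G, (∃ s ∈ T, e = s ∨ e = y * s ∨ e = y⁻¹ * s) →
      ∃ s ∈ T, x * e = s ∨ x * e = y * s ∨ x * e = y⁻¹ * s := by
    rintro x hx e ⟨s, hs, rfl | rfl | rfl⟩
    · exact ⟨_, mul_mem hx hs, .inl rfl⟩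
    · by_cases xR : x ∈ R
      · exact ⟨_, mul_mem (c2 x xR) hs, .inr (.inl (by group))⟩
      · have h1 := am_mul ha x hx _ (inv_mem ha.tT) xR fun h => ha.tR (inv_mem_iff.1 h)
        refine ⟨_, mul_mem (mul_mem (c1 _ h1) ha.tT) hs, .inr (.inr ?_)⟩
        calc x * (y * s) = x * t⁻¹ * (t * y * t⁻¹) * t * s := by group
          _ = _ := by rw [ha.ty]; group
    · by_cases xR : x ∈ R
      · exact ⟨_, mul_mem (c1 x xR) hs, .inr (.inr (by group))⟩
      · have h1 := am_mul ha x hx _ (inv_mem ha.tT) xR fun h => ha.tR (inv_mem_iff.1 h)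
        refine ⟨_, mul_mem (mul_mem (c2 _ h1) ha.tT) hs, .inr (.inl ?_)⟩
        calc x * (y⁻¹ * s) = x * t⁻¹ * (t * y⁻¹ * t⁻¹) * t * s := by group
          _ = _ := by rw [ty']; group
  have kY : ∀ x ∈ zpowers y, ∀ e : G, (∃ s ∈ T, e = s ∨ e = y * s ∨ e = y⁻¹ * s) →
      ∃ s ∈ T, x * e = s ∨ x * e = y * s ∨ x * e = y⁻¹ * s := by
    intro x hx e he
    obtain ⟨k, rfl⟩ := (Submonoid.mem_powers_iff x y).mp (mem_powers_iff_mem_zpowers.mpr hx)
    clear hx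
    induction k with
    | zero => simpa using he
    | succ k ih =>
      obtain ⟨s, hs, h | h | h⟩ := ih
      · exact ⟨s, hs, .inr (.inl (by rw [pow_succ', mul_assoc, h]))⟩
      · exact ⟨s, hs, .inr (.inr (by rw [pow_succ', mul_assoc, h, ← mul_assoc, y3]))⟩
      · exact ⟨s, hs, .inl (by rw [pow_succ', mul_assoc, h, mul_inv_cancel_left])⟩
  intro e he
  rw [sup_eq_closure] at he
  induction he using closure_induction_left with
  | one => exact ⟨1, one_mem T, .inl rfl⟩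
  | mul_left x hx e _ ih => exact hx.elim (fun h => kT x h e ih) fun h => kY x h e ih
  | inv_mul_cancel x hx e _ ih =>
    exact hx.elim (fun h => kT _ (inv_mem h) e ih) fun h => kY _ (inv_mem h) e ih

theorem o2_eq (hu : Uq M Q) (ha : Am M T R y t) {H : Subgroup G} (h1 : T ≤ H) (h2 : y ∈ H)
    (h3 : H ≤ No R) : O2 H = R := by
  have sy := isSyl_top_iff.2 ha.syl
  have hle : R ≤ O2 H := le_pCoreOf (sy.isPGroup.to_le ha.RT) (ha.RT.trans h1) h3
  have hT : O2 H ≤ T := (sy.of_le h1 le_top).pCoreOf_le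
  refine le_antisymm (fun a haO => ?_) hle
  by_contra aR
  have e : O2 H = T := le_antisymm hT fun b hb => by
    by_cases bR : b ∈ R
    · exact hle bR
    · simpa using mul_mem (inv_mem haO) (hle (am_mul ha a (hT haO) b hb aR bR))
  exact ha.yM (hu.nq T sy.isPGroup (q_le hu ha) ha.TM (e ▸ self_le_normalizer_pCoreOf H h2))

theorem r_ne (hu : Uq M Q) (ha : Am M T R y t) : R ≠ ⊥ := fun e => by
  have hQ := q_le hu ha
  have hM : M ≤ Q := fun m hm => hu.cq <| mem_Ce.2 fun q hq => by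
    by_cases q1 : q = 1
    · rw [q1, one_mul, mul_one]
    have hq' : m * q * m⁻¹ ∈ Q := conj_mem_of_mem_normalizer (hu.no.ge hm) hq
    have n : ∀ {a : G}, a ≠ 1 → a ∉ R := fun h h' => h (mem_bot.1 (e ▸ h'))
    have a1 := am_mul ha q (hQ hq) q (hQ hq) (n q1) (n q1)
    have a2 := am_mul ha q (hQ hq) _ (hQ hq') (n q1) (n fun h => q1 (conj_eq_one_iff.1 h))
    rw [e, mem_bot] at a1 a2
    have a3 := mul_left_cancel (a1.trans a2.symm)
    exact mul_inv_eq_iff_eq_mul.1 a3.symm |>.symm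
  obtain ⟨B, BM, -, hc⟩ := hu.e27
  have h1 := card_le_of_le (BM.trans (hM.trans hQ))
  have h2 := ha.idx
  rw [e, relIndex_bot_left] at h2
  omega

theorem two_le (hu : Uq M Q) {X : Subgroup G} (hX : IsPGroup 2 X) (h : Q ≤ X) : X ≤ M := by
  have : Fact (Nat.Prime 2) := ⟨Nat.prime_two⟩
  by_contra hn
  have h1 : X ⊓ M < X := lt_of_le_of_ne inf_le_left fun e => hn (inf_eq_left.1 e)
  have hQM : Q ≤ M := hu.no ▸ le_normalizer
  exact (lt_inf_normalizer hX h1).not_ge (inf_le_inf_left X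
    (hu.nq (X ⊓ M) (hX.to_le inf_le_left) (le_inf h hQM) inf_le_right))

theorem up (hu : Uq M Q) (ha : Am M T R y t) (g : G) (h : cj g Q ≤ M) : g ∈ M := by
  have : Fact (Nat.Prime 2) := ⟨Nat.prime_two⟩
  have sy := isSyl_top_iff.2 ha.syl
  have sM := sy.of_le ha.TM le_top
  obtain ⟨m, hm, h1⟩ := sM.exists_cj_le (isPGroup_cj g (hu.o2 ▸ isPGroup_pCoreOf M)) h
  rw [cj_cj, cj_le_iff] at h1
  have s' := sy.cj_of_mem (mem_top (m * g)⁻¹)
  obtain ⟨m', hm', e⟩ := sM.exists_cj_eq (s'.of_le (two_le hu s'.isPGroup h1) le_top)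
  have h2 : m * g * m' ∈ No T := cj_eq_self_iff.1 (by rw [← cj_cj, e, cj_cj_inv])
  simpa [mul_assoc] using
    mul_mem (mul_mem (inv_mem hm) (hu.nq T sy.isPGroup (q_le hu ha) ha.TM h2)) (inv_mem hm')

theorem jobCT : H57.U2C.JobCT.{u} := by
  intro eq el lx G _ _ M Q T R y t hu ha
  have sy := isSyl_top_iff.2 ha.syl
  have hR := sy.isPGroup.to_le ha.RT
  refine ⟨sy, ha.TM, q_le hu ha, ha.RT, hu.no.ge, tr ha, ha.yR, ha.y3, ha.yM, ha.idx, am_mul ha, ?_,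
    fun q qT qR => ?_, ha.tT, ha.tR, ha.ty, pm ha,
    o2_eq hu ha le_sup_left (mem_sup_right (mem_zpowers y)) (sup_le (tr ha) (zpowers_le.2 ha.yR)),
    fun K h1 h2 h3 => hu.o2 ▸ le_pCoreOf h3 h1 h2, hu.cq, fun c hc => ?_, hu.nt, hu.ti, up hu ha,
    fun X E h1 h2 h3 h4 h5 h6 => eq G M Q hu.toUw _ E (o2_No_ne_bot h1 h2) h3 h4 h5 h6,
    fun F hF v v1 v2 ⟨E, e1, e2, e3, e4⟩ =>
      eq G M Q hu.toUw _ E (o2_C1_ne_bot v1 v2) e4 (e1.trans hF) e2 e3,
    el G M Q T R y t hu ha, lx G M Q T R y t hu ha⟩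
  · by_contra h
    push Not at h
    exact ha.yM (hu.nq R hR h (ha.RT.trans ha.TM) ha.yR)
  · have h1 := am_mul ha q qT _ (inv_mem ha.tT) qR fun h => ha.tR (inv_mem_iff.1 h)
    have : q * y * q⁻¹ * y = q * t⁻¹ * (t * y * t⁻¹ * (q * t⁻¹)⁻¹ * y) := by group
    rw [this, ha.ty]
    exact mul_mem h1 (conj_mem_of_mem_normalizer' ha.yR (inv_mem h1))
  · have h1 : CharP 2 (No R) := charP_iff.2 (hu.char.2 R hR (r_ne hu ha))
    have h2 := o2_eq hu ha (tr ha) ha.yR le_rfl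
    have h3 : No R ⊓ Ce (O2 (No R)) ≤ O2 (No R) := h1
    rw [h2] at h3
    exact h3 ⟨centralizer_le_normalizer _ hc, hc⟩

end H63.DpvCT
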