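import Cfsg.Agent.H63.KgvTop
import Cfsg.Agent.H31.KgvMain
import Cfsg.Agent.H93.KgvNW1
import Cfsg.Agent.H93.KgvNW2
import Cfsg.Agent.H37.KgvPW1
import Cfsg.Agent.H30.KgvPW2
import Cfsg.Agent.H52.KgvAN
import Cfsg.Agent.H83.KgvAR
import Cfsg.Agent.H81.KgvHD
import Cfsg.Agent.H64.KgvPA
import Cfsg.Agent.H32.KgvPB
import Cfsg.Agent.H23.KgvBR
import Cfsg.Agent.H18.KgvLF
import Cfsg.Agent.H15.KgvH1
import Cfsg.Agent.H72.KgvH2
import Cfsg.Agent.H39.KgvH3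
import Cfsg.Agent.H46.KgvH4
import Cfsg.Agent.H99.KgvJH5
import Cfsg.Agent.H38.KgvH6
import Cfsg.Agent.H87.KgvGc
import Cfsg.Agent.H91.KgvPd
import Cfsg.Agent.H82.KgvCN
import Cfsg.Agent.H51.KgvTm
import Cfsg.Agent.H73.KgvTI
import Cfsg.Agent.H17.KgvEg
import Cfsg.Agent.H13.KgvSg
import Cfsg.Agent.H9.KgvSa
import Cfsg.Agent.H25.KgvSb
import Cfsg.Agent.H43.KgvSF
import Cfsg.Agent.H20.KgvSQ
import Cfsg.Agent.H60.KgvVL
import Cfsg.Agent.H65.KgvGL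
import Cfsg.Agent.H90.KgvI1
import Cfsg.Agent.H89.KgvSm
import Cfsg.Agent.H10.KgvI2
import Cfsg.Agent.H67.KgvI0
import Cfsg.Agent.H28.KgvOr
import Cfsg.Agent.H45.KgvNL
import Cfsg.Agent.H27.KgvVR
import Cfsg.Agent.H33.KgvBI
import Cfsg.Agent.H53.KgvBl
import Cfsg.Agent.H69.KgvMN

/-! # Tower KGV closed -/

set_option autoImplicit false

namespace H63.Kgv

universe u

theorem hs : HsSt :=
  hs_of H93.KgvNW.job1 H93.KgvNW.job2 H37.KgvPW1.job H30.KgvPW2.job H52.KgvAN.job H83.KgvAR.job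
    H81.KgvHD.job H64.KgvPA.job H32.KgvPB.job H23.KgvBR.job H18.Kgv.job H15.KgvH1.job
    H72.KgvH2.job H39.KgvH3.job H46.KgvH4.job H99.KgvJH5.job H38.KgvH6.job

theorem main : Main.{u} :=
  main_of hs H87.KgvGc.job H91.KgvPd.job H82.KgvCN.job H51.KgvTm.job H73.KgvTI.job H17.KgvEg.job
    H13.KgvSg.job H9.KgvSa.job H25.KgvSb.job H43.KgvSF.job H20.KgvSQ.job H60.KgvVL.job
    H65.KgvGL.job H90.KgvI1.job H89.KgvSm.job H10.KgvI2.job H67.KgvI0.job H28.KgvOr.job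
    H45.KgvNL.job H27.KgvVR.job H33.KgvBI.job H53.KgvBl.job H69.KgvMN.job

theorem gamSt : H31.Kgv.GamSt.{u} := H31.Kgv.gamSt_of_main main

theorem kgv : KgvSt.{u} := H31.Kgv.kgvSt_of_main main

end H63.Kgv
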