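import Cfsg.Agent.H63.KgvSpec

/-! # Tower KGV: assembly of the slots -/

set_option autoImplicit false

namespace H63.Kgv

universe u

theorem hs_of (nw1 : JNW1) (nw2 : JNW2) (pw1 : JPW1) (pw2 : JPW2) (jan : JAN) (jar : JAR) (jhd : JHD)
    (jpa : JPA) (jpb : JPB) (br : JBR) (jlf : JLF) (h1 : JH1) (h2 : JH2) (h3 : JH3) (h4 : JH4)
    (h5 : JH5) (h6 : JH6) : HsSt := by
  have hd := jhd nw1 nw2 pw1 pw2 jan
  have lf := jlf br hd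
  have ar := jar pw1
  have pa := jpa nw1 nw2 pw1 pw2 hd
  have pb := jpb nw1 nw2 pw1 pw2
  exact hsSt br lf h1 h2 h3 (h4 br lf ar pa) (h5 br lf h1 ar pa pb) h6

theorem main_of (hs : HsSt) (gc : GcSt.{u}) (pd : PdSt.{u}) (cn : JCN.{u}) (tm : TmSt.{u})
    (ti : JTI.{u}) (eg : EgSt.{u}) (sg : SgSt.{u}) (sa : SaSt.{u}) (sb : SbSt.{u}) (sf : JSF.{u})
    (sq : JSQ.{u}) (vl : JVL.{u}) (gl : JGL.{u}) (i1 : JI1.{u}) (sm : JSM.{u}) (i2 : JI2.{u})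
    (i0 : JI0.{u}) (jor : JOR.{u}) (nl : JNL.{u}) (vr : JVR.{u}) (bi : JBI.{u}) (bl : BlSt.{u})
    (mn : JMN.{u}) : Main.{u} :=
  mn hs eg bl (bi gc eg (vr gc pd cn eg (nl gc eg (sq (sf sg sa sb)) (i0 gc eg)
    (i1 (ti tm) (vl eg) (gl gc)) (i2 eg (sm gc) (vl eg) (gl gc)) (jor eg))))

end H63.Kgv
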