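/- The data `LF` for the two families of Ree groups (job K-REE of the tower NSFT). -/
import Cfsg.Agent.H67.LFKit
import Cfsg.Agent.H68.OutRee
import Cfsg.Agent.H63.NSSO1

set_option autoImplicit false
set_option linter.unusedSectionVars false

namespace H63.NSRee

open Cfsg hiding pRank
open Subgroup H24.NS H67 H67.LFK H68 Cfsg.Lie
open H46 (Nrm)

theorem irrC_param {G F Z : Type*} [Group G] [Finite G] [Field F] [Nonempty Z] {H X : Subgroup G}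
    (u : F × Z → G) (mu : F × Z → F × Z → F × Z) (hX : ∀ g, g ∈ X ↔ ∃ p, g = u p)
    (hu : Function.Injective u) (hmu : ∀ p p', u (mu p p') = u p * u p')
    (h1 : ∀ p p', (mu p p').1 = p.1 + p'.1) (hH : ∀ h ∈ H, ∀ x ∈ X, h * x * h⁻¹ ∈ X)
    (hχ : ∀ h ∈ H, ∀ p p', h * u p * h⁻¹ = u p' → p.1 = 0 → p'.1 = 0)
    (htr : ∀ s : F, s ≠ 0 → ∃ h ∈ H, ∀ p p', h * u p * h⁻¹ = u p' → p'.1 = s * p.1)
    (hfr : ∀ Y : Subgroup G, (∀ h ∈ H, ∀ y ∈ Y, h * y * h⁻¹ ∈ Y) → (∀ a, ∃ z, u (a, z) ∈ Y) →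
      ∀ z, u (0, z) ∈ Y) : IrrC H X := by
  have hm : ∀ p, u p ∈ X := fun p => (hX _).2 ⟨p, rfl⟩
  have hd : ∀ p p' p'', (u p)⁻¹ * u p' = u p'' → p'.1 = p.1 + p''.1 := fun p p' p'' e => by
    rw [← h1, hu (a₂ := p') ((hmu p p'').trans (by rw [← e, mul_inv_cancel_left]))]
  obtain ⟨p₀, h0⟩ := (hX 1).1 (one_mem _)
  have h00 : p₀.1 = 0 := by simpa using hd p₀ p₀ p₀ (by simp [← h0])
  let Φ : Subgroup G :=
    { carrier := {g | ∃ p, p.1 = 0 ∧ g = u p}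
      mul_mem' := by
        rintro _ _ ⟨p, e, rfl⟩ ⟨p', e', rfl⟩
        exact ⟨mu p p', by rw [h1, e, e', add_zero], (hmu p p').symm⟩
      one_mem' := ⟨p₀, h00, h0⟩
      inv_mem' := by
        rintro _ ⟨p, e, rfl⟩
        obtain ⟨p', e'⟩ := (hX _).1 (inv_mem (hm p))
        exact ⟨p', by simpa [h00, e] using (hd p p₀ p' (by rw [← h0, mul_one, e'])).symm, e'⟩ }
  have hΦ : ∀ p, u p ∈ Φ ↔ p.1 = 0 := fun p =>
    ⟨fun ⟨_, e, e'⟩ => hu e' ▸ e, fun e => ⟨p, e, rfl⟩⟩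
  have key : ∀ p p', (u p)⁻¹ * u p' ∈ Φ ↔ p'.1 = p.1 := fun p p' => by
    obtain ⟨p'', e⟩ := (hX _).1 (mul_mem (inv_mem (hm p)) (hm p'))
    rw [e, hΦ, hd p p' p'' e, add_eq_left]
  obtain ⟨z₀⟩ := ‹Nonempty Z›
  refine irrC_of_trans (Φ := Φ) (by rintro _ ⟨p, -, rfl⟩; exact hm p) hH ?_ (hm (1, z₀))
    (fun h => one_ne_zero ((hΦ _).1 h)) (fun x hx h2 y hy h3 => ?_) fun Y hY hn h => ?_
  · rintro h hh _ ⟨p, e, rfl⟩
    obtain ⟨p', e'⟩ := (hX _).1 (hH h hh _ (hm p))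
    exact ⟨p', hχ h hh p p' e' e, e'⟩
  · obtain ⟨p, rfl⟩ := (hX _).1 hx
    obtain ⟨p', rfl⟩ := (hX _).1 hy
    rw [hΦ] at h2 h3
    obtain ⟨h, hh, e⟩ := htr _ (div_ne_zero h3 h2)
    obtain ⟨p'', e'⟩ := (hX _).1 (hH h hh _ (hm p))
    exact ⟨h, hh, by rw [e', key, e p p'' e', div_mul_cancel₀ _ h2]⟩
  · rintro _ ⟨⟨a, z⟩, rfl, rfl⟩
    refine hfr Y hn (fun a => ?_) z
    obtain ⟨y, hy, e⟩ := h _ (hm (a, z₀))
    obtain ⟨⟨b, z'⟩, rfl⟩ := (hX _).1 (hY hy)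
    obtain rfl : a = b := (key _ _).1 e
    exact ⟨z', hy⟩

theorem sbn_ext {p : ℕ} {G : Type*} [Group G] {D D' : SBN p G} (hB : D.P.B = D'.P.B)
    (hN : D.P.N = D'.P.N) (hS : D.P.S = D'.P.S) (hU : D.U = D'.U) : D = D' := by
  obtain ⟨⟨B, N, S⟩, U⟩ := D
  obtain ⟨⟨B', N', S'⟩, U'⟩ := D'
  dsimp only at hB hN hS hU
  subst hB hN hS hU
  rfl

section Tw

variable {R ι : Type} [Fintype R] [DecidableEq R] [Fintype ι] [DecidableEq ι] {D : RD R ι}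
  {G : Type*} [Group G] [Finite G] {T : H64.RGD D.toW G} {Ω : Type} {τ : Tw D Ω} {S : TwG T τ}
  {K : Subgroup G} (hK : S.IsTw K)

/-- the simple root groups of the split pair of a twisted group -/
theorem twSBN_X {p : ℕ} [Fact p.Prime] (A : Subgroup G) (hA : A = T.Gp) (hU : IsPGroup p T.U)
    (hH : ¬ p ∣ Nat.card T.H) : (twSBN A hA hU hH hK).H = hK.grdK.H ∧
    ∃ e : Ω ≃ (twSBN A hA hU hH hK).P.S,
      ∀ o, (twSBN A hA hU hH hK).X (e o) = hK.grdK.X (τ.wdata.p o) := by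
  have h1 : (twSBN A hA hU hH hK).U = hK.grdK.U :=
    Subgroup.ext fun _ => (mem_twSBN_U A hA hU hH hK).trans hK.mem_grdK_U.symm
  have h2 : (twSBN A hA hU hH hK).H = hK.grdK.H :=
    Subgroup.ext fun _ => (mem_twSBN_H A hA hU hH hK).trans hK.mem_grdK_H.symm
  have hU' : IsPGroup p hK.grdK.U := h1 ▸ (twSBN A hA hU hH hK).isP
  have hH' : ¬ p ∣ Nat.card hK.grdK.H := h2 ▸ (twSBN A hA hU hH hK).H_cop
  refine ⟨h2, ?_⟩
  rw [sbn_ext (D := twSBN A hA hU hH hK) (D' := ofGRD hK.grdK hK.grdK_Gp hU' hH')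
    (Subgroup.ext fun _ => (mem_twSBN_B A hA hU hH hK).trans hK.mem_grdK_B.symm)
    (Subgroup.ext fun _ => (mem_twSBN_N A hA hU hH hK).trans hK.mem_grdK_N.symm) rfl h1]
  exact ⟨H54.sEq _ hK.grdK_Gp, ofGRD_X _ _ _ _⟩

theorem irrC_tw {F Z : Type*} [Field F] [Nonempty Z] (o : Ω) (u : F × Z → G)
    (mu : F × Z → F × Z → F × Z) (hX : ∀ g, g ∈ UJ T (τ.J {o}) ⊓ S.Fix ↔ ∃ p, g = u p)
    (hu : Function.Injective u) (hmu : ∀ p p', u (mu p p') = u p * u p')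
    (h1 : ∀ p p', (mu p p').1 = p.1 + p'.1)
    (hχ : ∀ h ∈ T.H, ∀ p p', h * u p * h⁻¹ = u p' → p.1 = 0 → p'.1 = 0)
    (htr : ∀ s : F, s ≠ 0 → ∃ h ∈ T.H ⊓ K, ∀ p p', h * u p * h⁻¹ = u p' → p'.1 = s * p.1)
    (hfr : ∀ Y : Subgroup G, (∀ h ∈ T.H ⊓ K, ∀ y ∈ Y, h * y * h⁻¹ ∈ Y) →
      (∀ a, ∃ z, u (a, z) ∈ Y) → ∀ z, u (0, z) ∈ Y) :
    IrrC hK.grdK.H (hK.grdK.X (τ.wdata.p o)) := by
  have hm : ∀ p, u p ∈ K := fun p => hK.U_le o ((hX _).2 ⟨p, rfl⟩)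
  refine irrC_param (fun p => ⟨u p, hm p⟩) mu (fun g => ?_) (fun p p' e => hu (congrArg Subtype.val e))
    (fun p p' => Subtype.ext (hmu p p')) h1 (fun h hh x hx => hK.grdK.h_conj h hh _ x hx)
    (fun h hh p p' e => hχ h (hK.mem_grdK_H.1 hh) p p' (congrArg Subtype.val e)) (fun s hs => ?_)
    fun Y hn h z => ?_
  · rw [hK.mem_grdK_X_p]
    exact ⟨fun h => ((hX g).1 ⟨h, hK.le_fix g.2⟩).imp fun p e => Subtype.ext e,
      fun ⟨p, e⟩ => ((hX _).2 ⟨p, congrArg Subtype.val e⟩).1⟩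
  · obtain ⟨h, hh, e⟩ := htr s hs
    exact ⟨⟨h, hh.2⟩, hK.mem_grdK_H.2 hh.1, fun p p' e' => e p p' (congrArg Subtype.val e')⟩
  · obtain ⟨y, hy, e⟩ := hfr (Y.map K.subtype) (by
      rintro h hh _ ⟨y, hy, rfl⟩
      exact ⟨_, hn ⟨h, hh.2⟩ (hK.mem_grdK_H.2 hh.1) y hy, rfl⟩)
      (fun a => (h a).imp fun z hz => ⟨_, hz, rfl⟩) z
    rwa [show (⟨u (0, z), hm _⟩ : K) = y from Subtype.ext e.symm]

end Tw

variable {K : Type} [Field K] [Fintype K] {m : ℕ}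

section F4

variable (hK : Fintype.card K = 2 ^ (2 * m + 1))

theorem irrC_F4 (o : Fin 2) :
    IrrC (isTw_F4 hK).grdK.H ((isTw_F4 hK).grdK.X (twF4.wdata.p o)) := by
  have := charP_two hK
  obtain ⟨φ, hφ⟩ : ∃ φ : K →+* K, ∀ t, φ t = t ^ 2 ^ m := ⟨iterateFrobenius K 2 m, fun _ => rfl⟩
  have h2 : ∀ t, φ (φ t) ^ 2 = t := fun t => by rw [hφ, hφ, ← pow_mul (t ^ _), pow_theta2 hK]
  have hT : ∀ s, hReeF K (2 ^ m) s ∈ (mat chevF4 K).T.H ⊓ twistedF4 K (2 ^ m) := fun s =>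
    (H_inf_F4 hK).ge ⟨s, rfl⟩
  obtain rfl | rfl : o = 0 ∨ o = 1 := by omega
  · let u : K × Unit → GL chevF4.Idx K := fun p => (mat chevF4 K).wd [(33, φ p.1), (24, p.1)]
    have hc : ∀ c p p', (mat chevF4 K).tor c * u p * ((mat chevF4 K).tor c)⁻¹ = u p' →
        p'.1 = CM.chi c 24 * p.1 := fun c p p' e => by
      rw [CM.tor_conj_wd _ _ (by simp; decide)] at e
      have := nfU0_F4.inj _ _ rfl rfl e
      simp only [List.map_cons, List.cons.injEq, Prod.mk.injEq, true_and] at this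
      exact this.2.1.symm
    refine irrC_tw (isTw_F4 hK) 0 u (fun p p' => (p.1 + p'.1, ()))
      (fun g => nfU0_F4.mem_inf_Fix.trans ((fixU0_F4 hK).trans (by
        simp only [f4PairWord, ← hφ, Prod.exists, u, exists_const])))
      (fun p p' e => ?_) (fun p p' => ?_) (fun _ _ => rfl) (fun h hh p p' e h0 => ?_)
      (fun s hs => ⟨_, hT (1, (Units.mk0 s hs)⁻¹), fun p p' e => ?_⟩) fun Y _ h z => h 0 |>.choose_spec
    · have := nfU0_F4.inj _ _ rfl rfl e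
      simp only [List.cons.injEq, Prod.mk.injEq, true_and, and_true] at this
      exact Prod.ext this.2 rfl
    · simp only [u, CM.wd, List.map_cons, List.map_nil, List.prod_cons, List.prod_nil, mul_one, map_add,
        ← CM.x_add]
      rw [mul_assoc, mul_assoc, ← mul_assoc (CM.x _ 24 _) (CM.x _ 33 _),
        (mat chevF4 K).x_comm (r := 33) (s := 24) (by decide) (by decide) (by decide) (by decide +kernel),
        mul_assoc]
    · obtain ⟨c, rfl⟩ := (mat chevF4 K).exists_tor hh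
      rw [hc c p p' e, h0, mul_zero]
    · rw [hc (tl chevF4 [_, _, _, _]) p p' e, (chiF4 _ _ _ _).2.1]
      simp
  · let u : K × K → GL chevF4.Idx K := fun p =>
      (mat chevF4 K).wd [(27, φ p.1), (25, p.1), (28, φ p.1 * p.1 + p.2), (30, φ p.2 ^ 2)]
    have hc : ∀ c p p', (mat chevF4 K).tor c * u p * ((mat chevF4 K).tor c)⁻¹ = u p' →
        p'.1 = CM.chi c 25 * p.1 := fun c p p' e => by
      rw [CM.tor_conj_wd _ _ (by simp; decide)] at e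
      have := nfU1_F4.inj _ _ rfl rfl e
      simp only [List.map_cons, List.cons.injEq, Prod.mk.injEq, true_and] at this
      exact this.2.1.symm
    have h5 : ∀ p p', u (szM φ p p') = u p * u p' := fun p p' => by
      simp only [u, mulU_F4, szM, map_add, map_mul, add_pow_char, mul_pow, h2]
      ring_nf
      simp [CharTwo.two_eq_zero]
    refine irrC_tw (isTw_F4 hK) 1 u (szM φ)
      (fun g => nfU1_F4.mem_inf_Fix.trans ((fixU1_F4 hK).trans (by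
        simp only [b2ClassWord, pow_succ, pow_mul', ← hφ, Prod.exists, u])))
      (fun p p' e => ?_) h5 (fun _ _ => rfl) (fun h hh p p' e h0 => ?_)
      (fun s hs => ⟨_, hT ((Units.mk0 s hs)⁻¹, 1), fun p p' e => ?_⟩) fun Y _ h z => ?_
    · have := nfU1_F4.inj _ _ rfl rfl e
      simp only [List.cons.injEq, Prod.mk.injEq, true_and, and_true] at this
      exact Prod.ext this.2.1 (by simpa [this.2.1] using this.2.2.1)
    · obtain ⟨c, rfl⟩ := (mat chevF4 K).exists_tor hh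
      rw [hc c p p' e, h0, mul_zero]
    · rw [hc (tl chevF4 [_, _, _, _]) p p' e, (chiF4 _ _ _ _).2.2.2.1]
      simp
    · obtain ⟨b, hb⟩ := h (z ^ 2 / φ z ^ 2)
      have := mul_mem hb hb
      rw [← h5] at this
      convert this using 2
      refine Prod.ext (CharTwo.add_self_eq_zero _).symm ?_
      by_cases hz : z = 0
      · simp [szM, hz, CharTwo.add_self_eq_zero]
      have h3 : φ z ≠ 0 := by simpa using hz
      simp only [szM, CharTwo.add_self_eq_zero, zero_add, map_div₀, map_pow, h2]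
      field_simp

theorem lf_F4 [CharP K 2] : LF 2 (twChev 2 (isTw_F4 hK)) := by
  obtain ⟨hH, e, hX⟩ : (twChev 2 (isTw_F4 hK)).H = (isTw_F4 hK).grdK.H ∧
      ∃ e : Fin 2 ≃ (twChev 2 (isTw_F4 hK)).P.S, ∀ o, (twChev 2 (isTw_F4 hK)).X (e o) =
        (isTw_F4 hK).grdK.X (twF4.wdata.p o) := twSBN_X (isTw_F4 hK) _ _ _ _
  refine ⟨good_twF4 2 hK, fun r hr h => ?_, fun s => ?_, fun h => ?_⟩
  · rw [← Nat.card_congr e, Nat.card_eq_fintype_card, Fintype.card_fin] at h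
    rw [le_antisymm h hr.two_le, card_F4 hK, mul_assoc, mul_assoc, mul_assoc]
    exact Dvd.dvd.mul_right (dvd_pow (dvd_pow_self 2 (by omega)) (by omega)) _
  · obtain ⟨o, rfl⟩ := e.surjective s
    rw [hX, hH]
    exact irrC_F4 hK o
  · exact absurd e.subsingleton (not_subsingleton _)

end F4

section G2

variable (hK : Fintype.card K = 3 ^ (2 * m + 1))

theorem irrC_G2 (hm : 1 ≤ m) (o : Fin 1) :
    IrrC (isTw_G2 hK).grdK.H ((isTw_G2 hK).grdK.X (twG2.wdata.p o)) := by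
  have := charP_three hK
  have : Fact (Nat.Prime 3) := ⟨Nat.prime_three⟩
  obtain ⟨φ, hφ⟩ : ∃ φ : K →+* K, ∀ t, φ t = t ^ 3 ^ m := ⟨iterateFrobenius K 3 m, fun _ => rfl⟩
  obtain ⟨ψ, hψ⟩ : ∃ ψ : K →+* K, ∀ t, ψ t = φ t ^ 3 := ⟨(frobenius K 3).comp φ, fun _ => rfl⟩
  have h2 : ∀ t, φ (φ t) ^ 3 = t := fun t => by rw [hφ, hφ, ← pow_mul (t ^ _), pow_theta hK]
  have h3 : ∀ t, ψ (ψ t) = t ^ 3 := fun t => by rw [hψ, hψ, map_pow, h2]
  let u : K × K × K → GL chevG2.Idx K := fun p => (mat chevG2 K).wd [(7, φ p.1), (6, p.1),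
    (8, φ p.1 * p.1 + φ p.2.1), (9, φ p.1 ^ 2 * p.1 + φ p.2.2), (10, p.2.1), (11, p.2.2)]
  have e1 : ∀ g, g ∈ UJ (mat chevG2 K).T (twG2.J {o}) ⊓ (tgG2 hK).Fix ↔ ∃ p, g = u p := fun g => by
    rw [twG2_J_eq, UJ_univ, mem_U_Fix_G2]
    simp only [reeWordU, pow_succ _ (3 ^ m), pow_succ _ (2 * _), pow_mul', ← hφ, Prod.exists, u]
    rfl
  have hu : Function.Injective u := fun p p' e => by
    have := nfU_G2.inj _ _ rfl rfl e
    simp only [List.cons.injEq, Prod.mk.injEq, true_and, and_true] at this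
    exact Prod.ext this.2.1 (Prod.ext this.2.2.2.2.1 this.2.2.2.2.2)
  have h5 : ∀ p p', u (reM ψ p p') = u p * u p' := fun p p' => by
    simp only [u, mulU_G2, reM, map_add, map_sub, map_mul, map_pow, hψ, h2]
    have three : (3 : K) = 0 := CharP.cast_eq_zero K 3
    congr 1
    simp only [List.cons.injEq, Prod.mk.injEq, true_and, and_true]
    exact ⟨by ring, by linear_combination (φ p.1 * φ p'.1 * p.1 + φ p.1 * φ p'.1 * p'.1) * three⟩
  have h6 : ∀ a : K, a ≠ 0 → ∃ h ∈ (mat chevG2 K).T.H ⊓ twistedG2 K (3 ^ m), ∀ p : K × K × K,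
      h * u p * h⁻¹ = u (a * p.1, a * ψ a * p.2.1, a ^ 2 * ψ a * p.2.2) := fun a h0 => by
    have h1 : φ a ≠ 0 := by simpa using h0
    obtain ⟨s, ha⟩ : ∃ s : Kˣ, a ^ 2 * ψ a = s := ⟨Units.mk0 _ (by simpa using h0), rfl⟩
    refine ⟨_, (H_inf_G2 hK).ge ⟨s, rfl⟩, fun p => ?_⟩
    obtain ⟨c1, c2, c3, c4, c5, c6⟩ := chiG2 (s ^ 3 ^ m) s
    rw [hRee_apply, CM.tor_conj_wd _ _ (by simp; decide)]
    simp only [u, c1, c2, c3, c4, c5, c6, List.map_cons, List.map_nil, Units.val_div_eq_div_val,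
      Units.val_pow_eq_pow_val, ← hφ, ← ha, map_mul, map_pow, hψ, h2]
    field_simp
  obtain ⟨x, hx⟩ := exists_pow_ne (K := K) (n := 3) (by norm_num) (by
    rw [hK]; exact (Nat.pow_lt_pow_right (a := 3) (by norm_num) (by omega : 1 < 2 * m + 1)))
  obtain ⟨y, hy⟩ : ∃ y, ψ y ≠ y := by
    by_contra! h
    exact hx (by simpa [h] using (h3 x).symm)
  refine irrC_tw (isTw_G2 hK) o u (reM ψ) e1 hu h5 (fun _ _ => rfl) (fun h hh p p' e h0 => ?_)
    (fun s hs => (h6 s hs).imp fun h hh => ⟨hh.1, fun p p' e => ?_⟩) fun Y hn h => ?_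
  · obtain ⟨c, rfl⟩ := (mat chevG2 K).exists_tor hh
    rw [CM.tor_conj_wd _ _ (by simp; decide)] at e
    have := nfU_G2.inj _ _ rfl rfl e
    simp only [List.map_cons, List.cons.injEq, Prod.mk.injEq, true_and] at this
    rw [← this.2.1, h0, mul_zero]
  · rw [← hu ((hh.2 p).symm.trans e)]
  have hd : ∀ p p' : K × K × K, u p ∈ Y → u p' ∈ Y → p.1 = p'.1 →
      u (0, p.2.1 - p'.2.1, p.2.2 - p'.2.2) ∈ Y := fun p p' a1 a2 e => by
    rw [← Y.mul_mem_cancel_left a2, ← h5]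
    convert a1 using 2
    simp [reM, ← e]
  have hcomm : ∀ p p' : K × K × K, u p ∈ Y → u p' ∈ Y → u (0, (reM ψ p p').2.1 - (reM ψ p' p).2.1,
      (reM ψ p p').2.2 - (reM ψ p' p).2.2) ∈ Y := fun p p' a1 a2 =>
    hd _ _ (h5 p p' ▸ mul_mem a1 a2) (h5 p' p ▸ mul_mem a2 a1) (add_comm _ _)
  obtain ⟨b, c, hb, hbc⟩ : ∃ b c, b ≠ 0 ∧ u (0, b, c) ∈ Y := by
    obtain ⟨z, hz⟩ := h 1
    obtain ⟨z', hz'⟩ := h y
    refine ⟨_, _, fun e => hy ?_, hcomm _ _ hz hz'⟩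
    simp only [reM, map_one] at e
    linear_combination -e
  have hZ : ∀ v, u (0, 0, v) ∈ Y := fun v => by
    obtain ⟨z, hz⟩ := h (v / b)
    convert hcomm _ _ hz hbc using 2
    simp only [reM, map_zero, Prod.mk.injEq, true_and]
    constructor
    · ring
    · field_simp
      ring
  have hB : ∀ b' c', u (0, b', c') ∈ Y → ∀ v, u (0, b', v) ∈ Y := fun b' c' a1 v => by
    have := mul_mem a1 (hZ (v - c'))
    rw [← h5] at this
    simpa [reM] using this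
  let A : AddSubgroup K :=
    { carrier := {t | u (0, t, 0) ∈ Y}
      add_mem' := fun {s t} hs ht => by
        have := Y.mul_mem hs ht
        rw [← h5] at this
        simpa [reM] using this
      zero_mem' := hZ 0
      neg_mem' := fun {s} hs => by simpa using hd _ _ (hZ 0) hs rfl }
  rintro ⟨t, v⟩
  refine hB t 0 ?_ v
  have := NSSO.smul_mem_of_sq (F := K) A (fun s hs w hw => ?_) (t / b) (hB b c hbc 0)
  · rwa [smul_eq_mul, div_mul_cancel₀ _ hb] at this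
  · have h7 : ψ s ≠ 0 := by simpa using hs
    obtain ⟨g, hg, e⟩ := h6 _ (div_ne_zero h7 hs)
    have := hn g hg _ hw
    rw [e] at this
    change u _ ∈ Y
    convert this using 2
    simp only [map_div₀, h3, mul_zero, smul_eq_mul, Prod.mk.injEq, true_and, and_true]
    field_simp

theorem lf_G2 [CharP K 3] (hm : 1 ≤ m) : LF 3 (twChev 3 (isTw_G2 hK)) := by
  obtain ⟨hH, e, hX⟩ : (twChev 3 (isTw_G2 hK)).H = (isTw_G2 hK).grdK.H ∧
      ∃ e : Fin 1 ≃ (twChev 3 (isTw_G2 hK)).P.S, ∀ o, (twChev 3 (isTw_G2 hK)).X (e o) =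
        (isTw_G2 hK).grdK.X (twG2.wdata.p o) := twSBN_X (isTw_G2 hK) _ _ _ _
  haveI := e.symm.subsingleton
  refine ⟨good_twG2 3 hK, fun r hr h => (rank_of_subsingleton hr h).elim, fun s => ?_,
    fun _ => Or.inr (Or.inr (Or.inr ⟨K, _, _, m, hm, hK, ⟨MulEquiv.refl _⟩⟩))⟩
  obtain ⟨o, rfl⟩ := e.surjective s
  rw [hX, hH]
  exact irrC_G2 hK hm o

end G2

theorem jobRee : JobRee := fun _ _ =>
  ⟨fun ⟨_, _, _, _, _, hK, e⟩ => haveI := charP_two hK; ⟨_, _, inferInstance, _, lf_F4 hK, e⟩,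
    fun ⟨_, _, _, _, hm, hK, e⟩ => haveI := charP_three hK; ⟨_, _, inferInstance, _, lf_G2 hK hm, e⟩⟩

end H63.NSRee
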