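import Cfsg.Agent.H63.StdRed
import Cfsg.Agent.H70.SgE

/-! A standard subgroup whose centraliser has `2`-rank one: no elements of order four. -/

set_option autoImplicit false
set_option linter.unusedSectionVars false

namespace H63.R1

open Cfsg H63 H64 H64.SG H98 H14 Subgroup

universe u

variable {G : Type u} [Group G] [Finite G]

theorem o2 {a : G} (h : Inv2 a) : orderOf a = 2 := orderOf_eq_prime (by rw [pow_two, h.1]) h.2

theorem gro {U : Subgroup G} (hU : IsPGroup 2 U) {a : G} (a2 : a * a = 1) (ha : a ∈ Ns U)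
    (h : a ∉ Cs U) : ∃ u ∈ U, u * a * u⁻¹ ≠ a ∧ a * (u * a * u⁻¹) = u * a * u⁻¹ * a := by
  have h5 : zpowers a ≤ Ns U := zpowers_le.2 ha
  have hW := isPGroup_sup_of_le_normalizer (is2_of_sq a2).zpowers hU h5
  have aA : zpowers a ≤ (zpowers a ⊔ U) ⊓ Cz a := le_inf le_sup_left (zpowers_le.2 (mem_Cz.2 rfl))
  obtain ⟨s, ⟨s1, s2⟩, s3⟩ := SetLike.exists_of_lt (lt_inf_normalizer hW
    (Q := (zpowers a ⊔ U) ⊓ Cz a) (inf_lt_left.2 fun h1 => h fun u hu =>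
      (mem_Cz.1 (h1 (mem_sup_right hu))).symm))
  obtain ⟨p, hp, u, hu, rfl⟩ := (mem_sup_left_norm h5).1 s1
  refine ⟨u, hu, fun e => s3 (mul_mem (aA hp) ⟨mem_sup_right hu,
    mem_Cz.2 (mul_inv_eq_iff_eq_mul.1 e).symm⟩), mem_Cz.1 (conj_mem_of_mem_normalizer
      ((mul_mem_cancel_left (le_normalizer (aA hp))).1 s2) (aA (mem_zpowers a))).2⟩

theorem exists_syl {K : Subgroup G} {a b : G} (ha : a ∈ Ns K) (a2 : a * a = 1) (hb : b ∈ K)
    (b2 : b * b = 1) (ab : a * b = b * a) : ∃ U, IsSyl 2 U K ∧ b ∈ U ∧ a ∈ Ns U := by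
  have hP := isPGroup_sup_zpowers (is2_of_sq b2).zpowers (Cs_le_Ns _ (mem_Cs_zpowers.2 ab.symm))
    (is2_of_sq a2)
  obtain ⟨S, hS, hPS⟩ := exists_isSyl_le hP (le_sup_left : _ ≤ zpowers b ⊔ zpowers a ⊔ K)
  have h1 : S ≤ Ns K := hS.le.trans (sup_le (sup_le (zpowers_le.2 (le_normalizer hb))
    (zpowers_le.2 ha)) le_normalizer)
  have h2 : a ∈ S := hPS (mem_sup_right (mem_zpowers a))
  exact ⟨_, hS.inf_of_le_normalizer le_sup_right h1, ⟨hPS (mem_sup_left (mem_zpowers b)), hb⟩,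
    le_normalizer_inf le_normalizer h1 h2⟩

/-- The facts on `X`. -/
structure RF (X : Type*) [Group X] : Prop where
  cen : ∀ g : X, MulAut.conj g = 1 → g = 1
  sq : ∀ α : MulAut X, ∃ g, α * α = MulAut.conj g
  ca : ∀ P : Subgroup X, IsSyl 2 P ⊤ → ∀ α : MulAut X, (∀ u ∈ P, α u = u) → ∃ g, α = MulAut.conj g
  x4 : ∀ (α : MulAut X) (a : X) (M : Subgroup X), Inv2 a → α * α = MulAut.conj a → M ≤ Cz a →
    Cz a ≤ Ns M → (∀ m ∈ M, m * m = 1 → m = 1 ∨ m = a) → (∀ c ∈ Cz a, α c * c⁻¹ ∈ M) → False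

variable {X : Type*} [Group X]

/-- The configuration. -/
structure TE (e : X →* G) : Prop where
  rf : RF X
  inj : Function.Injective e
  nn : Ns (Cs e.range) ≤ Ns e.range
  te : ∀ g, ∀ s ∈ Cs e.range, Inv2 s → g * s * g⁻¹ ∈ Cs e.range → g ∈ Ns (Cs e.range)
  rk : PRankLE 2 1 (Cs e.range)
  four : ∃ r ∈ Cs e.range, Inv2 (r * r)

namespace TE

variable {e : X →* G} (h : TE e)
include h

theorem one {a : X} (ha : e a ∈ Cs e.range) : a = 1 :=
  h.rf.cen a (MulEquiv.ext fun y => h.inj (by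
    rw [MulAut.conj_apply, map_mul, map_mul, ← ha _ ⟨y, rfl⟩, map_inv, mul_inv_cancel_right]; rfl))

theorem ct {s : G} (hs : s ∈ Cs e.range) (s2 : Inv2 s) : Cz s ≤ Ns (Cs e.range) := fun g hg =>
  h.te g s hs s2 (by rwa [← mem_Cz.1 hg, mul_inv_cancel_right])

theorem root {U : Subgroup G} (hU : IsSyl 2 U (Cs e.range)) {t : G} (ht : t ∈ U) (t2 : Inv2 t) :
    ∃ r ∈ U, r * r = t := by
  obtain ⟨r, r1, r2⟩ := h.four
  obtain ⟨g, -, hg⟩ := hU.exists_cj_le (Is2.zpowers (g := r) ⟨2, by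
    rw [show r ^ 2 ^ 2 = r * r * (r * r) by simp [pow_succ, mul_assoc], r2.1]⟩) (zpowers_le.2 r1)
  have h1 := hg (conj_mem_cj (mem_zpowers r))
  refine ⟨_, h1, eq_of_prank_one_of_isPGroup h.rk hU.isPGroup hU.le ?_ (o2 t2) (mul_mem h1 h1) ht⟩
  rw [conj_mul]
  exact o2 (H9.UF.inv2_conj r2 (isConj_iff.2 ⟨g, rfl⟩))

theorem split {n : G} {α : MulAut X} (hα : ∀ g, e (α g) = n * e g * n⁻¹) {b : X}
    (hb : α = MulAut.conj b) : n * (e b)⁻¹ ∈ Cs e.range := by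
  rintro _ ⟨y, rfl⟩
  have := hα (b⁻¹ * y * b)
  rw [hb, MulAut.conj_apply, show b * (b⁻¹ * y * b) * b⁻¹ = y by group, map_mul, map_mul, map_inv]
    at this
  calc e y * (n * (e b)⁻¹) = n * ((e b)⁻¹ * e y * e b) * n⁻¹ * (n * (e b)⁻¹) := by rw [← this]
    _ = _ := by group

theorem sq_one {k : G} (hk : k ∈ Cs e.range) {a : X} (s : k * e a * (k * e a) = 1) :
    a * a = 1 ∧ k * k = 1 := by
  have h1 : k * k * e (a * a) = 1 := by
    rw [← s, map_mul, mul_assoc, mul_assoc, ← mul_assoc (e a), hk _ ⟨a, rfl⟩, mul_assoc]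
  have h2 := h.one (a := a * a) (eq_inv_of_mul_eq_one_right h1 ▸ inv_mem (mul_mem hk hk))
  exact ⟨h2, by rwa [h2, map_one, mul_one] at h1⟩

/-- No conjugate of an involution of `K` lies in `K L` outside `K`. -/
theorem claimA {g s k : G} {a : X} (hs : s ∈ Cs e.range) (s2 : Inv2 s) (hk : k ∈ Cs e.range)
    (hg : g * s * g⁻¹ = k * e a) : a = 1 := by
  by_cases gN : g ∈ Ns (Cs e.range)
  · exact h.one ((mul_mem_cancel_left hk).1 (hg ▸ conj_mem_of_mem_normalizer gN hs))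
  exfalso
  have k2 := (h.sq_one hk (hg ▸ (H9.UF.inv2_conj s2 (isConj_iff.2 ⟨g, rfl⟩)).1)).2
  obtain ⟨r, r1, r2, r3⟩ : ∃ r ∈ Cs e.range, Inv2 (r * r) ∧ r * k = k * r := by
    by_cases k1 : k = 1
    · obtain ⟨r, r1, r2⟩ := h.four
      exact ⟨r, r1, r2, by simp [k1]⟩
    · obtain ⟨U, u1, u2⟩ := exists_isSyl_le (is2_of_sq k2).zpowers (zpowers_le.2 hk)
      obtain ⟨r, r1, rfl⟩ := h.root u1 (u2 (mem_zpowers k)) ⟨k2, k1⟩
      exact ⟨r, u1.le r1, ⟨k2, k1⟩, (mul_assoc ..).symm⟩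
  have rn : g⁻¹ * r * g ∈ Ns e.range := h.nn (h.ct hs s2 (mem_Cz.2 (by
    have : g * s * g⁻¹ * r = r * (g * s * g⁻¹) := by
      rw [hg, mul_assoc, r1 _ ⟨a, rfl⟩, ← mul_assoc, ← r3, mul_assoc]
    calc s * (g⁻¹ * r * g) = g⁻¹ * (g * s * g⁻¹ * r) * g := by group
      _ = _ := by rw [this]; group)))
  obtain ⟨α, hα⟩ := H70.Sg.exists_aut e h.inj rn
  obtain ⟨b, hb⟩ := h.rf.sq α
  set τ := g⁻¹ * (r * r) * g⁻¹⁻¹ with hτ
  have τ2 : Inv2 τ := H9.UF.inv2_conj r2 (isConj_iff.2 ⟨g⁻¹, rfl⟩)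
  have k' := h.split (n := τ) (α := α * α) (fun y => by
    rw [MulAut.mul_apply, hα, hα, hτ]; group) hb
  have eτ : τ = τ * (e b)⁻¹ * e b := by group
  have cz : ∀ c, c ∈ Cz b ↔ e c ∈ Cz τ := fun c => by
    rw [mem_Cz, mem_Cz, ← h.inj.eq_iff, map_mul, map_mul, eτ, mul_assoc, ← mul_assoc (e c),
      k' _ ⟨c, rfl⟩, mul_assoc (τ * (e b)⁻¹), mul_right_inj]
  have τN : Cz τ ≤ Ns (cjs g⁻¹ (Cs e.range)) := by
    rw [← cj_Ns, hτ, ← cj_Cz]
    exact cj_mono _ (h.ct (mul_mem r1 r1) r2)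
  have rK : g⁻¹ * r * g ∈ cjs g⁻¹ (Cs e.range) := by
    simpa using conj_mem_cj (g := g⁻¹) r1
  refine h.rf.x4 α b ((cjs g⁻¹ (Cs e.range) ⊓ Cz τ).comap e) ⟨(h.sq_one k' (eτ ▸ τ2.1)).1, ?_⟩ hb
    (fun m hm => (cz m).2 hm.2) (fun c hc => ?_) (fun m hm m2 => ?_) fun c hc => ⟨?_, ?_⟩
  · rintro rfl
    rw [map_one, inv_one, mul_one] at k'
    exact gN (by simpa using inv_mem (h.te _ _ (mul_mem r1 r1) r2 k'))
  · have := le_normalizer_inf τN le_normalizer ((cz c).1 hc)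
    exact mem_normalizer_iff.2 fun y => by
      rw [mem_comap, mem_comap, map_mul, map_mul, map_inv]
      exact mem_normalizer_iff.1 this _
  · refine or_iff_not_imp_left.2 fun m1 => ?_
    have m3 : Inv2 (e m) := ⟨by rw [← map_mul, m2, map_one], fun e1 => m1 (h.inj (by simpa using e1))⟩
    have m4 := eq_of_prank_one h.rk (o2 (H9.UF.inv2_conj m3 (isConj_iff.2 ⟨g, rfl⟩))) (o2 r2)
      (by simpa using mem_cj.1 hm.1) (mul_mem r1 r1) (by
        have := mem_Cz.1 hm.2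
        calc _ = g * (e m * τ) * g⁻¹ := by rw [hτ]; group
          _ = _ := by rw [← this, hτ]; group)
    have m5 : τ = e m := by rw [hτ, ← m4]; group
    exact mul_inv_eq_one.1 (h.one (by rwa [map_mul, map_inv, ← m5]))
  · change e _ ∈ _
    rw [map_mul, hα, map_inv, mul_assoc, mul_assoc, ← mul_assoc (e c)]
    exact mul_mem rK (conj_mem_of_mem_normalizer (τN ((cz c).1 hc)) (inv_mem rK))
  · change e _ ∈ Cz τ
    rw [map_mul, hα, map_inv]
    have : g⁻¹ * r * g ∈ Cz τ := mem_Cz.2 (by rw [hτ]; group)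
    exact mul_mem (mul_mem (mul_mem this ((cz c).1 hc)) (inv_mem this)) (inv_mem ((cz c).1 hc))

theorem claimB {g s t : G} (hs : s ∈ Cs e.range) (s2 : Inv2 s) (ht : t ∈ Cs e.range) (t2 : Inv2 t)
    (hc : t * (g * s * g⁻¹) = g * s * g⁻¹ * t) (hn : g * s * g⁻¹ ≠ t) :
    ∃ u, u * s * u⁻¹ = t * (g * s * g⁻¹) := by
  have a2 := H9.UF.inv2_conj s2 (isConj_iff.2 ⟨g, rfl⟩)
  obtain ⟨U, u1, u2, u3⟩ := exists_syl (h.ct ht t2 (mem_Cz.2 hc)) a2.1 ht t2.1 hc.symm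
  by_cases hU : g * s * g⁻¹ ∈ Cs U
  · exfalso
    obtain ⟨r, r1, rfl⟩ := h.root u1 u2 t2
    have rn : g⁻¹ * r * g ∈ Ns e.range := h.nn (h.ct hs s2 (mem_Cz.2 (by
      calc s * (g⁻¹ * r * g) = g⁻¹ * (g * s * g⁻¹ * r) * g := by group
        _ = _ := by rw [← hU r r1]; group)))
    obtain ⟨α, hα⟩ := H70.Sg.exists_aut e h.inj rn
    obtain ⟨b, hb⟩ := h.rf.sq α
    have k' := h.split (n := g⁻¹ * (r * r) * g⁻¹⁻¹) (α := α * α) (fun y => by
      rw [MulAut.mul_apply, hα, hα]; group) hb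
    obtain rfl := h.claimA (g := g⁻¹) (a := b) ht t2 k' (by group)
    rw [map_one, inv_one, mul_one] at k'
    have := eq_of_prank_one h.rk (o2 s2) (o2 (H9.UF.inv2_conj t2 (isConj_iff.2 ⟨g⁻¹, rfl⟩))) hs k' (by
      calc _ = g⁻¹ * (g * s * g⁻¹ * (r * r)) * g := by group
        _ = _ := by rw [← hc]; group)
    exact hn (by rw [this]; group)
  obtain ⟨u, v1, v2, v3⟩ := gro u1.isPGroup a2.1 u3 hU
  refine ⟨u * g, ?_⟩
  rw [show u * g * s * (u * g)⁻¹ = u * (g * s * g⁻¹) * u⁻¹ by group]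
  generalize g * s * g⁻¹ = a at *
  have ai : a⁻¹ = a := inv_eq_of_mul_eq_one_right a2.1
  have z1 : u * a * u⁻¹ * a ∈ U := by
    have := mul_mem v1 (conj_mem_of_mem_normalizer u3 (inv_mem v1))
    rwa [ai, ← mul_assoc, ← mul_assoc] at this
  have z2 : Inv2 (u * a * u⁻¹ * a) := ⟨by
    rw [mul_assoc, ← mul_assoc a, v3, mul_assoc _ a a, a2.1, mul_one, conj_mul, a2.1]; group,
    fun e1 => v2 (by rw [eq_inv_of_mul_eq_one_left e1, ai])⟩
  rw [← eq_of_prank_one_of_isPGroup h.rk u1.isPGroup u1.le (o2 z2) (o2 t2) z1 u2, mul_assoc _ a a,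
    a2.1, mul_one]

theorem isolated {t : G} (ht : t ∈ Cs e.range) (t2 : Inv2 t) : IsIsolatedInvolution t := by
  refine ⟨o2 t2, fun g hc => ?_⟩
  by_contra hn
  have a2 := H9.UF.inv2_conj t2 (isConj_iff.2 ⟨g, rfl⟩)
  have aN := h.nn (h.ct ht t2 (mem_Cz.2 hc.eq))
  obtain ⟨U, u1, -, u3⟩ := exists_syl aN a2.1 (one_mem _) (one_mul 1) (by simp)
  by_cases hU : g * t * g⁻¹ ∈ Cs U
  · obtain ⟨α, hα⟩ := H70.Sg.exists_aut e h.inj aN
    obtain ⟨b, hb⟩ := h.rf.ca (U.comap e) (by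
      have := Finite.of_injective _ h.inj
      refine ⟨le_top, u1.isPGroup.comap_of_injective e h.inj, fun Q q1 q2 _ => ?_⟩
      rw [← u1.eq_of_le (q1.map e) (by rw [← map_comap_eq_self u1.le]; exact map_mono q2)
        (map_le_range e Q), comap_map_eq_self_of_injective h.inj]) α fun u hu => h.inj (by
      rw [hα, ← hU _ hu, mul_inv_cancel_right])
    have k' := h.split hα hb
    obtain rfl := h.claimA (g := g) (a := b) ht t2 k' (by group)
    rw [map_one, inv_one, mul_one] at k'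
    exact hn (eq_of_prank_one h.rk (o2 t2) (o2 a2) ht k' hc.eq).symm
  obtain ⟨u, v1, v2, v3⟩ := gro u1.isPGroup a2.1 u3 hU
  obtain ⟨w, hw⟩ := h.claimB (g := g⁻¹ * u * g) ht t2 ht t2 (by
    calc _ = g⁻¹ * (g * t * g⁻¹ * (u * (g * t * g⁻¹) * u⁻¹)) * g := by group
      _ = _ := by rw [v3]; group) fun e1 => v2 (by
    calc _ = g * (g⁻¹ * u * g * t * (g⁻¹ * u * g)⁻¹) * g⁻¹ := by group
      _ = _ := by rw [e1])
  obtain ⟨ζ, hζ⟩ := mul_mem (conj_mem_of_mem_normalizer aN (u1.le v1)) (inv_mem (u1.le v1))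
  have ai : (g * t * g⁻¹)⁻¹ = g * t * g⁻¹ := inv_eq_of_mul_eq_one_right a2.1
  rw [ai] at hζ
  obtain rfl := h.claimA (g := g * w) (a := ζ) ht t2 (one_mem _) (by
    rw [one_mul, hζ]
    calc _ = g * (w * t * w⁻¹) * g⁻¹ := by group
      _ = _ := by rw [hw]; group)
  rw [map_one, mul_assoc, mul_assoc, ← mul_assoc u, eq_comm] at hζ
  exact v2 (by rw [eq_inv_of_mul_eq_one_right hζ, ai])

end TE

/-- The centraliser has cyclic Sylow `2`-subgroups. -/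
theorem cyc_of_rank (rf : RF X) (hO : oddCore G = ⊥) {L : Subgroup G} (hL : IsStandardSubgroup L)
    (ε : L ≃* X) (nn : ¬ L.Normal) (rk : PRankLE 2 1 (Cs L))
    (R : Sylow 2 ↥(centralizer (L : Set G))) : IsCyclic ↥(R : Subgroup ↥(centralizer (L : Set G))) := by
  obtain ⟨e, he, rfl⟩ : ∃ e : X →* G, Function.Injective e ∧ e.range = L :=
    ⟨L.subtype.comp ε.symm.toMonoidHom, L.subtype_injective.comp ε.symm.injective, by
      rw [MonoidHom.range_comp, MonoidHom.range_eq_top.2 ε.symm.surjective,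
        ← MonoidHom.range_eq_map, range_subtype]⟩
  have n4 : ∀ r ∈ Cs e.range, ¬ Inv2 (r * r) := fun r r1 r2 => by
    have h : TE e := ⟨rf, he, hL.2.2.2.ge, fun g s s1 s2 s3 => by
      by_contra hg
      exact (Nat.not_even_iff_odd.2 (hL.2.1.2 g hg)) (even_iff_two_dvd.2 (two_dvd_card_of_mem
        (t := g * s * g⁻¹) ⟨s3, conj_mem_cj s1⟩ (o2 (H9.UF.inv2_conj s2 (isConj_iff.2 ⟨g, rfl⟩))))),
      rk, r, r1, r2⟩
    have h2 := H84.zstar_center zstarThm hO (h.isolated (mul_mem r1 r1) r2)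
    exact nn (normalizer_eq_top_iff.1 (eq_top_iff.2 fun g _ => h.nn (h.ct (mul_mem r1 r1) r2
      (mem_Cz.2 (mem_center_iff.1 h2 g).symm))))
  have sq : ∀ r : R, r * r = 1 := fun r => by
    obtain ⟨k, hk⟩ := R.isPGroup' r
    by_contra h1
    obtain ⟨j, j1, j2⟩ := exists_sq_mem (P := ⊥) (u := r * r) ⟨k, by
      rw [← pow_two, ← pow_mul, mul_comm, pow_mul, hk, one_pow]⟩ h1
    rw [(Commute.refl r).mul_pow] at j1 j2
    exact n4 _ (r ^ j).1.2 ⟨congrArg (fun x : R => (x.1 : G)) j2,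
      fun e1 => j1 (Subtype.ext (Subtype.ext e1))⟩
  by_cases h1 : ∃ t : R, t ≠ 1
  · obtain ⟨t, ht⟩ := h1
    refine ⟨t, fun r => ?_⟩
    by_cases h2 : r = 1
    · exact h2 ▸ one_mem (zpowers t)
    · have k : ∀ a : R, a ≠ 1 → orderOf (a.1 : G) = 2 := fun a ha =>
        o2 ⟨congrArg (fun x : R => (x.1 : G)) (sq a), fun e1 => ha (Subtype.ext (Subtype.ext e1))⟩
      rw [show r = t from Subtype.ext (Subtype.ext (eq_of_prank_one_of_isPGroup rk
        (isSyl_map_subtype R).isPGroup (map_subtype_le _) (k r h2) (k t ht) ⟨_, r.2, rfl⟩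
        ⟨_, t.2, rfl⟩))]
      exact mem_zpowers t
  · push Not at h1
    exact ⟨1, fun r => (h1 r).symm ▸ one_mem (zpowers (1 : R))⟩

end H63.R1
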