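import Cfsg.Agent.H26.SGFB

/-! Involutory automorphisms that act freely on the layers of a central series. -/

set_option autoImplicit false

namespace H63.SF

open Subgroup H98 H64.SG

variable {G : Type*} [Group G] [Finite G]

/-- `N / N'` is an elementary abelian central layer of `U` on which `ψ` acts freely. -/
structure Lay (U N N' : Subgroup G) (ψ : MulAut G) : Prop where
  le : N' ≤ N
  leU : N ≤ U
  cm : ∀ u ∈ U, ∀ v ∈ N, u * v * u⁻¹ * v⁻¹ ∈ N'
  inv : ∀ v ∈ N, ψ v ∈ N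
  inv' : ∀ v ∈ N', ψ v ∈ N'
  sq : ∀ v ∈ N, v * v ∈ N'
  free : ∀ v ∈ N, v * ψ v ∈ N' → ∃ w ∈ N, v * (w * ψ w) ∈ N'

structure Fr (U N : Subgroup G) (ψ : MulAut G) : Prop where
  cob : ∀ u ∈ N, u * ψ u = 1 → ∃ v ∈ N, u = v⁻¹ * ψ v
  lb : Nat.card N ≤ Nat.card ↥(N ⊓ fx ψ) ^ 2
  ub : ∀ g ∈ U, Nat.card ↥(N ⊓ fx (MulAut.conj g * ψ)) ^ 2 ≤ Nat.card N

omit [Finite G] in
theorem Fr.bot (U : Subgroup G) (ψ : MulAut G) : Fr U ⊥ ψ :=
  ⟨fun u hu _ => ⟨1, one_mem _, by simpa using hu⟩, by simp, by simp⟩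

theorem card_eq_mul {A B : Type*} [Group A] [Group B] (f : A →* B) (K : Subgroup A) :
    Nat.card K = Nat.card ↥(K ⊓ f.ker) * Nat.card (K.map f) := by
  rw [← (f.domRestrict K).ker.card_mul_index, index_ker, MonoidHom.domRestrict_range,
    MonoidHom.ker_domRestrict,
    ← inf_subgroupOf_left, Nat.card_congr (subgroupOfEquivOfLe inf_le_left).toEquiv]

theorem Lay.fr {U N N' : Subgroup G} {ψ : MulAut G} (h : Lay U N N' ψ) (h2 : ∀ g, ψ (ψ g) = g)
    (h' : Fr U N' ψ) : Fr U N ψ := by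
  have nm : ∀ u ∈ U, ∀ v ∈ N', u * v * u⁻¹ ∈ N' := fun u hu v hv => by
    simpa using mul_mem (h.cm u hu v (h.le hv)) hv
  have : (N'.subgroupOf N).Normal := ⟨fun v hv u => nm u (h.leU u.2) v hv⟩
  let π := QuotientGroup.mk' (N'.subgroupOf N)
  have π1 : ∀ v : N, π v = 1 ↔ (v : G) ∈ N' := fun v => QuotientGroup.eq_one_iff v
  have cm : ∀ a b : N, π a * π b = π b * π a := fun a b => by
    rw [← mul_inv_eq_one, mul_inv_rev, ← mul_assoc, ← map_inv, ← map_inv, ← map_mul, ← map_mul,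
      ← map_mul, π1]
    exact h.cm a (h.leU a.2) b b.2
  have sq : ∀ a : N, π a * π a = 1 := fun a => by rw [← map_mul, π1]; exact h.sq a a.2
  let θ : N →* N := (ψ.toMonoidHom.domRestrict N).codRestrict N fun v => h.inv v v.2
  let φ : N →* N ⧸ N'.subgroupOf N := MonoidHom.mk' (fun w => π w * π (θ w)) fun a b => by
    rw [map_mul, map_mul, map_mul, mul_assoc, mul_assoc, ← mul_assoc (π b), cm b, mul_assoc]
  have φ1 : ∀ v : N, v ∈ φ.ker ↔ (v : G) * ψ v ∈ N' := fun v => by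
    refine Iff.trans ?_ (π1 (v * θ v))
    rw [map_mul]; rfl
  have e1 : φ.ker.map π = φ.range := le_antisymm (by
    rintro _ ⟨v, hv, rfl⟩
    obtain ⟨w, w1, w2⟩ := h.free v v.2 ((φ1 v).1 hv)
    have := (π1 (v * (⟨w, w1⟩ * θ ⟨w, w1⟩))).2 w2
    rw [map_mul, map_mul] at this
    exact ⟨⟨w, w1⟩, (eq_inv_of_mul_eq_one_right this).trans (inv_eq_of_mul_eq_one_right (sq v))⟩) (by
    rintro _ ⟨w, rfl⟩
    refine ⟨w * θ w, ?_, map_mul ..⟩
    change π _ * π (θ _) = 1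
    rw [map_mul θ, show θ (θ w) = w from Subtype.ext (h2 w), map_mul, map_mul, cm (θ w),
      ← map_mul, sq])
  have sub : ∀ K : Subgroup G, Nat.card ↥(N ⊓ K) =
      Nat.card ↥(N' ⊓ K) * Nat.card ((K.subgroupOf N).map π) := fun K => by
    rw [← Nat.card_congr (subgroupOfEquivOfLe (inf_le_left : N ⊓ K ≤ N)).toEquiv,
      inf_subgroupOf_left, card_eq_mul π, QuotientGroup.ker_mk',
      show K.subgroupOf N ⊓ N'.subgroupOf N = (N' ⊓ K).subgroupOf N from
        (inf_comm ..).trans (comap_inf ..).symm,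
      Nat.card_congr (subgroupOfEquivOfLe (inf_le_left.trans h.le)).toEquiv]
  have c1 : Nat.card N = Nat.card N' * Nat.card φ.range ^ 2 := by
    have k1 : φ.ker ⊓ π.ker = N'.subgroupOf N := by
      rw [QuotientGroup.ker_mk', inf_eq_right]
      exact fun v hv => (φ1 v).2 (mul_mem hv (h.inv' v hv))
    rw [← φ.ker.card_mul_index, index_ker, card_eq_mul π, k1, e1,
      Nat.card_congr (subgroupOfEquivOfLe h.le).toEquiv, pow_two, mul_assoc]
  refine ⟨fun u hu e => ?_, ?_, fun g hg => ?_⟩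
  · obtain ⟨w, w1, w2⟩ := h.free u hu (e ▸ one_mem _)
    obtain ⟨v, v1, v2⟩ := h'.cob (w⁻¹ * u * ψ w) (by
      have := (π1 ((⟨w, w1⟩ : N)⁻¹ * ⟨u, hu⟩ * θ ⟨w, w1⟩)).1 (by
        rw [map_mul, map_mul, map_inv, inv_eq_of_mul_eq_one_right (sq _), cm, mul_assoc, ← map_mul,
          ← map_mul, π1]
        exact w2)
      exact this) (by
      rw [map_mul, map_mul, map_inv, h2]
      calc _ = w⁻¹ * (u * ψ u) * w := by group
        _ = 1 := by rw [e]; group)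
    refine ⟨v * w⁻¹, mul_mem (h.le v1) (inv_mem w1), ?_⟩
    rw [map_mul, map_inv]
    calc u = w * (w⁻¹ * u * ψ w) * (ψ w)⁻¹ := by group
      _ = _ := by rw [v2]; group
  · rw [sub, mul_pow, c1]
    refine Nat.mul_le_mul h'.lb (Nat.pow_le_pow_left (card_le_of_le ?_) 2)
    rw [← e1]
    rintro _ ⟨v, hv, rfl⟩
    obtain ⟨w, w1, w2⟩ := h'.cob ((v : G)⁻¹ * ψ v) (by
      have := mul_mem (inv_mem (h.sq v v.2)) (nm v (h.leU v.2) _ (nm _ (inv_mem (h.leU v.2)) _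
        ((φ1 v).1 hv)))
      simpa [mul_assoc] using this) (by rw [map_mul, map_inv, h2]; group)
    refine ⟨v * (⟨w, h.le w1⟩ : N)⁻¹, ?_, by
      rw [map_mul, map_inv, (π1 ⟨w, h.le w1⟩).2 w1, inv_one, mul_one]⟩
    change ψ (v * w⁻¹) = v * w⁻¹
    rw [map_mul, map_inv]
    calc _ = v * ((v : G)⁻¹ * ψ v) * (ψ w)⁻¹ := by group
      _ = _ := by rw [w2]; group
  · rw [sub, mul_pow, c1]
    refine Nat.mul_le_mul (h'.ub g hg) (Nat.pow_le_pow_left (card_le_of_le ?_) 2)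
    rw [← e1]
    refine map_mono fun v hv => (φ1 v).2 ?_
    have e : g * ψ v * g⁻¹ = v := hv
    have := h.cm g hg _ (h.inv v v.2)
    rw [e] at this
    simpa [mul_assoc] using mul_mem this (h.sq _ (h.inv v v.2))

theorem fr_of_chain {U : Subgroup G} {ψ : MulAut G} (h2 : ∀ g, ψ (ψ g) = g) (N : ℕ → Subgroup G)
    (m : ℕ) (h0 : N m = ⊥) (h : ∀ i < m, Lay U (N i) (N (i + 1)) ψ) : Fr U (N 0) ψ := by
  suffices ∀ k i, i + k = m → Fr U (N i) ψ from this m 0 (zero_add m)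
  intro k
  induction k with
  | zero => rintro i rfl; exact h0 ▸ Fr.bot U ψ
  | succ k ih => exact fun i e => (h i (by omega)).fr h2 (ih _ (by omega))

end H63.SF
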