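import Cfsg.Agent.H63.SPAsm1
import Cfsg.Agent.H35.RED

/-! Tower SP: the assembly. -/

set_option autoImplicit false

namespace H63.SP

open H63.Qe (Sp4 uM UU uM_mul toP)
open H37.QS (exists_sqrt uM_mem)
open H64.SG (O2 Syl Cz Cs Ns cjs Is2 Inv2 UF fx mem_Cz)
open H59.SO
open Subgroup Cfsg

universe u

/-- The wreath endgame. -/
def JobWR : Prop := ∀ (F : Type) [Field F] [Fintype F] [CharP F 2], 4 ≤ Fintype.card F →
  ∀ (G : Type u) [Group G] [Finite G] (e e₁ e₂ : Sp4 F →* G) (t : G), CE e t → CW e t e₁ e₂ →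
    Ns (G12 e₁ e₂) = ⊤

/-- Simple groups with a Sylow `2`-subgroup of type `L_m(q)` (row S1769). -/
def JobSL : Prop := ∀ {G : Type u} [Group G] [Finite G] [IsSimpleGroup G], ¬ PRankLE 2 2 G →
  ∀ {F : Type} [Field F] [Fintype F] (r : ℕ), 2 ≤ r → Fintype.card F = 2 ^ r → ∀ m : ℕ, 3 ≤ m →
    ∀ (S : Sylow 2 G) (P : Sylow 2 (Matrix.ProjectiveSpecialLinearGroup (Fin m) F)),
      Nonempty (↥(S : Subgroup G) ≃* ↥(P : Subgroup (Matrix.ProjectiveSpecialLinearGroup (Fin m) F))) →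
      Nonempty (G ≃* Matrix.ProjectiveSpecialLinearGroup (Fin m) F)

structure Jobs : Prop where
  f1 : JobF1.{u}
  f2 : JobF2
  md : JobMD
  ut4 : JobUT4
  ut5 : JobUT5
  k1 : JobK1.{u}
  k2 : JobK2.{u}
  ab : JobAB.{u}
  hd1 : JobHD1.{u}
  hd2 : JobHD2.{u}
  gr : JobGR.{u}
  iii1 : JobIII1.{u}
  qq : JobQQ.{u}
  t4 : JobT4.{u}
  iii2 : JobIII2.{u}
  ta1 : JobTA1.{u}
  ta2 : JobTA2.{u}
  ta3 : JobTA3.{u}
  ta4 : JobTA4.{u}
  fa : JobFA.{u}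
  sy : JobSY.{u}
  pg : JobPG.{u}
  la : JobLA
  d4 : JobD4.{u}
  r1 : JobR1.{u}
  r2 : JobR2.{u}
  r3 : JobR3.{u}
  no : JobNO.{u}
  us4 : JobUS4.{u}
  us5 : JobUS5.{u}
  ph4 : JobPH4.{u}
  ph5 : JobPH5.{u}
  zw : JobZW.{u}
  na : JobNA.{u}
  fin : JobFIN.{u}
  di : JobDI.{u}
  ea4 : JobEA4.{u}
  cz4 : JobCZ4.{u}
  ea5 : JobEA5.{u}
  eb : JobEB.{u}
  ee1 : JobEE1.{u}
  ee2 : JobEE2.{u}
  cz5 : JobCZ5.{u}
  wr : JobWR.{u}
  sl : JobSL.{u}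

variable {F : Type} [Field F] [Fintype F] [CharP F 2] {G : Type u} [Group G] [Finite G]
  {e : Sp4 F →* G} {t : G} {F₀ : Subgroup G} {κ : F}
  (J : Jobs.{u}) (h4 : 4 ≤ Fintype.card F) (f : Fa.{u} F) (K : Kit.{u})

include J h4 f in
/-- The split cases. -/
theorem split_fin (c : Cf F₀ e t) {X : Type} [Group X] {j : X →* G} (hj : Function.Injective j)
    (hS : Syl j.range F₀) {m : ℕ} (hm : 3 ≤ m)
    (h : ∃ P : Sylow 2 (Matrix.ProjectiveSpecialLinearGroup (Fin m) F), Nonempty (X ≃* P.toSubgroup)) :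
    IsLieTypeChar 2 F₀ := by
  haveI := c.simple
  obtain ⟨P, ⟨φ⟩⟩ := h
  obtain ⟨S, hS'⟩ := (H64.SG.syl_iff.1 hS).exists_sylow
  obtain ⟨r, -, hr⟩ := FiniteField.card F 2
  have h2 : 2 ≤ (r : ℕ) := by
    by_contra h0
    have h1 : 0 < (r : ℕ) := r.2
    have : (r : ℕ) = 1 := by omega
    rw [hr, this] at h4
    omega
  have := J.sl (c.rank f.f1 h4) r h2 hr m hm S P ⟨(MulEquiv.subgroupCongr hS').trans
    ((subgroupOfEquivOfLe hS.1).trans ((MonoidHom.ofInjective hj).symm.trans φ))⟩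
  have h3 : 2 ≤ m := by omega
  exact .inl ⟨F, inferInstance, inferInstance, inferInstance, m, h3, fun _ => h4, this⟩

include J h4 f K

theorem fin4 (c : Cf F₀ e t) (ce : CE e t) (ab : AB e t) (dn : DN e t) (as : Asym e t)
    {j : U4 κ →* G} (t4 : T4 e t j) : IsLieTypeChar 2 F₀ := by
  have us := J.us4 F h4 f K G e t ce ab dn as (J.no F h4 f K G e t ce ab κ j t4) κ j t4
  have sy := J.sy F h4 f K G e t F₀ _ c ce us
  by_cases hκ : Irr κ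
  swap
  · exact split_fin J h4 f c t4.inj sy.s0 (by norm_num) (J.ut4 F h4 κ hκ)
  have ec : EC e t F₀ j j.range := ⟨hκ, c, ce, ab, as, t4, J.d4 F h4 f K G e t ce κ j t4, us, sy, le_rfl,
    t4.cO, act4 j, by
      rintro _ ⟨x, rfl⟩ hx
      by_cases h0 : x.a = 0
      · exact .inl ⟨x, h0, rfl⟩
      obtain ⟨g, l, h1⟩ := (f.md.i4 κ x (t4.inj (by rw [map_mul, hx, map_one]))).resolve_left h0
      exact .inr ⟨_, ⟨g, rfl⟩, _, l, h0, by rw [← h1, map_mul, map_mul, map_inv]⟩,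
    wc_map t4.inj (f.md.wc4 κ hκ)⟩
  have zw := J.zw F h4 f K G e t F₀ κ j _ ec
  have di := J.di F h4 f K G e t F₀ κ j ec zw
  have hA := (J.ea4 F h4 f K G e t F₀ κ j ec di).le (map_le_range _ _)
  have h := c.G1_eq f.f1.ns sy.le (J.fin F h4 f K G e t F₀ κ j _ ec zw
    (J.cz4 F h4 f K G e t F₀ κ j ec di hA)
    (J.na F h4 f K G e t F₀ κ j _ ec (J.la F h4 f.md) zw hA) (.inr ⟨rfl, di⟩))
  exact h ▸ J.ph4 J.pg F h4 f K G e t κ j hκ t4 (h ▸ c.simple)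

theorem fin5 (c : Cf F₀ e t) (ce : CE e t) (ab : AB e t) (dz : DZ e t) (as : Asym e t)
    {j : U5 κ →* G} (t5 : T5 e t j) : IsLieTypeChar 2 F₀ := by
  obtain ⟨us, al⟩ := J.us5 F h4 f K G e t ce ab as (J.no F h4 f K G e t ce ab κ _ t5.t4) κ j t5
  have sy := J.sy F h4 f K G e t F₀ _ c ce us
  by_cases hκ : Irr κ
  swap
  · exact split_fin J h4 f c t5.inj sy.s0 (by norm_num) ((J.ut5 F h4).2 κ hκ)
  have ec : EC e t F₀ (j.comp i45) j.range := ⟨hκ, c, ce, ab, as, t5.t4,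
    J.d4 F h4 f K G e t ce κ _ t5.t4, us, sy, by rintro _ ⟨x, rfl⟩; exact ⟨_, rfl⟩, t5.cO, act5 j, by
      rintro _ ⟨x, rfl⟩ hx
      rcases f.md.i5 κ hκ x (t5.inj (by rw [map_mul, hx, map_one])) with h0 | ⟨h0, g, l, h1⟩
      · exact .inl (AS_comp j ▸ ⟨x, h0, rfl⟩)
      · exact .inr ⟨_, ⟨g, rfl⟩, _, l, h0, by
          rw [cj, ← map_inv, ← map_mul, ← map_mul, h1]; rfl⟩,
    AS_comp j ▸ wc_map t5.inj (f.md.wc5 κ hκ)⟩
  have e5 : E5 e t F₀ j := ⟨ec, t5, al⟩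
  have zw := J.zw F h4 f K G e t F₀ κ _ _ ec
  have ea := J.ea5 F h4 f K G e t F₀ κ j e5
  obtain ⟨b1, b2⟩ := J.eb F h4 f K G e t F₀ κ j e5 ea
  have hA := J.ee2 F h4 f K G e t F₀ κ j e5 ea b2 (J.ee1 F h4 f K G e t F₀ κ j e5 b1)
  have hN := J.na F h4 f K G e t F₀ κ _ _ ec (J.la F h4 f.md) zw (AS_comp j ▸ hA)
  have h := c.G1_eq f.f1.ns sy.le (J.fin F h4 f K G e t F₀ κ _ _ ec zw
    (J.cz5 F h4 f K G e t F₀ κ j e5 b1 (AS_comp j ▸ hN)) hN (.inl fun u => (dz u 0).trans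
      (isConj_iff.2 ⟨e (na F), by
        rw [show xb u = _ from (na_uM u 0 0).symm, map_mul, map_mul, map_inv, ← conj_mul,
          ce.conj_t]⟩)))
  exact h ▸ J.ph5 J.pg F h4 f K G e t κ j hκ t5 (h ▸ c.simple)

theorem finA (c : Cf F₀ e t) (ce : CE e t) (ab : AB e t) (dz : DZ e t) {j : UA κ →* G}
    (ta : TA e t j) : IsLieTypeChar 2 F₀ := by
  by_cases hκ : Irr κ
  · exact J.fa F h4 f K G e t F₀ c κ j ta.inj (J.sy F h4 f K G e t F₀ _ c ce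
      (J.ta3 F h4 f K G e t ce ab dz κ j ta hκ)).s0
  · obtain ⟨e₁, e₂, w⟩ := J.ta4 F h4 f K G e t ce κ j ta hκ
    exact (c.not_wr f.f1.ns w (J.wr F h4 G e e₁ e₂ t ce w)).elim

theorem caseI (c : Cf F₀ e t) (dr : DR e t) (dn : DN e t) : IsLieTypeChar 2 F₀ := by
  have ab := J.ab F h4 f K G e t F₀ c
  obtain ⟨gd, ce⟩ := J.hd2 F h4 f K G e t c.toB0 ab dr
  obtain ⟨B, k, ε, g⟩ := J.gr F h4 f K G e t ce gd
  have lb := LB.one ce.toB1 g dn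
  obtain ⟨q, rfl⟩ := J.qq F h4 f K G e t ce B k ε _ _ g lb
  obtain rfl := k_one ce.toB1 g q
  obtain ⟨κ, j, t4, -⟩ := J.t4 F h4 f K G e t ce B _ _ g lb q
  exact fin4 J h4 f K c ce ab dn (asym_one ce.toB1 dr dn) t4

/-- One half of the data of case III. -/
theorem half (ce : CE e t) (dz : DZ e t) {B Bl : Subgroup G} {k ε ε' : F} (g : GR e t B k ε)
    (g' : GR (tw e) t Bl 0 ε') (hc : B ≤ H64.SG.Cs Bl) : ε = 0 ∧ QQ e t B Bl k ∧ M2 e t B Bl k ∧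
      (k = 0 ∧ ε' = 0 ∨ k = 1 ∧ ε' * ε' = 1) ∧ (k = 1 → Asym e t) := by
  have lb := LB.of_GR g' hc
  obtain ⟨q, rfl⟩ := J.qq F h4 f K G e t ce B k ε _ _ g lb
  obtain ⟨m, h1, h2⟩ := J.iii2 F h4 f K G e t ce dz B k Bl _ g lb q
  exact ⟨rfl, q, m, h1.imp (fun h => ⟨h.1, mul_self_eq_zero.1 h.2⟩) id, h2⟩

theorem ta0 (ce : CE e t) (dz : DZ e t) {B Bl : Subgroup G} (g : GR e t B 0 0)
    (g' : GR (tw e) t Bl 0 0) (hc : B ≤ H64.SG.Cs Bl) : TA0 e t B Bl :=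
  ⟨ce, g, g', hc, (half J h4 f K ce dz g g' hc).2.2.1,
    (half J h4 f K (ce.twe _) dz.tw g' (g.frob (mul_zero 0) (mul_zero 0))
      fun z hz m hm => (hc hm z hz).symm).2.2.1⟩

theorem caseIII' (c : Cf F₀ e t) (ce : CE e t) (dz : DZ e t) {B Bl : Subgroup G} {k ε ε' : F}
    (g : GR e t B k ε) (g' : GR (tw e) t Bl 0 ε') (hc : B ≤ H64.SG.Cs Bl) : IsLieTypeChar 2 F₀ := by
  have ab := J.ab F h4 f K G e t F₀ c
  obtain ⟨rfl, q, m, ⟨rfl, rfl⟩ | ⟨rfl, h1⟩, as⟩ := half J h4 f K ce dz g g' hc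
  · have a1 := ta0 J h4 f K ce dz g g' hc
    have a2 := ta0 J h4 f K (ce.twe _) dz.tw g' (g.frob (mul_zero 0) (mul_zero 0))
      fun z hz m hm => (hc hm z hz).symm
    obtain ⟨κ, j, ta⟩ := J.ta2 F h4 f K G e t B Bl a1 a2 (J.ta1 F h4 f K G e t ab dz B Bl a1)
      (J.ta1 F h4 f K G _ t (J.ab F h4 f K G _ t F₀ c.tw) dz.tw Bl B a2)
    exact finA J h4 f K c ce ab dz ta
  · have lb := LB.of_GR g' hc
    rw [h1] at lb
    obtain ⟨κ, j, t4, lk⟩ := J.t4 F h4 f K G e t ce B Bl _ g lb q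
    have cb : Cb e t j B Bl := ⟨ce, dz, t4, lk, lb, m⟩
    have d4 := J.d4 F h4 f K G e t ce κ j t4
    obtain ⟨Cl, r1⟩ := J.r1 F h4 f K G e t κ j B Bl cb
    obtain ⟨C, φ, r2⟩ := J.r2 F h4 f K G e t κ j B Bl Cl cb d4 r1
    obtain ⟨j', t5⟩ := J.r3 F h4 f K G e t κ j B Bl C φ cb d4 r2
    exact fin5 J h4 f K c ce ab dz (as rfl) t5

theorem caseIII (c : Cf F₀ e t) (dz : DZ e t) : IsLieTypeChar 2 F₀ := by
  obtain ⟨gd, ce⟩ := J.hd2 F h4 f K G e t c.toB0 (J.ab F h4 f K G e t F₀ c) dz.dr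
  obtain ⟨gd', ce'⟩ := J.hd2 F h4 f K G _ t c.tw.toB0 (J.ab F h4 f K G _ t F₀ c.tw) dz.tw.dr
  obtain ⟨B, k, ε, g⟩ := J.gr F h4 f K G e t ce gd
  obtain ⟨B', k', ε', g'⟩ := J.gr F h4 f K G _ t ce' gd'
  obtain ⟨hc, hk⟩ := J.iii1 F h4 f K G e t ce B k ε B' k' ε' g g'
  rcases mul_eq_zero.1 hk with rfl | rfl
  · obtain ⟨s, hs⟩ := exists_sqrt ε
    exact caseIII' J h4 f K c.tw ce' dz.tw g' (g.frob (mul_zero 0) hs)
      fun z hz m hm => (hc hm z hz).symm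
  · exact caseIII' J h4 f K c ce dz g g' hc

theorem of_cf (c : Cf F₀ e t) : IsLieTypeChar 2 F₀ := by
  rcases J.hd1 F h4 f K G e t c.toB0 (J.ab F h4 f K G e t F₀ c) with h | h | h
  · exact caseI J h4 f K c h.1 h.2
  · exact caseI J h4 f K c.tw h.1 h.2
  · exact caseIII J h4 f K c h

omit h4 f K

theorem main : H35.RED.SpC.{u} := by
  intro G _ _ F₀ L t c F _ _ a ha hF ⟨φ⟩
  haveI : CharP F 2 := by
    obtain ⟨p, hp⟩ := CharP.exists F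
    obtain ⟨n, hpp, hn⟩ := FiniteField.card F p
    have : p ∣ 2 ^ a := by rw [← hF, hn]; exact dvd_pow_self p n.ne_zero
    obtain rfl := (Nat.prime_dvd_prime_iff_eq hpp Nat.prime_two).1 (hpp.dvd_of_dvd_pow this)
    exact hp
  have h4 : 4 ≤ Fintype.card F := hF ▸ Nat.pow_le_pow_right (n := 2) (by norm_num) ha
  obtain ⟨f1, fm⟩ := J.f1 F h4
  have f : Fa.{u} F := ⟨f1, J.f2 F h4 f1, fm, J.md F h4, (J.ut5 F h4).1⟩
  have K : Kit.{u} := ⟨J.k1.1, J.k1.2.1, J.k1.2.2.1, J.k2.1, J.k1.2.2.2, J.k2.2⟩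
  let π : L →* Sp4 F := ((φ.trans (toP F).symm).toMonoidHom).comp (QuotientGroup.mk' _)
  have hs : Function.Surjective π :=
    (φ.trans (toP F).symm).surjective.comp QuotientGroup.mk_surjective
  have hi := fm L π hs (fun x hx => (QuotientGroup.eq_one_iff x).1
    ((φ.trans (toP F).symm).injective (hx.trans (map_one _).symm)))
    (H64.commutator_eq_top_of_le c.perf)
  let ψ := MulEquiv.ofBijective π ⟨hi, hs⟩
  let e : Sp4 F →* G := L.subtype.comp ψ.symm.toMonoidHom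
  have hr : e.range = L := by
    ext g
    exact ⟨fun ⟨x, hx⟩ => hx ▸ (ψ.symm x).2, fun hg => ⟨ψ ⟨g, hg⟩, by simp [e]⟩⟩
  exact of_cf J h4 f K (e := e) (t := t) ⟨⟨⟨L.subtype_injective.comp ψ.symm.injective, c.inv,
    hr ▸ c.tL, hr ▸ c.ct⟩, hr ▸ c.cyc⟩, c.normal, c.simple, c.cent, c.top, hr ▸ c.le⟩

end H63.SP
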